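import Cfsg.Agent.Lib.HI.Basic

/-!
# Case `α`: local lemmas
-/

set_option autoImplicit false

namespace CfsgLib.HI

open Subgroup Cfsg CfsgLib.FT CfsgLib.FT.BGN CfsgLib.Cop CfsgLib.GW CfsgLib.Wal CfsgLib.GO
open CfsgLib.H1 (AbTwo)
open CfsgLib.FT.U4 (mem_cent1 mem_cent1' mem_cent mem_cent1_comm cent1_conj
  eq_one_of_mem_inf eq_bot_of_forall conj_mem_conj_iff orderOf_conj norm_le_norm_cent)
open scoped commutatorElement

universe u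

variable {G : Type u} [Group G] {X A V L D T K : Subgroup G}

theorem comm_mul_cent {l t c d : G} (hl : l ∈ L) (ht : t ∈ L) (hc : c ∈ 𝐂(L)) (hd : d ∈ 𝐂(L)) :
    ⁅l * c, t * d⁆ = ⁅l, t⁆ * ⁅c, d⁆ := by
  have h1 := mem_cent.1 (mul_mem (mul_mem hc hd) (inv_mem hc)) _ (inv_mem hl)
  have h2 := mem_cent.1 (mul_mem (mul_mem (mul_mem hc hd) (inv_mem hc)) (inv_mem hd)) _ (inv_mem ht)
  calc _ = l * (c * t) * d * c⁻¹ * l⁻¹ * d⁻¹ * t⁻¹ := by simp only [commutatorElement_def]; group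
    _ = l * t * (c * d * c⁻¹ * l⁻¹) * d⁻¹ * t⁻¹ := by rw [← mem_cent.1 hc t ht]; group
    _ = l * t * l⁻¹ * (c * d * c⁻¹ * d⁻¹ * t⁻¹) := by rw [← h1]; group
    _ = _ := by rw [← h2]; simp only [commutatorElement_def]; group

theorem Flag.tA (f : Flag A D T K) : T ≤ A := le_sup_left.trans f.sup.le

theorem Flag.dA (f : Flag A D T K) : D ≤ A := le_sup_right.trans f.sup.le

variable [Finite G]

theorem Flag.exists_ne (f : Flag A D T K) : ∃ t ∈ T, t ≠ 1 :=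
  exists_ne_one_of_card (le_trans (by norm_num) f.four)

theorem Flag.not_le (f : Flag A D T K) : ¬ T ≤ D := fun e =>
  let ⟨_, ht, h1⟩ := f.exists_ne
  h1 (eq_one_of_mem_inf f.inf ht (e ht))

theorem Flag.not_cent (f : Flag A D T K) : ¬ K ≤ 𝐂(T) := fun e => by
  obtain ⟨t, ht, s, hs, hF⟩ := (f.el.mono f.tA).exists_four' f.four
  obtain ⟨k, hk, h1⟩ := f.tr t ht s hs hF.t1 hF.s1
  rw [← mem_cent.1 (e hk) t ht, mul_inv_cancel_right] at h1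
  exact hF.ne h1

theorem Flag.dich (f : Flag A D T K) {B : Subgroup G} (h1 : B ≤ A) (h2 : K ≤ 𝐍(B)) :
    B ≤ D ∨ T ≤ B := or_iff_not_imp_left.2 fun e u hu => by
  obtain ⟨b, hb, h3⟩ := SetLike.not_le_iff_exists.1 e
  obtain ⟨t, ht, d, hd, rfl⟩ := f.el.mem_sup f.tA f.dA (f.sup.ge (h1 hb))
  have t1 : t ≠ 1 := fun e => h3 (by simpa [e] using hd)
  obtain ⟨s, hs, hF⟩ := (f.el.mono f.tA).exists_four f.four ht t1
  obtain ⟨k, hk, h4⟩ := f.tr t ht s hs t1 hF.s1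
  have h5 : s * t⁻¹ ∈ B := by
    convert mul_mem (conj_mem_of_mem_normalizer (h2 hk) hb) (inv_mem hb) using 1
    rw [← _root_.conj_mul, h4, ← mem_cent.1 (f.kc hk) d hd]; group
  by_cases u1 : u = 1
  · rw [u1]; exact one_mem _
  obtain ⟨j, hj, rfl⟩ := f.tr _ (mul_mem hs (inv_mem ht)) u hu
    (fun e => hF.ne (mul_inv_eq_one.1 e).symm) u1
  exact conj_mem_of_mem_normalizer (h2 hj) h5

theorem Flag.sub (f : Flag A D T K) (h1 : T ≤ V) (h2 : V ≤ A) : Flag V (V ⊓ D) T K where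
  el := f.el.mono h2
  inf := by rw [← inf_assoc, inf_of_le_left h1, f.inf]
  sup := le_antisymm (sup_le h1 inf_le_left) fun v hv => by
    obtain ⟨t, ht, d, hd, rfl⟩ := f.el.mem_sup f.tA f.dA (f.sup.ge (h2 hv))
    exact mul_mem (mem_sup_left ht) (mem_sup_right ⟨(mul_mem_cancel_left (h1 ht)).1 hv, hd⟩)
  kn := f.kn
  kc := f.kc.trans (centralizer_le inf_le_right)
  tr := f.tr
  four := f.four

theorem mov_le {Q : Subgroup G} (m : Mov X A L Q K T) (hA : El A) (hV : V ≤ A)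
    (hn : 𝐍(A) ≤ 𝐍(V)) (hm : ¬ V ≤ 𝐂(L)) : T ≤ V :=
  ((mov_flag m hA).dich hV (m.kn.trans hn)).resolve_left fun e => hm (e.trans inf_le_right)

namespace Lo

variable (l : Lo X) (hA : SCin A X) (hL : TC X L)
include l hA hL

theorem two_comm {y : G} (hy : y ∈ Inn X L) (hn : y ∈ 𝐍(A)) (h2 : IsPGroup 2 (zpowers y))
    {a : G} (ha : a ∈ A) : ⁅y, a⁆ ∈ 𝐂(L) := by
  have := Fact.mk Nat.prime_two
  by_cases hm : A ≤ 𝐂(L)
  · exact hm (comm_mem_right hn ha)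
  obtain ⟨P, h1, hP⟩ := IsSylowIn.exists_ge (isPGroup_sup' (zpowers_le.2 hn) hA.el.isPGroup h2)
    (sup_le hA.le (zpowers_le.2 hy.1))
  obtain ⟨K, T, m, -⟩ := l.exists_mov hA hL hm hP (le_sup_left.trans h1)
  obtain ⟨n, h3⟩ := h2 ⟨y, mem_zpowers y⟩
  have h4 : y ∈ 𝐍(L) := sup_le le_normalizer (cent_le_norm L) hy.2
  obtain ⟨q, hq, h5, -⟩ := m.toTor.dec (n := n) hy h4 (inf_normalizer_le_normalizer_inf
    ⟨le_normalizer (h1 (mem_sup_right (mem_zpowers y))), h4⟩)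
    (by rw [show y ^ 2 ^ n = 1 from congrArg Subtype.val h3]; exact one_mem _)
  obtain ⟨t, ht, h6⟩ := m.dec a ha
  have h7 := comm_mul_cent hq.2 (inv_mem (m.tL ht)) h5 h6
  rw [mul_inv_cancel_left, inv_mul_cancel_left] at h7
  exact h7 ▸ mul_mem (commutatorElement_mem_comm (m.cen _ (inv_mem (m.tQ ht))
    (hA.el _ (inv_mem (m.tA ht)) ▸ one_mem _) q hq)) (comm_mem_left h5 (le_normalizer h6))

variable (hV : V ≤ A) (hn : 𝐍(A) ≤ 𝐍(V)) (hm : ¬ V ≤ 𝐂(L))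
include hV hn hm

theorem exists_flag : ∃ T K, Flag A (A ⊓ 𝐂(L)) T K ∧ T ≤ V ⊓ L ∧ K ≤ 𝐍(A) ⊓ L ∧
    Odd (Nat.card K) ∧ (SzT (Zq L) → 8 ≤ Nat.card T) := by
  obtain ⟨Q, K, T, m, -⟩ := l.exists_mov' hA hL fun e => hm (hV.trans e)
  exact ⟨T, K, mov_flag m hA.el, le_inf (mov_le m hA.el hV hn hm) m.tL, le_inf m.kn m.le, m.odd,
    fun hs => let ⟨_, s⟩ := exists_stor hL l.od m.syl hs; s.eight T m.tQ m.cov⟩

theorem cent_le_N : 𝐍(X) ⊓ 𝐂(V) ≤ 𝐍(L) := fun _ hs =>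
  let ⟨_, _, _, m, _⟩ := l.exists_mov' hA hL fun e => hm (hV.trans e)
  mov_norm m hL hs.1 (centralizer_le (mov_le m hA.el hV hn hm) hs.2)

theorem ab_comm (hab : AbTwo (Zq L)) {s k : G} (hs : s ∈ 𝐍(X) ⊓ 𝐂(V))
    (h2 : IsPGroup 2 (zpowers s)) (hk : k ∈ 𝐍(A) ⊓ L) : ⁅s, k⁆ ∈ A := by
  obtain ⟨Q, K, T, m, -⟩ := l.exists_mov' hA hL fun e => hm (hV.trans e)
  obtain ⟨n, h3⟩ := h2 ⟨s, mem_zpowers s⟩
  obtain ⟨t, ht, h4⟩ := mov_dec m hA.el hab (n := n) (l.cent_le_N hA hL hV hn hm hs)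
    (centralizer_le (mov_le m hA.el hV hn hm) hs.2)
    (by rw [show s ^ 2 ^ n = 1 from congrArg Subtype.val h3]; exact one_mem _)
  have h5 := comm_mul_cent (m.tL ht) hk.2 h4 (one_mem _)
  rw [mul_inv_cancel_left, mul_one, commutatorElement_one_right, mul_one] at h5
  exact h5 ▸ comm_mem_left (m.tA ht) hk.1

theorem exists_sz (hc : 𝐂(A) ≤ X) (hz : L ⊓ 𝐂(L) ≠ ⊥) : SzT (Zq L) ∧ ∃ x ∈ 𝐍(A) ⊓ L,
    IsPGroup 2 (zpowers x) ∧ x ∉ 𝐂(V) ∧ ∃ t ∈ V, t ∉ 𝐂(L) ∧ x * t = t * x := by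
  have hm' : ¬ A ≤ 𝐂(L) := fun e => hm (hV.trans e)
  have hs : SzT (Zq L) := (l.kn L hL).resolve_left fun hab =>
    let ⟨_, _, _, m, _⟩ := l.exists_mov' hA hL hm'
    hz (mov_zbot m hA.el hab)
  obtain ⟨Q, K, T, m, s⟩ := l.exists_smov hA hL hm' hs
  have hT := mov_le m hA.el hV hn hm
  obtain ⟨x, hx, h1⟩ := SetLike.not_le_iff_exists.1 fun e => hz (SM.zbot ⟨hA.el, m, s, hc, e⟩)
  have h2 : x ∉ 𝐂(T) := fun e => h1 (mem_cent.2 fun a ha => by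
    obtain ⟨t, ht, h3⟩ := m.dec a ha
    simpa using (Commute.mul_left (Commute.inv_left (mem_cent.1 e t ht))
      (mem_cent.1 h3 x (m.syl.le hx)).symm).eq)
  have h3 : x * x ∉ 𝐂(L) := fun e => by
    obtain ⟨t, ht, h4⟩ := m.cov x hx e
    exact h2 (by simpa using mul_mem (centralizer_le m.tL h4) (hA.el.le_cent' m.tA m.tA ht))
  obtain ⟨t, ht, h4⟩ := m.cov _ (mul_mem hx hx) (s.sq x hx)
  refine ⟨hs, x, ⟨m.qn hx, m.syl.le hx⟩, isPGroup_zpowers_of_mem m.syl.isPGroup hx,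
    fun e => h2 (centralizer_le hT e), t, hT ht, fun e => h3 (by simpa using mul_mem h4 e), ?_⟩
  have h5 : Commute x (x * x * t⁻¹) := mem_cent.1 h4 x (m.syl.le hx)
  simpa [mul_assoc] using
    (h5.inv_right.mul_right ((Commute.refl x).mul_right (Commute.refl x))).eq

end Lo

theorem Lo.inn_of_sz (l : Lo X) (hL : TC X L) (hs : SzT (Zq L)) {y : G} (hy : y ∈ X)
    (hn : y ∈ 𝐍(L)) (h2 : IsPGroup 2 (zpowers y)) : y ∈ Inn X L := by
  have := Fact.mk Nat.prime_two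
  obtain ⟨Q, hQ⟩ := IsSylowIn.exists_in (p := 2) L
  obtain ⟨K, s⟩ := exists_stor hL l.od hQ hs
  obtain ⟨n, h3⟩ := h2 ⟨y, mem_zpowers y⟩
  exact mem_Inn.2 ⟨hy, s.inn y hy hn n
    (by rw [show y ^ 2 ^ n = 1 from congrArg Subtype.val h3]; exact one_mem _)⟩

/-! ### Passing to `X / O(X)` -/

theorem cp_tc (h : Cp X L) : TC ⊤ (im X L) := ⟨subnormalIn_top_iff.2 h.comp.1, h.comp.2⟩

theorem cp_of_tc {J : Subgroup (Bar X)} (h : TC ⊤ J) : Cp X (pre X J) :=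
  cp_pre ⟨subnormalIn_top_iff.1 h.1, h.2⟩

theorem cp_conj (h : Cp X L) (g : G) : Cp (g •ᶜ X) (g •ᶜ L) := by
  have := Fact.mk Nat.prime_two
  let e := X.equivMapOfInjective (MulAut.conj g).toMonoidHom (MulAut.conj g).injective
  let f : Bar X ≃* Bar (g •ᶜ X) := QuotientGroup.congr _ _ e (map_pPrimeCore_equiv 2 e)
  have h1 : im (g •ᶜ X) (g •ᶜ L) = (im X L).map (f : Bar X →* Bar (g •ᶜ X)) := by
    ext y
    constructor
    · rintro ⟨⟨_, x, hx, rfl⟩, ⟨z, hz, e'⟩, rfl⟩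
      obtain rfl : z = x := (MulAut.conj g).injective e'
      exact ⟨_, ⟨⟨z, hx⟩, hz, rfl⟩, rfl⟩
    · rintro ⟨_, ⟨x, hx, rfl⟩, rfl⟩
      exact ⟨e x, ⟨x, hx, rfl⟩, rfl⟩
  refine ⟨h1 ▸ isComponent_map_equiv h.comp f, ?_⟩
  rw [pre_im (map_mono h.le), Od_conj, sup_of_le_right (map_mono h.Od_le)]

theorem cm_conj (hL : L ≤ X) (g : G) : cm (g •ᶜ X) (g •ᶜ L) = g •ᶜ cm X L := by
  have key : ∀ (X L : Subgroup G) (g : G), L ≤ X → g •ᶜ cm X L ≤ cm (g •ᶜ X) (g •ᶜ L) :=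
    fun X L g hL => (le_cm' (map_mono (cm_le X L)) (map_mono hL)).2 (by
      rw [← map_commutator, Od_conj]; exact map_mono ((le_cm' (cm_le X L) hL).1 le_rfl))
  refine le_antisymm (fun x hx => mem_map_conj_iff.2 ?_) (key X L g hL)
  have := key _ _ g⁻¹ (map_mono hL) (conj_mem_map_conj hx)
  rwa [map_conj_inv_map_conj, map_conj_inv_map_conj, inv_inv] at this

theorem two_br {y : G} (hy : y ∈ X) (h : IsPGroup 2 (zpowers y)) :
    IsPGroup 2 (zpowers (br X y)) := im_zpowers hy ▸ pgroup_im h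

theorem exists_two_lift {U : Subgroup G} {y : Bar X} (hy : y ∈ im X U)
    (h : IsPGroup 2 (zpowers y)) : ∃ u ∈ U, u ∈ X ∧ IsPGroup 2 (zpowers u) ∧ br X u = y := by
  have := Fact.mk Nat.prime_two
  obtain ⟨x, h1, h2, rfl⟩ := mem_im.1 hy
  obtain ⟨u, hu, v, hv, e, -, h3, h4⟩ := exists_p_part Nat.prime_two x
  have h5 := zpowers_le.2 h2 hv
  have h6 : br X v = 1 := eq_one_of_odd_pow (isPGroup_zpowers_of_mem h
    (im_zpowers h2 ▸ br_mem_im hv h5)) (Nat.coprime_two_right.1 h4)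
    (by rw [← br_pow h5, pow_orderOf_eq_one, br_one])
  refine ⟨u, zpowers_le.2 h1 hu, zpowers_le.2 h2 hu, isPGroup_zpowers_iff.2 h3, ?_⟩
  conv_rhs => rw [e, br_mul (zpowers_le.2 h2 hu) h5, h6, mul_one]

section Pull

variable (hA : El A) (hX : A ≤ X)
include hA hX

theorem eq_of_br {a b : G} (ha : a ∈ A) (hb : b ∈ A) (h : br X a = br X b) : a = b :=
  mul_inv_eq_one.1 (eq_one_of_br (hA _ (mul_mem ha (inv_mem hb))) (hX (mul_mem ha (inv_mem hb)))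
    (by rw [br_mul (hX ha) (inv_mem (hX hb)), br_inv (hX hb), h, mul_inv_cancel]))

theorem comm_of_br {n a : G} (hn : n ∈ X) (h1 : n ∈ 𝐍(A)) (ha : a ∈ A)
    (h : br X n * br X a = br X a * br X n) : n * a = a * n :=
  mul_inv_eq_iff_eq_mul.1 (eq_of_br hA hX (conj_mem_of_mem_normalizer h1 ha) ha
    (by rw [br_conj hn (hX ha), h, mul_inv_cancel_right]))

theorem cent_of_br {n : G} (hn : n ∈ X) (h1 : n ∈ 𝐍(A)) {B : Subgroup G} (hB : B ≤ A)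
    (h : br X n ∈ 𝐂(im X B)) : n ∈ 𝐂(B) := mem_cent.2 fun b hb =>
  (comm_of_br hA hX hn h1 (hB hb) (mem_cent.1 h _ (br_mem_im hb (hX (hB hb)))).symm).symm

theorem flag_pre {D T K : Subgroup (Bar X)} (f : Flag (im X A) D T K) (hK : K ≤ 𝐍(im X A)) :
    Flag A (A ⊓ pre X D) (A ⊓ pre X T) (𝐍(A) ⊓ pre X K) where
  el := hA
  inf := eq_bot_of_forall fun x hx => eq_one_of_br (hA x hx.1.1) (hX hx.1.1)
    (eq_one_of_mem_inf f.inf (mem_pre.1 hx.1.2).2 (mem_pre.1 hx.2.2).2)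
  sup := le_antisymm (sup_le inf_le_left inf_le_left) fun a ha => by
    obtain ⟨t, ht, d, hd, e⟩ := f.el.mem_sup f.tA f.dA (f.sup.ge (br_mem_im ha (hX ha)))
    obtain ⟨t, h1, h2, rfl⟩ := mem_im.1 (f.tA ht)
    obtain ⟨d, h3, h4, rfl⟩ := mem_im.1 (f.dA hd)
    rw [← eq_of_br hA hX (mul_mem h1 h3) ha ((br_mul h2 h4).trans e)]
    exact mul_mem (mem_sup_left ⟨h1, mem_pre.2 ⟨h2, ht⟩⟩) (mem_sup_right ⟨h3, mem_pre.2 ⟨h4, hd⟩⟩)
  kn := fun k hk => inf_normalizer_le_normalizer_inf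
    ⟨hk.1, mem_norm_pre (mem_pre.1 hk.2).1 (f.kn (mem_pre.1 hk.2).2)⟩
  kc := fun k hk => cent_of_br hA hX (mem_pre.1 hk.2).1 hk.1 inf_le_left (centralizer_le
    ((im_mono inf_le_right).trans (im_pre D).le) (f.kc (mem_pre.1 hk.2).2))
  tr := fun t ht s hs t1 s1 => by
    obtain ⟨k, hk, e⟩ := f.tr _ (mem_pre.1 ht.2).2 _ (mem_pre.1 hs.2).2
      (br_ne_one (hA t ht.1) (hX ht.1) t1) (br_ne_one (hA s hs.1) (hX hs.1) s1)
    obtain ⟨k, h1, h2, rfl⟩ := mem_im.1 ((norm_im hA.isPGroup hX).le (hK hk))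
    exact ⟨k, ⟨h1.2, mem_pre.2 ⟨h2, hk⟩⟩, eq_of_br hA hX (conj_mem_of_mem_normalizer h1.2 ht.1) hs.1
      ((br_conj h2 (hX ht.1)).trans e)⟩
  four := by
    rw [← card_im (hA.mono inf_le_left) (inf_le_left.trans hX), im_inf_pre, inf_of_le_right f.tA]
    exact f.four

theorem lift_norm {M : Subgroup G} (h1 : A ≤ M) (h2 : M ≤ X) {k : G} (hk : k ∈ X ⊓ 𝐍(A))
    (h3 : br X k ∈ im X M) : k ∈ 𝐂(A) ⊔ M := by
  have := Fact.mk Nat.prime_two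
  obtain ⟨m, hm, h4, e⟩ := mem_im.1 h3
  have h5 : IsSylowIn 2 A (M ⊓ pre X (im X A)) := .of_maximal
    (le_inf h1 ((le_pre hX).2 le_rfl)) hA.isPGroup fun R hR _ h7 x hx => by
      obtain ⟨o, ho, a, ha, rfl⟩ := mem_sup_norm (hX.trans (le_norm_Od X))
        ((pre_im hX).le (h7 hx).2)
      rw [Invol.eq_one_of_odd_of_mem hR ((mul_mem_cancel_right (‹A ≤ R› ha)).1 hx)
        (odd_of_mem_Od ho), one_mul]
      exact ha
  obtain ⟨x, hx, h6⟩ := h5.frattini_elem (g := m) (inf_normalizer_le_normalizer_inf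
    ⟨le_normalizer hm, mem_norm_pre h4 (e ▸ im_norm le_rfl (br_mem_im hk.2 hk.1))⟩)
  have h7 := mem_pre.1 hx.2
  have h8 := cent_of_br hA hX (mul_mem (mul_mem h7.1 h4) (inv_mem hk.1)) (mul_mem h6 (inv_mem hk.2))
    le_rfl (by
      rw [br_mul (mul_mem h7.1 h4) (inv_mem hk.1), br_mul h7.1 h4, br_inv hk.1, e,
        mul_inv_cancel_right]
      exact hA.im.le_cent h7.2)
  simpa [mul_assoc] using
    mul_mem (inv_mem (mem_sup_left h8)) (mem_sup_right (mul_mem hx.1 hm))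

end Pull

theorem cover (hL : Cp X L) {d t : G} (h1 : d * d = 1) (hd : d ∈ cm X L) {W : Subgroup G}
    (hW : X ⊓ 𝐂[d] ≤ 𝐍(W)) (ht : t ∈ W ⊓ (X ⊓ 𝐂[d])) (h2 : t ∈ L) (h3 : t ∉ cm X L) :
    im X L ≤ im X (W ⊓ (X ⊓ 𝐂[d])) := by
  have h4 : im X L ≤ 𝐍(im X (W ⊓ (X ⊓ 𝐂[d]))) := le_trans
    ((le_cent1_iff.2 (mem_cm.1 hd).2).trans (cent1_br h1 (cm_le X L hd)).le)
    (im_norm (H1.le_normalizer_inf hW le_normalizer))
  rcases (SubnormalIn.of_le_normalizer inf_le_left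
    (H1.le_normalizer_inf le_normalizer h4)).eq_or_le_centralizer hL.comp.2 with e | e
  · exact e.ge.trans inf_le_right
  · exact absurd (mem_cm.2 ⟨ht.2.1, e ⟨br_mem_im h2 ht.2.1, br_mem_im ht ht.2.1⟩⟩) h3

end CfsgLib.HI
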