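import Cfsg.Agent.Lib.HI.Shape
import Cfsg.Agent.Lib.HI.AlLoc

/-!
# Case `α`: no component is moved
-/

set_option autoImplicit false

namespace CfsgLib.HI

open Subgroup Cfsg CfsgLib.FT CfsgLib.FT.BGN CfsgLib.Cop CfsgLib.GW CfsgLib.Wal CfsgLib.GO
open CfsgLib.H1 (AbTwo)
open CfsgLib.FT.U4 (mem_cent1 mem_cent1' mem_cent mem_cent1_comm cent1_conj
  eq_one_of_mem_inf eq_bot_of_forall conj_mem_conj_iff orderOf_conj norm_le_norm_cent)
open scoped commutatorElement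

universe u

variable {G : Type u} [Group G]

/-- The largest subgroup of `N ⊓ H` normalized by `N`. -/
def cor (N H : Subgroup G) : Subgroup G where
  carrier := {g | g ∈ N ∧ ∀ n ∈ N, n * g * n⁻¹ ∈ H}
  mul_mem' := fun ha hb => ⟨mul_mem ha.1 hb.1, fun n hn => by
    rw [← _root_.conj_mul]; exact mul_mem (ha.2 n hn) (hb.2 n hn)⟩
  one_mem' := ⟨one_mem _, fun n _ => by simp⟩
  inv_mem' := fun ha => ⟨inv_mem ha.1, fun n hn => by
    rw [← conj_inv]; exact inv_mem (ha.2 n hn)⟩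

theorem cor_le {N H : Subgroup G} : cor N H ≤ N ⊓ H := fun _ h =>
  ⟨h.1, by simpa using h.2 1 (one_mem N)⟩

theorem le_norm_cor {N H : Subgroup G} : N ≤ 𝐍(cor N H) := le_normalizer_iff.2 fun g hg x hx =>
  ⟨mul_mem (mul_mem hg hx.1) (inv_mem hg), fun n hn => by
    convert hx.2 _ (mul_mem hn hg) using 1; group⟩

/-- The hypotheses of case `α`. -/
structure Al (Zs : Set G) (S A V : Subgroup G) : Prop extends MH G Zs where
  sa : SCA S A
  le : V ≤ A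
  nv : 𝐍(A) ≤ 𝐍(V)
  irr : ∀ C ≤ V, 𝐍(A) ≤ 𝐍(C) → C = ⊥ ∨ C = V
  al : NO A ≤ 𝐂(V)

/-- `L / O(C(d))` is a component of `C(d) / O(C(d))` moved by `V`. -/
structure Mv (V : Subgroup G) (d : G) (L : Subgroup G) : Prop where
  mem : d ∈ V
  ne : d ≠ 1
  cp : Cp 𝐂[d] L
  mv : ¬ V ≤ cm 𝐂[d] L

/-- The centralizer in `A` of the component. -/
def dd (A : Subgroup G) (d : G) (L : Subgroup G) : Subgroup G := A ⊓ cm 𝐂[d] L

/-- The flag of a moved component. -/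
structure Fg (A V : Subgroup G) (d : G) (L T K : Subgroup G) : Prop
    extends Flag A (dd A d L) T K where
  tv : T ≤ V ⊓ L
  kl : K ≤ 𝐍(A) ⊓ L
  odd : ∀ k ∈ K, Odd (orderOf k)
  sz : SzT (Zq (im 𝐂[d] L)) → 8 ≤ Nat.card T

variable [Finite G] {Zs : Set G} {S A V L L' T K : Subgroup G} {d d' : G}

theorem le_Od_of_cent {R : Subgroup G} (h1 : K ≤ R) (h2 : ∀ k ∈ K, Odd (orderOf k))
    (h3 : ∀ k ∈ K, ∀ y ∈ R, IsPGroup 2 (zpowers y) → y * k = k * y) : K ≤ Od R := by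
  have := Fact.mk Nat.prime_two
  let C := R ⊓ centralizer {y | y ∈ R ∧ IsPGroup 2 (zpowers y)}
  have h4 : Nilp2 C := nilp2_of_hnpc (FrobNPC.hnpc_of_primePow_centralizes
    fun E hE _ g _ _ _ _ _ _ => mem_cent.2 fun y hy => Subtype.ext (g.2.2 y ⟨y.2.1,
      MonoidHom.map_zpowers C.subtype y ▸ (isPGroup_zpowers_of_mem hE hy).map C.subtype⟩))
  refine fun k hk => Od_le_Od inf_le_left (fun g hg => mem_normalizer_of_conj_mem fun c hc =>
    ⟨R.mul_mem (R.mul_mem hg hc.1) (R.inv_mem hg), fun y hy => ?_⟩)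
    (h4 k ⟨h1 hk, fun y hy => h3 k hk y hy.1 hy.2⟩ (h2 k hk))
  have := hc.2 (g⁻¹ * y * g⁻¹⁻¹) ⟨mul_mem (mul_mem (inv_mem hg) hy.1) (inv_mem (inv_mem hg)),
    cj_zpowers g⁻¹ y ▸ hy.2.map _⟩
  calc _ = g * (g⁻¹ * y * g⁻¹⁻¹ * c) * g⁻¹ := by group
    _ = _ := by rw [this]; group

theorem exists_two_lift' {H : Type*} [Group H] (f : G →* H) (x : G)
    (h : IsPGroup 2 (zpowers (f x))) : ∃ u, IsPGroup 2 (zpowers u) ∧ f u = f x := by
  have := Fact.mk Nat.prime_two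
  obtain ⟨u, -, v, hv, e, -, h3, h4⟩ := exists_p_part Nat.prime_two x
  have h6 : f v = 1 := eq_one_of_odd_pow (isPGroup_zpowers_of_mem h
    (MonoidHom.map_zpowers f x ▸ mem_map_of_mem f hv)) (Nat.coprime_two_right.1 h4)
    (by rw [← map_pow, pow_orderOf_eq_one, map_one])
  refine ⟨u, isPGroup_zpowers_iff.2 h3, ?_⟩
  conv_rhs => rw [e, map_mul, h6, mul_one]

theorem Mv.conj (m : Mv V d L) {n : G} (hn : n ∈ 𝐍(V)) : Mv V (n * d * n⁻¹) (n •ᶜ L) where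
  mem := conj_mem_of_mem_normalizer hn m.mem
  ne := by simpa using m.ne
  cp := cent1_conj n d ▸ cp_conj m.cp n
  mv := fun e => m.mv fun v hv => by
    rw [cent1_conj, cm_conj m.cp.le] at e
    exact conj_mem_conj_iff.1 (e (conj_mem_of_mem_normalizer hn hv))

theorem Mv.dd_conj (m : Mv V d L) {n : G} (hn : n ∈ 𝐍(A)) :
    dd A (n * d * n⁻¹) (n •ᶜ L) = n •ᶜ dd A d L := by
  rw [dd, dd, cent1_conj, cm_conj m.cp.le, map_conj_inf, map_conj_eq_of_mem_normalizer hn]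

namespace Al

variable (h : Al Zs S A V) (m : Mv V d L)
include h m

theorem aX : A ≤ 𝐂[d] := h.sa.el.le_cent1 (h.le m.mem)

theorem lo : Lo (⊤ : Subgroup (Bar 𝐂[d])) := h.lo_bar (h.cent1_ne m.ne)

theorem sc : SCin (im 𝐂[d] A) ⊤ := (h.sa.scin (h.aX m)).bar

theorem nv' : 𝐍(im 𝐂[d] A) ≤ 𝐍(im 𝐂[d] V) :=
  (norm_im h.sa.el.isPGroup (h.aX m)).le.trans (im_norm (inf_le_right.trans h.nv))

theorem mv' : ¬ im 𝐂[d] V ≤ 𝐂(im 𝐂[d] L) := fun e => m.mv ((le_cm (h.le.trans (h.aX m))).2 e)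

theorem mem_dd : d ∈ V ⊓ dd A d L := ⟨m.mem, h.le m.mem, m.cp.mem_cm⟩

theorem exists_fg : ∃ T K, Fg A V d L T K := by
  obtain ⟨T, K, f, h1, h2, h3, h4⟩ := (h.lo m).exists_flag (h.sc m) (cp_tc m.cp) (im_mono h.le)
    (h.nv' m) (h.mv' m)
  have hX := h.aX m
  have f' := flag_pre h.sa.el hX f (h2.trans inf_le_left)
  have e : A ⊓ pre 𝐂[d] (im 𝐂[d] A ⊓ 𝐂(im 𝐂[d] L)) = dd A d L := by
    ext x
    rw [dd, mem_inf, mem_inf, mem_pre, mem_cm]
    exact and_congr_right fun hx => and_congr_right fun h5 => and_iff_right (br_mem_im hx h5)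
  rw [e] at f'
  refine ⟨_, _, f', fun t ht => ?_, fun k hk => ⟨hk.1, m.cp.mem_iff.2 ⟨(mem_pre.1 hk.2).1,
    (h2 (mem_pre.1 hk.2).2).2⟩⟩, fun k hk => ?_, fun hs => ?_⟩
  · obtain ⟨h5, h6⟩ := mem_pre.1 ht.2
    obtain ⟨v, hv, -, e⟩ := mem_im.1 (h1 h6).1
    exact ⟨eq_of_br h.sa.el hX (h.le hv) ht.1 e ▸ hv, m.cp.mem_iff.2 ⟨h5, (h1 h6).2⟩⟩
  · obtain ⟨h5, h6⟩ := mem_pre.1 hk.2
    have := odd_of_map (f := pr 𝐂[d]) (by rw [QuotientGroup.ker_mk']; exact odd_ker)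
      (x := ⟨k, h5⟩) (br_of_mem h5 ▸ odd_orderOf_of_mem h3 h6)
    rwa [Subgroup.orderOf_mk] at this
  · rw [← card_im (h.sa.el.mono inf_le_left) (inf_le_left.trans hX), im_inf_pre,
      inf_of_le_right f.tA]
    exact h4 hs

theorem two_comm {y : G} (h1 : y ∈ 𝐂[d]) (hy : br 𝐂[d] y ∈ Inn ⊤ (im 𝐂[d] L)) (hn : y ∈ 𝐍(A))
    (h2 : IsPGroup 2 (zpowers y)) {a : G} (ha : a ∈ A) : ⁅y, a⁆ ∈ dd A d L :=
  ⟨comm_mem_right hn ha, mem_cm.2 ⟨h.aX m (comm_mem_right hn ha), by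
    rw [br_comm h1 (h.aX m ha)]
    exact (h.lo m).two_comm (h.sc m) (cp_tc m.cp) hy (im_norm le_rfl (br_mem_im hn h1))
      (two_br h1 h2) (br_mem_im ha (h.aX m ha))⟩⟩

theorem two_comm' {y : G} (hy : y ∈ 𝐍(A) ⊓ L) (h2 : IsPGroup 2 (zpowers y)) {a : G} (ha : a ∈ A) :
    ⁅y, a⁆ ∈ dd A d L :=
  h.two_comm m (m.cp.le hy.2) ⟨mem_top _, mem_sup_left (m.cp.mem_iff.1 hy.2).2⟩ hy.1 h2 ha

theorem uniq (m' : Mv V d L') (e : dd A d L' ≤ dd A d L) : L = L' :=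
  let ⟨_, _, f⟩ := h.exists_fg m
  (m.cp.eq_or_le m'.cp).resolve_right fun e' => f.not_le
    ((le_inf f.tA ((f.tv.trans inf_le_right).trans e')).trans e)

theorem norm_L {n : G} (hn : n ∈ 𝐍(A)) (h1 : n ∈ 𝐂[d]) (h2 : n •ᶜ dd A d L = dd A d L) :
    n ∈ 𝐍(L) := by
  have h3 := m.conj (h.nv hn)
  have h4 := m.dd_conj hn
  rw [mem_cent1.1 h1, mul_inv_cancel_right] at h3 h4
  exact mem_normalizer_of_map_conj_eq (h.uniq m h3 (h4.trans h2).le).symm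

theorem cent_le_N : 𝐂(V) ≤ 𝐍(L) := fun _ hs =>
  have h1 := cent_le_cent1 m.mem hs
  m.cp.mem_norm h1 ((h.lo m).cent_le_N (h.sc m) (cp_tc m.cp) (im_mono h.le) (h.nv' m) (h.mv' m)
    ⟨le_normalizer (mem_top _), im_cent le_rfl (br_mem_im hs h1)⟩)

variable (f : Fg A V d L T K)
include f

theorem pump (hd : d' ∈ V ⊓ dd A d L) (h1 : d' ≠ 1) :
    ∃ L', Mv V d' L' ∧ dd A d' L' ≤ dd A d L ∧ K ≤ 𝐍(L') := by
  have := Fact.mk Nat.prime_two
  have hE := h.sa.el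
  have hX := h.aX m
  have hX' := hE.le_cent1 hd.2.1
  have l := h.lo_bar (h.cent1_ne h1)
  have sc := (h.sa.scin hX').bar
  obtain ⟨t, ht, t1⟩ := f.exists_ne
  have tA := f.tA ht
  have h2 : t ∉ cm 𝐂[d] L := fun e => t1 (eq_one_of_mem_inf f.inf ht ⟨tA, e⟩)
  have cv := fun {W : Subgroup G} (hW : 𝐂[d'] ≤ 𝐍(W)) (e : t ∈ W) =>
    cover m.cp (hE _ hd.2.1) hd.2.2 (inf_le_right.trans hW) ⟨e, hX tA, hX' tA⟩ (f.tv ht).2 h2
  obtain ⟨J, hJ, h3⟩ : ∃ J, TC ⊤ J ∧ br 𝐂[d'] t ∉ 𝐂(J) := by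
    by_contra! h3
    refine (cp_tc m.cp).not_solv (isSolvable_of_le (solv_im (isSolvable_of_le (solv_of_im (pre_le _)
      ?_) inf_le_left)) (cv (le_norm_pre le_rfl (le_top.trans (H1.le_normalizer_pCoreOf ⊤)))
        (mem_pre.2 ⟨hX' tA, l.mem_pc sc (br_mem_im tA (hX' tA)) h3⟩)))
    rw [im_pre]
    exact solvable_of_isPGroup (H1.pCoreOf_isPGroup ⊤)
  have c := cp_of_tc hJ
  have h4 : t ∉ cm 𝐂[d'] (pre 𝐂[d'] J) := fun e => h3 (im_pre J ▸ (mem_cm.1 e).2)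
  have m' : Mv V d' (pre 𝐂[d'] J) := ⟨hd.1, h1, c, fun e => h4 (e (f.tv ht).1)⟩
  generalize pre 𝐂[d'] J = L' at c h4 m'
  have h5 : A ≤ cor 𝐂[d'] 𝐍(L') := fun a ha => ⟨hX' ha, fun n hn => by
    have c' := c.cj (inv_mem hn)
    have := c'.le_norm hX' (l.norm_tc sc (cp_tc c')) ha
    rwa [normalizer_map_conj, mem_map_conj_iff, inv_inv] at this⟩
  have h6 : K ≤ 𝐍(L') := fun k hk => sup_le ((centralizer_le h.le).trans (h.cent_le_N m'))
    (inf_le_left.trans (cor_le.trans inf_le_right))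
    (lift_norm hE hX (le_inf h5 (le_inf hX hX')) (inf_le_right.trans inf_le_left)
      ⟨m.cp.le (f.kl hk).2, (f.kl hk).1⟩
      (cv le_norm_cor (h5 tA) (br_mem_im (f.kl hk).2 (m.cp.le (f.kl hk).2))))
  exact ⟨L', m', (f.dich inf_le_left (H1.le_normalizer_inf (f.kl.trans inf_le_left)
    ((le_inf (f.kc.trans (cent_le_cent1 hd.2)) h6).trans norm_le_norm_cm))).resolve_right
      fun e => h4 (e ht).2, h6⟩

variable (hmin : ∀ d' L', Mv V d' L' → Nat.card (dd A d L) ≤ Nat.card (dd A d' L'))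
include hmin

theorem pump' (hd : d' ∈ V ⊓ dd A d L) (h1 : d' ≠ 1) :
    ∃ L', Mv V d' L' ∧ dd A d' L' = dd A d L ∧ T ≤ L' := by
  obtain ⟨L', m', h2, h3⟩ := h.pump m f hd h1
  have h4 := eq_of_le_of_card_ge h2 (hmin _ _ m')
  obtain ⟨T', K', f'⟩ := h.exists_fg m'
  exact ⟨L', m', h4, ((f.dich inf_le_left (H1.le_normalizer_inf (f.kl.trans inf_le_left)
    h3)).resolve_left fun e => f'.not_le ((le_inf f'.tA (f'.tv.trans inf_le_right)).trans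
      (e.trans h4.ge))).trans inf_le_right⟩

theorem orth {n : G} (hn : n ∈ 𝐍(A)) (h1 : V ⊓ dd A d L ⊓ n •ᶜ dd A d L ≠ ⊥) :
    n •ᶜ dd A d L = dd A d L ∨ (T ≤ n •ᶜ dd A d L ∧ n •ᶜ T ≤ dd A d L) := by
  obtain ⟨_, ⟨h2, x, hx, rfl⟩, h3⟩ := exists_mem_ne_one h1
  obtain ⟨L1, m1, e1, t1⟩ := h.pump' m f hmin h2 h3
  obtain ⟨L2, m2, e2, t2⟩ := h.pump' m f hmin (d' := x) ⟨by
    simpa [mul_assoc] using conj_mem_of_mem_normalizer' (h.nv hn) h2.1, hx⟩ (by simpa using h3)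
  have m3 := m2.conj (h.nv hn)
  have e3 := m2.dd_conj hn
  rw [e2] at e3
  rcases m1.cp.eq_or_le m3.cp with rfl | e
  · exact Or.inl (e3.symm.trans e1)
  rcases m3.cp.eq_or_le m1.cp with rfl | e'
  · exact Or.inl (e3.symm.trans e1)
  exact Or.inr ⟨(le_inf f.tA (t1.trans e)).trans e3.le, (le_inf ((map_mono f.tA).trans
    (map_conj_eq_of_mem_normalizer hn).le) ((map_mono t2).trans e')).trans e1.le⟩

theorem eq_dd {n : G} (hn : n ∈ 𝐍(A)) (h1 : n •ᶜ (V ⊓ dd A d L) = V ⊓ dd A d L) :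
    n •ᶜ dd A d L = dd A d L := by
  rw [map_conj_inf, map_conj_eq_of_mem_normalizer (h.nv hn)] at h1
  exact (h.orth m f hmin hn (ne_bot_of_mem ⟨h.mem_dd m, (h1.ge (h.mem_dd m)).2⟩
    m.ne)).resolve_right fun e => f.not_le
      ((le_inf (f.tv.trans inf_le_left) e.1).trans (h1.le.trans inf_le_right))

omit hmin in
theorem case1 (H : ∀ n ∈ 𝐍(A), n •ᶜ dd A d L = dd A d L ∨
    (T ≤ n •ᶜ dd A d L ∧ n •ᶜ T ≤ dd A d L)) : False := by
  set D := dd A d L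
  have h1 : 𝐍(A) ⊓ 𝐂(D) ≤ cor 𝐍(A) 𝐍(D) := fun c hc => ⟨hc.1, fun n hn => by
    have h2 : n * c * n⁻¹ ∈ 𝐂(n •ᶜ D) := centralizer_map_conj n D ▸ conj_mem_map_conj hc.2
    rcases H n hn with e | e
    · exact cent_le_norm D (e ▸ h2)
    refine (H _ (mul_mem (mul_mem hn hc.1) (inv_mem hn))).elim mem_normalizer_of_map_conj_eq
      fun e' => absurd ?_ f.not_le
    rw [map_conj_eq_of_mem_normalizer (cent_le_norm T (centralizer_le e.1 h2))] at e'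
    exact e'.2⟩
  have h2 : 𝐍(A) ⊓ 𝐂(D) ≤ 𝐍(L) := fun c hc => h.norm_L m hc.1 (cent_le_cent1 (h.mem_dd m).2 hc.2)
    (map_conj_eq_of_mem_normalizer (cent_le_norm D hc.2))
  have h3 : V ⊓ cor 𝐍(A) D = ⊥ := (h.irr _ inf_le_left (H1.le_normalizer_inf h.nv
    le_norm_cor)).resolve_right fun e => f.not_le ((f.tv.trans inf_le_left).trans
      (e.ge.trans (inf_le_right.trans (cor_le.trans inf_le_right))))
  have h4 : Odd (Nat.card (au A (𝐍(A) ⊓ 𝐂(D) ⊓ L))) := by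
    rw [card_au (inf_le_left.trans inf_le_left)]
    refine odd_relIndex_of_two fun x hx h5 => ?_
    rw [← f.sup]
    refine zpowers_le.1 (le_centralizer_iff.1 (sup_le (fun t ht => (cent_zpowers x).ge (mem_cent1'.2
      (commutatorElement_eq_one_iff_mul_comm.1 (eq_one_of_mem_inf h3
        (comm_mem_right (h.nv hx.1.1) (f.tv ht).1) ⟨le_normalizer
          (comm_mem_right hx.1.1 (f.tA ht)), fun n hn => ?_⟩))))
      (le_centralizer_iff.1 (zpowers_le.2 hx.1.2))))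
    rcases H _ (inv_mem hn) with e | e
    · simpa using mem_map_conj_iff.1 (e.ge (h.two_comm' m ⟨hx.1.1, hx.2⟩ h5 (f.tA ht)))
    · rw [conjugate_commutatorElement]
      exact comm_mem_right ((h1 hx.1).2 n hn) (by simpa using mem_map_conj_iff.1 (e.1 ht))
  refine f.not_cent (le_trans ?_ (h.al.trans (centralizer_le (f.tv.trans inf_le_left))))
  refine (le_NO_iff (f.kl.trans inf_le_left)).2 ((au_mono (le_inf (le_inf (f.kl.trans inf_le_left)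
    f.kc) (f.kl.trans inf_le_right))).trans ((le_Od (au_mono inf_le_left) (au_le_norm
      (H1.le_normalizer_inf le_normalizer h2)) h4).trans ((Od_le_Od (au_mono h1) (au_le_norm
        (H1.le_normalizer_inf (cor_le.trans (inf_le_left.trans le_normalizer))
          (H1.le_normalizer_centralizer (cor_le.trans inf_le_right))))).trans
      (Od_le_Od (au_mono (cor_le.trans inf_le_left)) (au_le_norm le_norm_cor)))))

theorem inf_eq_bot (s : Spread V 𝐍(A) (V ⊓ dd A d L)) : V ⊓ dd A d L ⊓ L = ⊥ := by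
  by_contra h0
  have hE := h.sa.el
  have hX := h.aX m
  obtain ⟨z, hz, z1⟩ := exists_mem_ne_one h0
  obtain ⟨hs, x, hx, h1, h2, t, ht, h3, h4⟩ := (h.lo m).exists_sz (h.sc m) (cp_tc m.cp)
    (im_mono h.le) (h.nv' m) (h.mv' m) le_top (ne_bot_of_mem
      ⟨(m.cp.mem_iff.1 hz.2).2, (mem_cm.1 hz.1.2.2).2⟩
      (br_ne_one (hE z hz.1.2.1) (hX hz.1.2.1) z1))
  obtain ⟨x, h5, h6, h7, rfl⟩ := exists_two_lift ((norm_im hE.isPGroup hX).le hx.1) h1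
  obtain ⟨t, h8, h9, rfl⟩ := mem_im.1 ht
  have xt := comm_of_br hE hX h6 h5.2 (h.le h8) h4
  obtain ⟨n, hn, e, he, rfl⟩ := s.cov t h8
  have b1 := (s.ti n hn).resolve_left fun e' =>
    h3 (mem_cm.1 (e'.le (conj_mem_map_conj he)).2.2).2
  have b2 : n⁻¹ * x * n⁻¹⁻¹ ∈ 𝐍(A) := conj_mem_of_mem_normalizer (le_normalizer (inv_mem hn)) h5.2
  have b3 : IsPGroup 2 (zpowers (n⁻¹ * x * n⁻¹⁻¹)) := cj_zpowers n⁻¹ x ▸ h7.map _
  obtain ⟨y, rfl⟩ : ∃ y, x = n * y * n⁻¹ := ⟨n⁻¹ * x * n, by group⟩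
  rw [show n⁻¹ * (n * y * n⁻¹) * n⁻¹⁻¹ = y by group] at b2 b3
  have b4 : y * e * y⁻¹ = e := by
    rw [mul_inv_eq_iff_eq_mul, ← (MulAut.conj n).injective.eq_iff, map_mul, map_mul]; exact xt
  have b5 := (s.ti y b2).resolve_right (ne_bot_of_mem ⟨he, b4 ▸ conj_mem_map_conj he⟩
    fun e' => h3 (by rw [e', map_one, br_one]; exact one_mem _))
  have b6 : ∀ v ∈ V, ⁅y, v⁆ ∈ dd A d L → y * v = v * y := fun v hv b => by
    have := eq_one_of_mem_inf b1 ⟨conj_mem_of_mem_normalizer (h.nv hn) (comm_mem_right (h.nv b2) hv),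
      conjugate_commutatorElement y v n ▸ h.two_comm' m ⟨h5.2, m.cp.mem_iff.2 ⟨h6, hx.2⟩⟩ h7
        (conj_mem_of_mem_normalizer hn (h.le hv))⟩
      (conj_mem_map_conj ⟨comm_mem_right (h.nv b2) hv, b⟩)
    exact commutatorElement_eq_one_iff_mul_comm.1 (conj_eq_one_iff.1 this)
  have b7 : y ∈ 𝐂[d] := mem_cent1.2 (b6 d m.mem
    (comm_mem_right (mem_normalizer_of_map_conj_eq b5) (h.mem_dd m)).2)
  have b8 := (h.lo m).inn_of_sz (cp_tc m.cp) hs (mem_top _) (im_norm le_rfl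
    (br_mem_im (h.norm_L m b2 b7 (h.eq_dd m f hmin b2 b5)) b7)) (two_br b7 b3)
  exact h2 (im_cent le_rfl (br_mem_im (conj_mem_of_mem_normalizer (norm_le_norm_cent V (h.nv hn))
    (mem_cent.2 fun v hv => (b6 v hv (h.two_comm m b7 b8 b2 b3 (h.le hv))).symm)) h6))

theorem sh : Sh V 𝐍(A) (V ⊓ dd A d L) T K :=
  { f.toFlag.sub (f.tv.trans inf_le_left) h.le with
    nv := h.nv
    kN := f.kl.trans inf_le_left
    vN := h.le.trans le_normalizer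
    irr := h.irr
    two := fun _ => h.le_of_two h.sa
    ne := ne_bot_of_mem (h.mem_dd m) m.ne }

theorem case2 (s : Spread V 𝐍(A) (V ⊓ dd A d L)) : False := by
  have hE := h.sa.el
  have hX := h.aX m
  have h1 : V ⊓ L ≤ T := fun v hv => by
    obtain ⟨t, ht, e, he, rfl⟩ := hE.mem_sup f.tA f.dA (f.sup.ge (h.le hv.1))
    have := (mul_mem_cancel_left (f.tv ht)).1 hv
    rwa [eq_one_of_mem_inf (h.inf_eq_bot m f hmin s) ⟨this.1, he⟩ this.2, mul_one]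
  obtain ⟨h2, -, h3⟩ := (h.sh m f hmin).shape2 s fun n hn => by
    obtain ⟨L', m', e, h2⟩ := h.pump' m f hmin (conj_mem_of_mem_normalizer hn.2 (h.mem_dd m))
      (by simpa using m.ne)
    rw [h.uniq m' (m.conj (h.nv hn.1)) (((m.dd_conj hn.1).trans
      (h.eq_dd m f hmin hn.1 (map_conj_eq_of_mem_normalizer hn.2))).trans e.symm).le] at h2
    refine inv_mem_iff.1 (mem_normalizer_of_conj_mem fun t ht => h1 ⟨?_, ?_⟩)
    · exact conj_mem_of_mem_normalizer (inv_mem (h.nv hn.1)) (f.tv ht).1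
    · simpa using mem_map_conj_iff.1 (h2 ht)
  have hab := ((h.lo m).kn _ (cp_tc m.cp)).resolve_right fun e => by have := f.sz e; omega
  refine f.not_cent (le_trans ?_ (h.al.trans (centralizer_le (f.tv.trans inf_le_left))))
  refine (le_NO_iff (f.kl.trans inf_le_left)).2 (le_Od_of_cent (au_mono (f.kl.trans inf_le_left))
    ?_ ?_)
  · rintro _ ⟨k, hk, rfl⟩
    exact (f.odd k hk).of_dvd_nat ((orderOf_map_dvd _ _).trans (orderOf_coe k).symm.dvd)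
  rintro _ ⟨k, hk, rfl⟩ _ ⟨y, -, rfl⟩ h4
  obtain ⟨u, h5, e⟩ := exists_two_lift' _ y h4
  replace h5 : IsPGroup 2 (zpowers (u : G)) := MonoidHom.map_zpowers (𝐍(A)).subtype u ▸ h5.map _
  have h6 := mem_cent_of_odd h.nv h2 u.2 h5
  have h7 := cent_le_cent1 m.mem h6
  have h8 := m.cp.le (f.kl hk).2
  rw [← e, ← commutatorElement_eq_one_iff_mul_comm, ← map_commutatorElement, ← MonoidHom.mem_ker,
    normalizerMonoidHom_ker]
  refine cent_of_br hE hX (comm_mem_left h7 (le_normalizer h8)) (⁅u, k⁆).2 le_rfl ?_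
  rw [br_comm h7 h8]
  exact hE.im.le_cent ((h.lo m).ab_comm (h.sc m) (cp_tc m.cp) (im_mono h.le) (h.nv' m) (h.mv' m) hab
    ⟨le_normalizer (mem_top _), im_cent le_rfl (br_mem_im h6 h7)⟩ (two_br h7 h5)
    ⟨im_norm le_rfl (br_mem_im k.2 h8), br_mem_im (f.kl hk).2 h8⟩)

theorem false_of_min : False := by
  have key : ∀ n ∈ 𝐍(A), n •ᶜ (V ⊓ dd A d L) = V ⊓ n •ᶜ dd A d L := fun n hn => by
    rw [map_conj_inf, map_conj_eq_of_mem_normalizer (h.nv hn)]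
  rcases (h.sh m f hmin).shape1 fun n hn h1 => (h.orth m f hmin hn fun e => h1 (le_bot_iff.1
    ((inf_le_inf_left _ (map_mono inf_le_right)).trans e.le))).imp (fun e => by rw [key n hn, e])
      fun e => ⟨(le_inf (f.tv.trans inf_le_left) e.1).trans (key n hn).ge, le_inf
        ((map_mono (f.tv.trans inf_le_left)).trans (map_conj_eq_of_mem_normalizer (h.nv hn)).le)
        e.2⟩ with H | s
  · exact h.case1 m f fun n hn => (H n hn).imp (h.eq_dd m f hmin hn) fun e =>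
      ⟨e.1.trans (map_mono inf_le_right), e.2.trans inf_le_right⟩
  · exact h.case2 m f hmin s

end Al

theorem CV.noMv (h : CV Zs S V) (ha : Alpha (zs Zs S) V) : NoMv V := fun v hv v1 J hJ => by
  have h' : Al Zs S (zs Zs S) V := ⟨h.toMH, h.sa, h.le, h.nv, h.irr, alpha_iff.1 ha⟩
  by_contra e
  obtain ⟨⟨d, L⟩, hm⟩ := exists_minimalFor_of_wellFoundedLT (fun p : G × Subgroup G => Mv V p.1 p.2)
    (fun p => Nat.card (dd (zs Zs S) p.1 p.2)) ⟨(v, pre 𝐂[v] J), hv, v1, cp_of_tc hJ, fun e' =>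
      e (im_pre J ▸ (le_cm (h.sv.el.le_cent1 hv)).1 e')⟩
  obtain ⟨T, K, f⟩ := h'.exists_fg hm.1
  exact h'.false_of_min hm.1 f fun d' L' m' => hm.le (j := (d', L')) m'

end CfsgLib.HI
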