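import Cfsg.Agent.Lib.HI.Cls

/-!
# Tori and inner automorphisms of the known simple groups
-/

set_option autoImplicit false

namespace CfsgLib.HI

open Subgroup Cfsg CfsgLib.FT CfsgLib.FT.BGN CfsgLib.Cop CfsgLib.GW CfsgLib.Wal CfsgLib.GO
open CfsgLib.H1 (AbTwo)
open CfsgLib.FT.U4 (mem_cent1 mem_cent1' mem_cent mem_cent1_comm eq_one_of_mem_inf
  eq_bot_of_forall)

universe u

variable {Y : Type u} [Group Y]

/-- The torus `⟨d⟩` is normalized, in its action on the involutions of `Q`, by all automorphisms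
fixing `Q`. -/
def NK (Q : Subgroup Y) (d : Y) : Prop := ∀ σ : MulAut Y, (∀ x ∈ Q, σ x ∈ Q) →
  ∃ k ∈ zpowers d, ∀ x ∈ Q, x * x = 1 → σ d * x * (σ d)⁻¹ = k * x * k⁻¹

variable [Finite Y]

theorem mem_of_ab {K P : Subgroup Y} [hK : K.Normal] [IsSimpleGroup K]
    (hn : ¬ IsMulCommutative K) (hc : 𝐂(K) = ⊥) {s : Y} (ht : K ⊔ zpowers s = ⊤)
    (hP : IsSylowIn 2 P ⊤) (hsP : s ∈ P) (h5 : P ⊓ K ≤ 𝐂(P ⊓ K)) (h4 : s ∈ 𝐂(P ⊓ K)) : s ∈ K := by
  have := Fact.mk Nat.prime_two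
  have hnK : ∀ g, g ∈ 𝐍(K) := fun g => by rw [normalizer_eq_top]; trivial
  have h1 := zpowers_le.2 hsP
  obtain ⟨n, hs⟩ := hP.isPGroup ⟨s, hsP⟩
  replace hs : s ^ 2 ^ n = 1 := congrArg Subtype.val hs
  have dec : ∀ g : Y, ∃ l ∈ K, ∃ z ∈ zpowers s, l * z = g := fun g =>
    mem_sup_norm (fun g _ => hnK g) (ht ▸ mem_top g)
  have h6 : P ≤ 𝐂(P) := fun x hx => mem_cent.2 fun y hy => by
    obtain ⟨l, hl, z, hz, rfl⟩ := dec y
    have h7 : l ∈ P ⊓ K := ⟨by simpa using mul_mem hy (inv_mem (h1 hz)), hl⟩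
    obtain ⟨l', hl', z', hz', rfl⟩ := dec x
    have h9 : l' ∈ P ⊓ K := ⟨by simpa using mul_mem hx (inv_mem (h1 hz')), hl'⟩
    obtain ⟨i, rfl⟩ := hz
    obtain ⟨j, rfl⟩ := hz'
    exact Commute.mul_left (mem_cent.1 (mul_mem (h5 h9) (zpow_mem h4 j)) l h7) (Commute.mul_right
      (mem_cent.1 (zpow_mem h4 i) l' h9).symm (Commute.zpow_zpow_self s i j))
  obtain ⟨j, hj, c, hcV, h7⟩ := exists_avg h6 le_rfl (odd_relIndex_of_sylow hP h6 le_normalizer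
    le_top) (B := P ⊓ K) inf_le_left hsP fun g hg => by
      refine mem_inf.2 ⟨mul_mem (conj_mem_of_mem_normalizer hg hsP) (inv_mem hsP), ?_⟩
      obtain ⟨l, hl, z, hz, rfl⟩ := dec g
      rw [show l * z * s * (l * z)⁻¹ * s⁻¹ = l * (s * l⁻¹ * s⁻¹) by
        rw [mul_assoc l z, mem_cent1.1 (U4.zpowers_le_cent1 s hz)]; group]
      exact mul_mem hl (hK.conj_mem _ (inv_mem hl) s)
  have h9 := mul_mem (pow_mem hsP j) hcV.1
  by_cases h10 : s ^ j * c = 1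
  · exact mem_of_pow_odd (hs ▸ one_mem K) hj (eq_inv_of_mul_eq_one_left h10 ▸ inv_mem hcV.2)
  obtain ⟨z, hz, z2⟩ := exists_inv_of_not_odd (H := zpowers (s ^ j * c)) fun ho =>
    h10 (zpowers_eq_bot.1 (eq_bot_of_odd_of_two ho hP.isPGroup (zpowers_le.2 h9)))
  have h11 := Blk.glauberman_zstar Y z z2 (isIsolated_of_normalizer hP
    (by rw [sq, mul_self_of_inv z2]) (zpowers_le.2 h9 hz) h6 fun g hg =>
      mem_cent1.2 (mem_cent.1 (zpowers_le.2 h7 hz) g hg))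
  refine absurd (mem_bot.1 (hc.le (mem_cent.2 fun l hl => ?_))) (ne_one_of_inv z2)
  have h12 : l * z * l⁻¹ * z⁻¹ ∈ Od K := Od_inf_le (M := ⊤) le_top ⟨by
    rw [Od, H1.piCoreOf_top, ← pPrimeCore_eq_piCore]; exact h11 l, by
    rw [mul_assoc l, mul_assoc l]; exact mul_mem hl (hK.conj_mem _ (inv_mem hl) z)⟩
  rwa [Od_of_simple inferInstance hn, mem_bot, mul_inv_eq_one, mul_inv_eq_iff_eq_mul] at h12

/-- A `2`-automorphism centralizing an abelian Sylow `2`-subgroup is inner. -/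
theorem inner_of_ab [IsSimpleGroup Y] (hn : ¬ IsMulCommutative Y) {Q : Subgroup Y}
    (hQ : IsSylowIn 2 Q ⊤) (hc : Q ≤ 𝐂(Q)) {τ : MulAut Y} {n : ℕ} (h : τ ^ 2 ^ n = 1)
    (hτ : ∀ x ∈ Q, τ x = x) : ∃ y ∈ Q, τ = MulAut.conj y := by
  have := Fact.mk Nat.prime_two
  have hZ : ∀ y : Y, MulAut.conj y = 1 → y = 1 := fun y e => by
    rcases (inferInstance : (center Y).Normal).eq_bot_or_eq_top with h | h
    · exact mem_bot.1 (h.le (mem_center_iff.2 fun g =>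
        (mul_inv_eq_iff_eq_mul.1 (DFunLike.congr_fun e g)).symm))
    · exact absurd ⟨⟨fun a b => mem_center_iff.1 (h.ge (mem_top b)) a⟩⟩ hn
  have hi := (injective_iff_map_eq_one (MulAut.conj (G := Y))).2 hZ
  have hcj : ∀ (σ : MulAut Y) (y : Y), σ * MulAut.conj y * σ⁻¹ = MulAut.conj (σ y) :=
    fun σ y => by ext; simp
  set H := (MulAut.conj (G := Y)).range ⊔ zpowers τ
  let f : Y →* H := (MulAut.conj (G := Y)).codRestrict H fun y => mem_sup_left ⟨y, rfl⟩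
  have hf : Function.Injective f := fun a b e => hi (congrArg Subtype.val e)
  have hr : f.range = (MulAut.conj (G := Y)).range.subgroupOf H := by
    ext x
    exact ⟨fun ⟨y, e⟩ => ⟨y, congrArg Subtype.val e⟩, fun ⟨y, e⟩ => ⟨y, Subtype.ext e⟩⟩
  have e : f.range ≃* Y := (MonoidHom.ofInjective hf).symm
  have := e.isSimpleGroup
  have : (MulAut.conj (G := Y)).range.Normal := ⟨by
    rintro _ ⟨y, rfl⟩ σ
    exact ⟨_, (hcj σ y).symm⟩⟩
  have : f.range.Normal := by rw [hr]; infer_instance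
  let s : H := ⟨τ, mem_sup_right (mem_zpowers τ)⟩
  have h1 : s ∈ 𝐂(Q.map f) := mem_cent.2 (by
    rintro _ ⟨y, hy, rfl⟩
    refine Subtype.ext (mul_inv_eq_iff_eq_mul.1 ((hcj τ y).trans ?_)).symm
    rw [hτ y hy]; rfl)
  obtain ⟨P, h2, hP⟩ := IsSylowIn.exists_ge (H := ⊤) (isPGroup_sup' (zpowers_le.2
    (cent_le_norm _ h1)) (hQ.isPGroup.map f) (H1.isPGroup_zpowers_of_pow (k := n)
      (Subtype.ext h))) le_top
  have h3 : P ⊓ f.range = Q.map f := by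
    have := hQ.map f
    rw [← MonoidHom.range_eq_map] at this
    exact this.eq_of_le hP.isPGroup.to_inf_left (le_inf (le_sup_left.trans h2) this.le)
      inf_le_right
  obtain ⟨y, hy⟩ := mem_of_ab (K := f.range) (s := s) (fun hc => hn ⟨⟨fun a b =>
      e.symm.injective (by rw [map_mul, map_mul, hc.is_comm.comm])⟩⟩)
    (eq_bot_of_forall fun σ hσ => Subtype.ext (MulEquiv.ext fun y => hi (by
      have := congrArg Subtype.val (mem_cent.1 hσ (f y) ⟨y, rfl⟩)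
      rw [← hcj]
      exact mul_inv_eq_iff_eq_mul.2 this.symm)))
    (by
      apply map_injective H.subtype_injective
      rw [hr, Subgroup.map_sup, subgroupOf_map_subtype, inf_of_le_left le_sup_left,
        MonoidHom.map_zpowers, ← MonoidHom.range_eq_map, range_subtype]; rfl)
    hP (h2 (mem_sup_right (mem_zpowers s))) (by
      rw [h3]
      rintro _ ⟨x, hx, rfl⟩
      refine mem_cent.2 ?_
      rintro _ ⟨y, hy, rfl⟩
      rw [← map_mul, mem_cent.1 (hc hx) y hy, map_mul]) (h3 ▸ h1)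
  obtain ⟨x, hx, e'⟩ := h3.le ⟨h2 (mem_sup_right (mem_zpowers s)), y, hy⟩
  exact ⟨x, hx, (congrArg Subtype.val e').symm⟩

theorem td_of_zt {H Q : Subgroup Y} {t : Y} (Z : Suz.ZT H Q t) : ∃ d, TD Q d ∧ NK Q d := by
  have R := Z.toRO
  have h2 := Z.rank2
  obtain ⟨s, r, hs⟩ := R.exists_dist
  obtain ⟨d, hd⟩ := R.exists_K_eq_zpowers h2
  have hdD : d ∈ Suz.Dg H t := ((hd d).2 (mem_zpowers d)).1
  refine ⟨d, ⟨fun x hx h y hy => R.invol_central h2 hx h hy, R.le_normalizer (Suz.Dg_le hdD),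
    R.odd.of_dvd_nat (orderOf_dvd_of_pow_eq_one (R.D_pow hdD)),
    fun x hx y hy x1 y1 xx yy => ?_, h2⟩, fun σ hσ => ?_⟩
  · obtain ⟨k, hk, rfl⟩ := R.exists_K_conj hs hx x1 xx
    obtain ⟨l, hl, rfl⟩ := R.exists_K_conj hs hy y1 yy
    exact ⟨l⁻¹ * k, mul_mem (inv_mem ((hd l).1 hl)) ((hd k).1 hk), by group⟩
  · obtain ⟨q, hq, k, hk, e⟩ := R.dec _ ((aut_mem_H R σ hσ d).2 (Suz.Dg_le hdD))
    refine ⟨k, (hd k).1 ⟨hk, Z.inv k hk⟩, fun x hx xx => ?_⟩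
    have h3 := conj_mem_of_mem_normalizer (R.le_normalizer (Suz.Dg_le hk)) hx
    rw [e, show q * k * x * (q * k)⁻¹ = q * (k * x * k⁻¹) * q⁻¹ by group,
      ← R.invol_central h2 h3 (Invol.conj_mul_self xx k) hq, mul_inv_cancel_right]

open scoped IsMulCommutative in
theorem td_of_small {A : Subgroup Y} (hA : El A) (ho : Odd ((𝐂(A)).relIndex 𝐍(A)))
    (htr : ∀ u ∈ A, ∀ v ∈ A, u ≠ 1 → v ≠ 1 → ∃ n ∈ 𝐍(A), n * u * n⁻¹ = v) {m : ℕ}
    (hm : Nat.card A = 2 ^ m) (h0 : m = 2 ∨ m = 3) : ∃ d, TD A d ∧ NK A d := by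
  classical
  have := Fact.mk Nat.prime_two
  have := hA.mulComm
  obtain ⟨a, ha, b, hb, h4⟩ := hA.exists_four' (by rcases h0 with rfl | rfl <;> omega)
  have : Nontrivial A := ⟨⟨⟨a, ha⟩, 1, fun h => h4.t1 (congrArg Subtype.val h)⟩⟩
  have ho : Odd (Nat.card A.normalizerMonoidHom.range) := by
    rwa [← index_ker, normalizerMonoidHom_ker]
  have := solvable_of_odd ho
  obtain ⟨F, i1, i2, i3, e, a1, a2, a3, a4⟩ := Suz.huppert_field_faithful (r := 2) (V := A)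
    (φ := A.normalizerMonoidHom.range.subtype) Subtype.val_injective ho this
    (fun v => Subtype.ext (by change (v : Y) ^ 2 = 1; rw [sq]; exact hA v v.2))
    (Nat.coprime_two_right.2 ho) fun a b ha hb => by
      obtain ⟨n, hn, h⟩ := htr a a.2 b b.2 (fun h => ha (Subtype.ext h)) fun h => hb (Subtype.ext h)
      exact ⟨⟨_, ⟨n, hn⟩, rfl⟩, Subtype.ext h⟩
  have e1 : e 1 = 0 := by
    have := a2 1 1
    rw [mul_one] at this
    exact left_eq_add.1 this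
  have e0 : ∀ v, v ≠ 1 → e v ≠ 0 := fun v h1 h => h1 (a1.1 (h.trans e1.symm))
  have hc : Fintype.card F = 2 ^ m := by
    rw [← hm, ← Nat.card_eq_fintype_card, Nat.card_eq_of_bijective e a1]
  have hp : ∀ (x : F) (k : ℕ), x ^ 2 ^ (m * k) = x := fun x k => by
    rw [pow_mul, ← hc, FiniteField.pow_card_pow]
  let φ := A.normalizerMonoidHom
  have sc : ∀ (σ : MulAut A) (c : F), (∀ v, e (σ v) = c * e v) → ∀ k : ℕ, ∀ v,
      e ((σ ^ k) v) = c ^ k * e v := fun σ c h k => by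
    induction k with
    | zero => simp
    | succ k ih => intro v; rw [pow_succ', MulAut.mul_apply, h, ih]; ring
  have key : ∀ n : 𝐍(A), ∃ c, c ≠ 0 ∧ ∀ v, e (φ (n ^ m) v) = c * e v := fun n => by
    obtain ⟨c, j, c0, h⟩ := a3 ⟨_, n, rfl⟩
    have h2 : ∀ k : ℕ, ∃ c', c' ≠ 0 ∧ ∀ v, e (φ (n ^ k) v) = c' * e v ^ 2 ^ (k * j) := fun k => by
      induction k with
      | zero => exact ⟨1, one_ne_zero, by simp⟩
      | succ k ih =>
        obtain ⟨c', c1, ih⟩ := ih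
        refine ⟨c * c' ^ 2 ^ j, mul_ne_zero c0 (pow_ne_zero _ c1), fun v => ?_⟩
        rw [pow_succ', map_mul, MulAut.mul_apply]
        refine (h _).trans ?_
        rw [ih, mul_pow, ← pow_mul, ← pow_add, add_mul, one_mul, mul_assoc]
    simpa [hp] using h2 m
  have : Nontrivial φ.range := by
    obtain ⟨n, hn, h⟩ := htr a ha b hb h4.t1 h4.s1
    refine ⟨⟨⟨_, ⟨n, hn⟩, rfl⟩, 1, fun h1 => h4.ne (h.symm.trans ?_).symm⟩⟩
    exact congrArg Subtype.val (DFunLike.congr_fun (congrArg Subtype.val h1) (⟨a, ha⟩ : A))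
  obtain ⟨⟨⟨_, n, rfl⟩, hy⟩, y1⟩ := ne_bot_iff_exists_ne_one.1 (fitting_ne_bot (G := φ.range))
  obtain ⟨c, h1⟩ := (a4 _).1 hy
  replace h1 : ∀ v, e (φ n v) = c * e v := h1
  have c0 : c ≠ 0 := fun h => e0 _ ((map_ne_one_iff _ (φ n).injective).2
    fun h => h4.t1 (congrArg Subtype.val h)) (by rw [h1 ⟨a, ha⟩, h, zero_mul])
  have c1 : c ≠ 1 := fun h => y1 (Subtype.ext (Subtype.ext (MulEquiv.ext fun v =>
    a1.1 ((h1 v).trans (by rw [h, one_mul]; rfl)))))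
  obtain ⟨k, hk⟩ := PRes.exists_pow_pow_coprime Nat.prime_two (n : Y)
  have h2 : ∀ v, e (φ ((n ^ 2 ^ k) ^ m) v) = c ^ (2 ^ k * m) * e v := fun v => by
    rw [← pow_mul, map_pow, sc _ _ h1]
  have hP : (Nat.card Fˣ).Prime ∧ (Nat.card Fˣ).Coprime (2 ^ k * m) := by
    rw [Nat.card_units, Nat.card_eq_fintype_card, hc]
    rcases h0 with rfl | rfl
    · exact ⟨by norm_num, Nat.Coprime.mul_right (Nat.Coprime.pow_right _ (by norm_num))
        (by norm_num)⟩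
    · exact ⟨by norm_num, Nat.Coprime.mul_right (Nat.Coprime.pow_right _ (by norm_num))
        (by norm_num)⟩
  have := Fact.mk hP.1
  have gen : ∀ x : F, x ≠ 0 → ∃ i : ℕ, (c ^ (2 ^ k * m)) ^ i = x := fun x hx => by
    have h3 : Units.mk0 c c0 ^ (2 ^ k * m) ≠ 1 := fun h => c1 (congrArg Units.val
      (orderOf_eq_one_iff.1 (Nat.eq_one_of_dvd_coprimes hP.2 (orderOf_dvd_natCard _)
        (orderOf_dvd_of_pow_eq_one h))))
    obtain ⟨i, hi⟩ := (mem_powers_iff_mem_zpowers.2 ((zpowers_eq_top_of_prime_card rfl h3).ge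
      (mem_top (Units.mk0 x hx))))
    exact ⟨i, by simpa using congrArg Units.val hi⟩
  have pw : ∀ (i : ℕ) (v : A), e ⟨((n : Y) ^ 2 ^ k) ^ (m * i) * v * (((n : Y) ^ 2 ^ k) ^ (m * i))⁻¹,
      conj_mem_of_mem_normalizer (pow_mem (pow_mem n.2 _) _) v.2⟩ =
      (c ^ (2 ^ k * m)) ^ i * e v := fun i v => by
    rw [← sc _ _ h2, ← map_pow, ← pow_mul (n ^ 2 ^ k)]; rfl
  have hz : ∀ i : ℕ, ((n : Y) ^ 2 ^ k) ^ (m * i) ∈ zpowers (((n : Y) ^ 2 ^ k) ^ m) := fun i => by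
    rw [pow_mul]; exact pow_mem (mem_zpowers _) i
  refine ⟨((n : Y) ^ 2 ^ k) ^ m, ⟨fun x hx _ y hy => hA.comm hx hy, pow_mem (pow_mem n.2 _) _,
    (Nat.coprime_two_right.1 hk).of_dvd_nat (orderOf_pow_dvd _), fun x hx y hy x1 y1 _ _ => ?_,
    a, ha, b, hb, h4.t1, h4.s1, h4.ne, h4.tt, h4.ss⟩, fun σ hσ => ?_⟩
  · have x0 := e0 ⟨x, hx⟩ fun h => x1 (congrArg Subtype.val h)
    obtain ⟨i, hi⟩ := gen _ (div_ne_zero (e0 ⟨y, hy⟩ fun h => y1 (congrArg Subtype.val h)) x0)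
    exact ⟨_, hz i, congrArg Subtype.val (a1.1 ((pw i ⟨x, hx⟩).trans
      (by rw [hi, div_mul_cancel₀ _ x0]) : e _ = e ⟨y, hy⟩))⟩
  · have h3 : A.map σ.toMonoidHom = A := eq_of_le_of_card_ge (map_le_iff_le_comap.2 hσ)
      (card_map_of_injective σ.injective).ge
    have h5 : σ ((n : Y) ^ 2 ^ k) ∈ 𝐍(A) := by
      have := le_normalizer_map σ.toMonoidHom ⟨_, pow_mem n.2 (2 ^ k), rfl⟩
      rwa [h3] at this
    obtain ⟨c', c2, h6⟩ := key ⟨_, h5⟩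
    obtain ⟨i, hi⟩ := gen _ c2
    refine ⟨_, hz i, fun x hx _ => ?_⟩
    rw [map_pow]
    exact congrArg Subtype.val (a1.1 ((h6 ⟨x, hx⟩).trans (by rw [← hi, ← pw i ⟨x, hx⟩])))

variable [IsSimpleGroup Y] (hn : ¬ IsMulCommutative Y) (hab : AbTwo Y) {Q : Subgroup Y}
  (hQ : IsSylowIn 2 Q ⊤)
include hn hab

theorem kt_top : KT (⊤ : Subgroup Y) := kt_of_simple hab simple_top (nonab_top hn)

include hQ

theorem el_of_ab : El Q := (kt_top hn hab).el Q le_top hQ.isPGroup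

theorem maxE_of_ab : MaxE Q ⊤ := ⟨le_top, el_of_ab hn hab hQ, fun u _ h1 h2 =>
  haveI := Fact.mk Nat.prime_two
  (hQ.eq_of_le (isPGroup_sup' (zpowers_le.2 (cent_le_norm _ h2)) hQ.isPGroup
    (el_zpowers h1).isPGroup) le_sup_left le_top).le (mem_sup_right (mem_zpowers u))⟩

theorem ab_cases : (∃ H t, Suz.ZT H Q t) ∨ Nat.card Q = 4 ∨ Nat.card Q = 8 := by
  have := Fact.mk Nat.prime_two
  have hE := el_of_ab hn hab hQ
  have hM := maxE_of_ab hn hab hQ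
  have h4 := (kt_top hn hab).toK0.four_le hM
  obtain ⟨k, hk⟩ := hQ.isPGroup.exists_card_eq
  have fin : ¬ 16 ∣ Nat.card Q → Nat.card Q = 4 ∨ Nat.card Q = 8 := fun h => by
    rw [hk] at h h4 ⊢
    have a : ¬ 4 ≤ k := fun e => h (pow_dvd_pow 2 e)
    have b : 2 ≤ k := (Nat.pow_le_pow_iff_right one_lt_two).1 (show 2 ^ 2 ≤ 2 ^ k from h4)
    obtain rfl | rfl : k = 2 ∨ k = 3 := by omega
    · exact Or.inl rfl
    · exact Or.inr rfl
  rcases walter Y hn hab with ⟨n, h1, ⟨e⟩⟩ | ⟨F, _, _, -, h2, ⟨e⟩⟩ | ⟨t, L, q, h⟩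
  · obtain ⟨Q', t, Z⟩ := (nr_of_sylow hQ fun x _ _ _ => Subtype.ext (hE x x.2)).pc.zt_of_se hn
      (se_of hab hM (maxE_ne_bot hn hM) (norm_ne_top (maxE_ne_bot hn hM) fun e => hn
        ⟨⟨fun a b => hE.comm (e.ge (mem_top a)) (e.ge (mem_top b))⟩⟩) le_rfl fun x hx x1 =>
          (top_inf_eq _).ge.trans (((kt_of_sl2 hn h1 e).2.inf_cent1 hM hx x1).le.trans
            le_normalizer))
    have h3 : IsSylowIn 2 Q' ⊤ := ⟨le_top, Z.isPGroup, by
      rw [relIndex_top_right]; exact Z.toRO.odd_index_Q.not_two_dvd_nat⟩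
    have h5 := isPGroup_sup' Z.toRO.le hQ.isPGroup Z.isPGroup
    obtain rfl : Q = Q' := (hQ.eq_of_le h5 le_sup_left le_top).symm.trans
      (h3.eq_of_le h5 le_sup_right le_top)
    exact Or.inl ⟨_, t, Z⟩
  · exact Or.inr (fin fun h => (psl_E4 h2).1 (Nat.card_congr e.toEquiv ▸
      (dvd_trans (by norm_num) (h.trans (card_subgroup_dvd_card Q)))))
  · obtain ⟨F, _, _, rfl, ⟨e⟩⟩ := h.iso
    obtain ⟨g, -, hg⟩ := hM.exists_conj_mem hab (mem_top t) (mul_self_of_inv h.ord)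
    refine Or.inr (fin fun h1 => (psl_E4 h.mod).1 (Nat.card_congr e.toEquiv ▸ ?_))
    have h2 : t ∈ g⁻¹ •ᶜ Q := mem_map_conj_iff.2 (by simpa using hg)
    have h3 : L.relIndex (g⁻¹ •ᶜ Q) = 2 := index_eq_two_iff.2 ⟨⟨t, h2⟩, fun x => by
      have h5 := (hE.cj g⁻¹).comm x.2 h2
      simp only [mem_subgroupOf, coe_mul, h5]
      rcases h.cent x h5 with a | a
      · exact Or.inr ⟨a, fun b => h.notMem (by simpa using mul_mem b (inv_mem a))⟩
      · exact Or.inl ⟨a, fun b => h.notMem (by simpa using mul_mem a (inv_mem b))⟩⟩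
    have h5 := card_inf_mul_relIndex L (g⁻¹ •ᶜ Q)
    rw [h3, card_map_conj] at h5
    exact (Nat.dvd_of_mul_dvd_mul_right two_pos (h5 ▸ h1)).trans (card_dvd_of_le inf_le_left)

theorem td_of_ab : ∃ d, TD Q d ∧ NK Q d := by
  have hM := maxE_of_ab hn hab hQ
  have key : ∀ m, Nat.card Q = 2 ^ m → m = 2 ∨ m = 3 → ∃ d, TD Q d ∧ NK Q d := fun m =>
    td_of_small hM.el (hM.odd_relIndex hab inf_le_right (inf_le_right.trans (cent_le_norm Q))
      le_top) fun u hu v hv u1 v1 =>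
        let ⟨n, h1, h2⟩ := (kt_top hn hab).toK0.trans hM hu hv u1 v1; ⟨n, h1.2, h2⟩
  rcases ab_cases hn hab hQ with ⟨H, t, Z⟩ | h | h
  · exact td_of_zt Z
  · exact key 2 h (Or.inl rfl)
  · exact key 3 h (Or.inr rfl)

end CfsgLib.HI
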