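import Cfsg.Agent.Lib.HI.Lo

/-!
# Strongly closed subgroups of minimal counterexamples
-/

set_option autoImplicit false

namespace CfsgLib.HI

open Subgroup Cfsg CfsgLib.FT CfsgLib.FT.BGN CfsgLib.Cop CfsgLib.GW CfsgLib.Wal CfsgLib.GO
open CfsgLib.H1 (AbTwo CharIn layerIn genFitIn dSub)
open CfsgLib.FT.U4 (mem_cent1 mem_cent1' mem_cent mem_cent1_comm cent1_conj
  eq_one_of_mem_inf eq_bot_of_forall conj_mem_conj_iff orderOf_conj norm_le_norm_cent)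
open scoped commutatorElement

universe u

variable {G : Type u} [Group G] [Finite G] {Zs : Set G} {S A X : Subgroup G}

theorem MH.not_solv (h : MH G Zs) : ¬ Group.IsSolvable (⊤ : Subgroup G) := fun hs => by
  have := h.simple
  exact h.nonab ⟨⟨IsSimpleGroup.comm_iff_isSolvable.2
    (solvable_of_surjective (f := (⊤ : Subgroup G).subtype) fun x => ⟨⟨x, trivial⟩, rfl⟩)⟩⟩

theorem MH.norm_ne (h : MH G Zs) (h0 : X ≠ ⊥) (hs : Group.IsSolvable X) : 𝐍(X) ≠ ⊤ :=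
  haveI := h.simple
  norm_ne_top h0 fun e => h.not_solv (e ▸ hs)

theorem MH.cent1_ne (h : MH G Zs) {a : G} (h1 : a ≠ 1) : 𝐂[a] ≠ ⊤ := fun e =>
  h.norm_ne (X := zpowers a) (by rwa [Ne, zpowers_eq_bot]) inferInstance
    (top_le_iff.1 (e.ge.trans (norm_zp le_rfl)))

theorem MH.norm_odd_ne (h : MH G Zs) {W : Subgroup G} (h0 : W ≠ ⊥) (ho : Odd (Nat.card W)) :
    𝐍(W) ≠ ⊤ := h.norm_ne h0 (solvable_of_odd ho)

theorem MH.od_top (h : MH G Zs) : Od (⊤ : Subgroup G) = ⊥ := by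
  by_contra e
  exact h.norm_odd_ne e (odd_Od _) (top_le_iff.1 (le_norm_Od _))

theorem MH.sylow_ne (h : MH G Zs) (hS : IsSylowIn 2 S ⊤) : S ≠ ⊥ := fun e =>
  h.not_solv (solvable_of_odd (Nat.odd_iff.2 (Nat.two_dvd_ne_zero.1
    (IsSylowIn.bot_iff.1 (e ▸ hS)))))

theorem MH.four (h : MH G Zs) (hA : SCA S A) : 4 ≤ Nat.card A := by
  have := Fact.mk Nat.prime_two
  obtain ⟨a, ha, a1, -⟩ := hA.exists_cent
  have hE := hA.el
  refine (le_zp_or hE ha a1).resolve_left fun e => h.cent1_ne a1 (eq_top_iff.2 fun g _ => ?_)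
  have h1 := Blk.glauberman_zstar G a (hE.ord ha a1) (fun k hk => by
    have h1 := el_zpowers (Invol.conj_mul_self (hE a ha) k)
    have h2 := (hA.scin le_top).sc _ (hE.sup h1 (zpowers_le.2 (centralizer_le e
      ((cent_zpowers a).ge (mem_cent1'.2 hk))))).isPGroup le_sup_left le_top k (mem_top k) a ha
      (mem_sup_right (mem_zpowers _))
    exact (hE.mem_zp ha (e h2)).resolve_left (by simpa using a1)) g
  rw [pPrimeCore_eq_piCore, ← H1.piCoreOf_top] at h1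
  have h2 := mem_bot.1 (h.od_top.le h1)
  rw [mul_inv_eq_one, mul_inv_eq_iff_eq_mul] at h2
  exact mem_cent1.2 h2

theorem MH.le_of_comm (h : MH G Zs) (hA : SCA S A) {N : Subgroup G}
    (h1 : ∀ m ∈ 𝐍(A), ∀ n ∈ 𝐍(A), ⁅m, n⁆ ∈ N) : S ≤ N := by
  have := Fact.mk Nat.prime_two
  have := h.simple
  obtain ⟨P, rfl⟩ := IsSylowIn.top_iff.1 hA.syl
  have h2 : commutator G = ⊤ := (inferInstance : (commutator G).Normal).eq_bot_or_eq_top.resolve_left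
    fun e => h.nonab ⟨⟨fun a b => commutatorElement_eq_one_iff_mul_comm.1
      (mem_bot.1 (e.le (commutator_mem_commutator (mem_top a) (mem_top b))))⟩⟩
  refine le_trans (by rw [h2, top_inf_eq]) (Fusion.commutator_inf_sylow_le P fun x hx g hg => ?_)
  obtain ⟨m, -, hm, e⟩ := hA.ctl g (mem_top g)
  rw [← e x hx hg]
  exact h1 m hm x (hA.le_norm hx)

/-- `N(A)` has no subgroup of index two. -/
theorem MH.le_of_two (h : MH G Zs) (hA : SCA S A) {N : Subgroup G}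
    (h1 : ∀ m ∈ 𝐍(A), ∀ n ∈ 𝐍(A), m ∉ N → n ∉ N → m * n ∈ N) : 𝐍(A) ≤ N := by
  have key : ∀ m ∈ 𝐍(A), ∀ n ∈ 𝐍(A), (m * n ∈ N ↔ (m ∈ N ↔ n ∈ N)) := fun m hm n hn => by
    by_cases a : m ∈ N
    · simp [a, mul_mem_cancel_left a]
    · by_cases b : n ∈ N
      · simp [a, b, mul_mem_cancel_right b]
      · simp [a, b, h1 m hm n hn a b]
  have h2 : S ≤ N := h.le_of_comm hA fun m hm n hn => by
    rw [commutatorElement_def, key _ (mul_mem (mul_mem hm hn) (inv_mem hm)) _ (inv_mem hn),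
      key _ (mul_mem hm hn) _ (inv_mem hm), key _ hm _ hn, inv_mem_iff, inv_mem_iff]
    tauto
  by_contra h3
  obtain ⟨m, hm, h4⟩ := SetLike.not_le_iff_exists.1 h3
  have h5 := odd_relIndex_of_sylow hA.syl h2 hA.le_norm le_top
  rw [relIndex, index_eq_two_iff.2 ⟨⟨m, hm⟩, fun b => by
    rw [mem_subgroupOf, mem_subgroupOf, coe_mul, key _ b.2 _ hm]; tauto⟩] at h5
  exact absurd h5 (by decide)

theorem false_of_hyp (hA : SCA S A) (hi : GO.Irr A) (h4 : S ≤ 𝐂(A)) {a : G} (ha : a ∈ A)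
    {T : Subgroup G} (hT : T ≤ A) (h8 : 8 ≤ Nat.card T) (h1 : a ∉ T)
    (dec : ∀ x ∈ A, x ∈ T ∨ a * x ∈ T)
    (tr : ∀ t ∈ T, ∀ t' ∈ T, t ≠ 1 → t' ≠ 1 → ∃ n ∈ 𝐍(A) ⊓ 𝐂[a], n * t * n⁻¹ = t') : False := by
  classical
  have hE := hA.el
  have a1 : a ≠ 1 := fun e => h1 (e ▸ one_mem T)
  have h2 := trans_of_hyp hE hi ha hT (by omega) h1 dec tr
  obtain ⟨m, hm⟩ := hE.isPGroup.exists_card_eq
  have h5 : 2 * Nat.card T ≤ 2 ^ m := by
    have b1 := card_mul_relIndex hT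
    have b2 := H1.relIndex_ne_zero' T A
    have b3 : T.relIndex A ≠ 1 := fun e => h1 (relIndex_eq_one.1 e ha)
    have : 2 ≤ T.relIndex A := by omega
    nlinarith
  have h6 : 4 ≤ m := (Nat.pow_le_pow_iff_right one_lt_two).1 (by omega)
  have h7 : 2 ^ m ≤ 2 * Nat.card T := hm ▸ Hy.card ⟨hT, a, ha, le_antisymm
    (sup_le hT (zpowers_le.2 ha)) fun x hx => (dec x hx).elim mem_sup_left fun e => by
      simpa using mul_mem (inv_mem (mem_sup_right (mem_zpowers a))) (mem_sup_left e)⟩ hE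
  obtain ⟨t, ht, t1⟩ := exists_ne_one_of_card (B := T) (by omega)
  obtain ⟨f, hf⟩ := hup' hE (odd_relIndex_of_sylow hA.syl h4 hA.le_norm le_top)
    (fun u hu v hv u1 v1 => by
      obtain ⟨p, hp, rfl⟩ := h2 u hu u1
      obtain ⟨q, hq, rfl⟩ := h2 v hv v1
      exact ⟨q * p⁻¹, mul_mem hq (inv_mem hp), by group⟩) ha a1 hm (by omega) (hT ht)
  have h9 : Nat.card T ≤ m + 1 := by
    have : (T : Set G) ⊆ (insert 1 ((Finset.range m).image f) : Finset G) := fun x hx => by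
      by_cases e : x = 1
      · simp [e]
      obtain ⟨k, hk, rfl⟩ := tr t ht x hx t1 e
      obtain ⟨j, hj, e'⟩ := hf k hk
      simp only [Finset.coe_insert, Finset.coe_image, Finset.coe_range, Set.mem_insert_iff]
      exact Or.inr ⟨j, hj, e'.symm⟩
    have := Set.ncard_le_ncard this
    rw [Set.ncard_coe_finset] at this
    exact this.trans ((Finset.card_insert_le _ _).trans
      (Nat.succ_le_succ (Finset.card_image_le.trans (Finset.card_range m).le)))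
  have h10 : ∀ k, 2 * (k + 4 + 1) < 2 ^ (k + 4) := fun k => by
    induction k with
    | zero => norm_num
    | succ k ih => rw [add_right_comm, pow_succ]; omega
  obtain ⟨k, rfl⟩ := Nat.exists_eq_add_of_le' h6
  have := h10 k
  omega

theorem MH.four_le (h : MH G Zs) (hA : SCA S A) (hi : GO.Irr A) (h4 : S ≤ 𝐂(A)) {a : G}
    (ha : a ∈ A) (a1 : a ≠ 1)
    {J : Subgroup (Bar 𝐂[a])} (hJ : TC ⊤ J) (hm : ¬ im 𝐂[a] A ≤ 𝐂(J)) (hs : SzT (Zq J)) :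
    4 ≤ Nat.card ↥(A ⊓ pre 𝐂[a] 𝐂(J)) := by
  have hE := hA.el
  have hX := hE.le_cent1 ha
  have l := h.lo_bar (h.cent1_ne a1)
  have sc := (hA.scin hX).bar
  have hc : ∀ y : Bar 𝐂[a], y ∈ 𝐂[br 𝐂[a] a] := fun y => by
    obtain ⟨x, hx, rfl⟩ := br_surj y
    exact br_mem_cent1 hx (hX ha) hx
  have haD : a ∈ A ⊓ pre 𝐂[a] 𝐂(J) :=
    ⟨ha, mem_pre.2 ⟨hX ha, mem_cent.2 fun y _ => mem_cent1.1 (hc y)⟩⟩
  refine (le_zp_or (hE.mono inf_le_left) haD a1).resolve_left fun hD => ?_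
  obtain ⟨Q, K, T, m, s⟩ := l.exists_smov sc hJ hm hs
  have h1 : im 𝐂[a] (A ⊓ pre 𝐂[a] T) = T := by rw [im_inf_pre, inf_of_le_right m.tA]
  refine false_of_hyp hA hi h4 ha (T := A ⊓ pre 𝐂[a] T) inf_le_left ?_ (fun e => ?_)
    (fun x hx => ?_) fun t ht t' ht' t1 t2 => ?_
  · rw [← card_im (hE.mono inf_le_left) (inf_le_left.trans hX), h1]
    exact s.eight T m.tQ m.cov
  · exact m.notMem (mem_pre.1 e.2).2 (br_ne_one (hE a ha) (hX ha) a1) (mem_pre.1 haD.2).2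
  · obtain ⟨t, ht, h2⟩ := m.dec _ (br_mem_im hx (hX hx))
    obtain ⟨t, ht', h3, rfl⟩ := mem_im.1 (h1.ge ht)
    rcases hE.mem_zp ha (hD ⟨mul_mem ht'.1 hx, mem_pre.2 ⟨mul_mem h3 (hX hx),
      (br_mul h3 (hX hx)).symm ▸ h2⟩⟩) with e | e
    · exact Or.inl (eq_inv_of_mul_eq_one_right e ▸ inv_mem ht')
    · have h4 : a * x = t := by rw [← e, mul_assoc, hE x hx, mul_one]
      exact Or.inr (h4.symm ▸ ht')
  · obtain ⟨k, hk, e⟩ := m.trt _ (mem_pre.1 ht.2).2 _ (mem_pre.1 ht'.2).2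
      (br_ne_one (hE t ht.1) (hX ht.1) t1) (br_ne_one (hE t' ht'.1) (hX ht'.1) t2)
    obtain ⟨k, h2, h3, rfl⟩ := mem_im.1 ((norm_im hE.isPGroup hX).le (m.kn hk))
    exact ⟨k, ⟨h2.2, h3⟩, eq_of_br hE hX (conj_mem_of_mem_normalizer h2.2 ht.1) ht'.1
      ((br_conj h3 (hX ht.1)).trans e)⟩

theorem MH.exists_sig (h : MH G Zs) (hA : SCA S A) (h8 : 8 ≤ Nat.card A)
    (hg : ∀ a ∈ A, a ≠ 1 → Good (im 𝐂[a] A) ⊤) : ∃ W : Subgroup G, Odd (Nat.card W) ∧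
      (∀ a ∈ A, a ≠ 1 → Od 𝐂[a] ≤ W) ∧ ∀ B ≤ A, 4 ≤ Nat.card B → 𝐍(B) ≤ 𝐍(W) := by
  have hE := hA.el
  obtain ⟨W, h1, h2, h3, h4⟩ := sig hE h8 (fun a => Od 𝐂[a]) (fun a _ _ => Od_le _)
    (fun a ha _ => (hE.le_cent1 ha).trans (le_norm_Od _)) (fun a _ _ => odd_Od _)
    fun a ha a1 b hb b1 => by
      have hX := hE.le_cent1 hb
      have h1 := (h.lo_bar (h.cent1_ne b1)).od_cent (hA.scin hX).bar (hg b hb b1)
        (br_mem_im ha (hX ha))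
      rw [top_inf_eq, cent1_br (hE a ha) (hX ha)] at h1
      refine (im_eq_bot inf_le_right).1 (le_bot_iff.1 (le_trans (im_mono ?_) (im_Od_le.trans h1.le)))
      exact le_trans (le_inf inf_le_left (le_inf inf_le_right (inf_le_left.trans (Od_le _))))
        (Od_inf_le inf_le_right)
  refine ⟨W, h1, h3, fun B hB h5 g hg => mem_norm_of_le (cj_le_iff.2 (gen_pt (hE.mono hB) h5 h1
    (hB.trans h2) fun b hb b1 => (h4 b (hB hb) b1).trans (cj_le_iff.1 ?_)))⟩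
  rw [← Od_conj, cj_cent1]
  exact h3 _ (hB (conj_mem_of_mem_normalizer hg hb)) (by simpa using b1)

theorem MH.zd_of_sig (h : MH G Zs) (hA : SCA S A) (h4 : 4 ≤ Nat.card A) {M : Subgroup G}
    (h0 : M ≠ ⊤) (h1 : ∀ a ∈ A, a ≠ 1 → Od 𝐂[a] ≤ M) (h2 : ∀ B ≤ A, 4 ≤ Nat.card B → 𝐍(B) ≤ M)
    (h3 : ∀ a ∈ A, a ≠ 1 → ∀ J : Subgroup (Bar 𝐂[a]), TC ⊤ J → ¬ im 𝐂[a] A ≤ 𝐂(J) →
      4 ≤ Nat.card ↥(A ⊓ pre 𝐂[a] 𝐂(J))) : ZD A M := by
  refine ⟨h0, h2 A le_rfl h4, fun a ha a1 => ?_⟩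
  have hE := hA.el
  have hX := hE.le_cent1 ha
  have h5 := (h.lo_bar (h.cent1_ne a1)).gen (hA.scin hX).bar (M := im 𝐂[a] (𝐂[a] ⊓ M))
    (fun J hJ => by
      have h5 : 4 ≤ Nat.card ↥(A ⊓ pre 𝐂[a] 𝐂(J)) := by
        by_cases e : im 𝐂[a] A ≤ 𝐂(J)
        · rwa [inf_of_le_left ((le_pre hX).2 e)]
        · exact h3 a ha a1 J hJ e
      refine le_trans (le_centralizer_iff.1 ?_) ((cent_im (hE.mono inf_le_left).isPGroup
        (inf_le_left.trans hX)).le.trans (im_mono (inf_le_inf_left _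
          ((cent_le_norm _).trans (h2 _ inf_le_left h5)))))
      rw [im_inf_pre]; exact inf_le_right)
    (inf_le_right.trans ((norm_im hE.isPGroup hX).le.trans
      (im_mono (inf_le_inf_left _ (h2 A le_rfl h4)))))
  rw [← im_self, im_le_im le_rfl inf_le_left] at h5
  exact h5.trans (sup_le (h1 a ha a1) inf_le_right)

theorem two_le_cent (hA : SCA S A) (h4 : S ≤ 𝐂(A)) {Q : Subgroup G} (hQ : IsPGroup 2 Q)
    (h1 : Q ≤ 𝐍(A)) : Q ≤ 𝐂(A) := by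
  have := Fact.mk Nat.prime_two
  obtain ⟨P, h2, hP⟩ := IsSylowIn.exists_ge hQ h1
  obtain ⟨n, hn, h3⟩ := (IsSylowIn.mono hA.syl hA.le_norm le_top).exists_conj_le hP.isPGroup hP.le
  refine h2.trans fun x hx => ?_
  simpa [mul_assoc] using conj_mem_of_mem_normalizer' (norm_le_norm_cent A hn)
    (h4 (h3 (conj_mem_map_conj hx)))

theorem Lo.sm (l : Lo X) (hA : SCA S A) (h4 : S ≤ 𝐂(A)) (hX : 𝐂(A) ≤ X) {L : Subgroup G}
    (hL : TC X L) (hm : ¬ A ≤ 𝐂(L)) (hs : SzT (Zq L)) : ∃ Q K T, SM X A L Q K T :=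
  let ⟨Q, K, T, m, s⟩ := l.exists_smov (hA.scin (hA.el.le_cent.trans hX)) hL hm hs
  ⟨Q, K, T, hA.el, m, s, hX, two_le_cent hA h4 m.syl.isPGroup m.qn⟩

theorem MH.lc_comm (h : MH G Zs) (hA : SCA S A) (hi : GO.Irr A) (hS : S ≤ 𝐂(A))
    (hO : ∀ a ∈ A, a ≠ 1 → Od 𝐂[a] = ⊥)
    (hg : ∀ a ∈ A, a ≠ 1 → Good A 𝐂[a]) {L L' : Subgroup G} (h1 : Lc A L) (h2 : Lc A L') :
    L = L' ∨ L ≤ 𝐂(L') := by
  have hE := hA.el
  have sm : ∀ L, Lc A L → ∃ X Q K, SM X A L Q K (A ⊓ L) := fun L ⟨a, ha, a1, b, c⟩ => by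
    obtain ⟨Q, K, T, s⟩ := (h.lo (h.cent1_ne a1) (hO a ha a1)).sm hA hS
      (U4.cent_le_cent1 ha) b c (hg a ha a1 L b c)
    exact ⟨_, Q, K, s.inf_eq ▸ s⟩
  have tc : ∀ L, Lc A L → ∀ d ∈ A, d ≠ 1 → d ∈ 𝐂(L) → TC 𝐂[d] L :=
    fun L ⟨a, ha, a1, b, c⟩ d hd d1 e => (h.lo (h.cent1_ne d1) (hO d hd d1)).lbal
      (hA.scin (hE.le_cent1 hd)) (hg d hd d1) ha (b.mono (le_inf (fun x hx =>
        mem_cent1.2 (mem_cent.1 e x hx)) b.le) inf_le_right)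
  have ne : ∀ L L', Lc A L → A ⊓ L ≤ L' → A ⊓ L ≤ 𝐂(L') → Lc A L' → False := fun L L' a b c d => by
    obtain ⟨_, _, _, s⟩ := sm L a
    obtain ⟨_, _, _, s'⟩ := sm L' d
    obtain ⟨t, ht, t1⟩ := s.m.exists_ne
    exact t1 (eq_one_of_mem_inf s'.zbot (b ht) (c ht))
  have tri : ∀ L L', Lc A L → Lc A L' → A ⊓ L = A ⊓ L' ∨ (A ⊓ L ≤ 𝐂(L') ∧ A ⊓ L' ≤ 𝐂(L)) :=
    fun L L' a b => by
      obtain ⟨_, _, _, s⟩ := sm L a
      obtain ⟨_, _, _, s'⟩ := sm L' b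
      rcases s.dich s' with e | e <;> rcases s'.dich s with e' | e'
      · exact Or.inl (le_antisymm e e')
      · exact (ne L L a inf_le_right (e.trans e') a).elim
      · exact (ne L' L' b inf_le_right (e'.trans e) b).elim
      · exact Or.inr ⟨e, e'⟩
  have cj : ∀ n ∈ 𝐍(A), ∀ L : Subgroup G, A ⊓ n •ᶜ L = n •ᶜ (A ⊓ L) := fun n hn L => by
    rw [map_conj_inf, map_conj_eq_of_mem_normalizer hn]
  have nn : ¬ 𝐍(A) ≤ 𝐍(A ⊓ L) := fun e => by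
    obtain ⟨_, _, _, s⟩ := sm L h1
    obtain ⟨a, ha, a1, b, -⟩ := h1
    rcases hi _ inf_le_left e with e | e
    · obtain ⟨t, ht, t1⟩ := s.m.exists_ne
      exact t1 (mem_bot.1 (e.le ht))
    · exact a1 (eq_one_of_mem_inf s.zbot (e.ge ha).2 (mem_cent_cent1 b.le))
  by_contra h3
  have h4 : ∀ d ∈ A, d ∈ 𝐂(L) → d ∈ 𝐂(L') → d = 1 := fun d hd a b => by
    by_contra d1
    exact h3 ((tc L h1 d hd d1 a).eq_or (tc L' h2 d hd d1 b))
  have h5 : ∀ J, Lc A J → A ⊓ J = A ⊓ L ∨ A ⊓ J = A ⊓ L' := fun J a => by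
    rcases tri J L a h1 with e | e
    · exact Or.inl e
    rcases tri J L' a h2 with e' | e'
    · exact Or.inr e'
    obtain ⟨_, _, _, s⟩ := sm J a
    obtain ⟨t, ht, t1⟩ := s.m.exists_ne
    exact absurd (h4 t ht.1 (e.1 ht) (e'.1 ht)) t1
  refine nn (h.le_of_two hA fun m hm n hn a b => mem_normalizer_of_map_conj_eq ?_)
  have c := (h5 _ (h1.cj hm)).resolve_left fun e => a (mem_normalizer_of_map_conj_eq
    (cj m hm L ▸ e))
  have d := (h5 _ (h1.cj hn)).resolve_left fun e => b (mem_normalizer_of_map_conj_eq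
    (cj n hn L ▸ e))
  rw [cj _ hm] at c
  rw [cj _ hn] at d
  rw [← cj_cj, d, ← cj m hm]
  refine (h5 _ (h2.cj hm)).resolve_right fun e => a (mem_normalizer_of_map_conj_eq ?_)
  rwa [cj _ hm, ← c, cj_inj] at e

theorem MH.zd_of_comm (h : MH G Zs) (hA : SCA S A) (hO : ∀ a ∈ A, a ≠ 1 → Od 𝐂[a] = ⊥)
    (hc : ∀ L L', Lc A L → Lc A L' → L = L' ∨ L ≤ 𝐂(L')) : ∃ M, ZD A M := by
  have hE := hA.el
  have key : ∀ M, M ≠ ⊤ → 𝐍(A) ≤ M → (∀ L, Lc A L → L ≤ M) → ZD A M := fun M h1 h2 h3 =>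
    ⟨h1, h2, fun a ha a1 => (h.lo (h.cent1_ne a1) (hO a ha a1)).gen (hA.scin (hE.le_cent1 ha))
      (fun J hJ => by
        by_cases e : A ≤ 𝐂(J)
        · exact (le_centralizer_iff.1 e).trans ((cent_le_norm A).trans h2)
        · exact h3 J ⟨a, ha, a1, hJ, e⟩) (inf_le_right.trans h2)⟩
  by_cases e : ∃ L, Lc A L
  swap
  · exact ⟨_, key _ (h.norm_ne hA.ne hE.solv) le_rfl fun L hL => absurd ⟨L, hL⟩ e⟩
  obtain ⟨L, hL⟩ := e
  have := h.simple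
  have h1 : sSup {J | Lc A J} ≤ 𝐍(L) := sSup_le fun J hJ => (hc J L hJ hL).elim
    (fun e => e ▸ le_normalizer) fun e => e.trans (cent_le_norm L)
  have h2 : L ≤ sSup {J | Lc A J} := le_sSup hL
  obtain ⟨a, ha, a1, b, c⟩ := hL
  have h0 : L ≠ ⊥ := fun e => b.not_solv (e ▸ inferInstance)
  refine ⟨_, key 𝐍(sSup {J | Lc A J}) (norm_ne_top (fun e => h0 (le_bot_iff.1 (h2.trans e.le)))
    fun e => norm_ne_top h0 (fun e' => h.cent1_ne a1 (top_le_iff.1 (e'.ge.trans b.le)))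
      (top_le_iff.1 (e.ge.trans h1))) (fun n hn => mem_norm_of_le (map_le_iff_le_comap.2
        (sSup_le fun J hJ => map_le_iff_le_comap.1 (le_sSup (hJ.cj hn)))))
    fun J hJ => le_trans (le_sSup (s := {J | Lc A J}) hJ) le_normalizer⟩

/-- The irreducible case. -/
theorem MH.core (h : MH G Zs) (hA : SCA S A) (h8 : 8 ≤ Nat.card A) (hi : GO.Irr A) (hS : S ≤ 𝐂(A))
    (hg : ∀ a ∈ A, a ≠ 1 → Good (im 𝐂[a] A) ⊤) : ∃ M, ZD A M := by
  obtain ⟨W, h1, h2, h3⟩ := h.exists_sig hA h8 hg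
  by_cases e : W = ⊥
  · have hO : ∀ a ∈ A, a ≠ 1 → Od 𝐂[a] = ⊥ := fun a ha a1 => le_bot_iff.1 (e ▸ h2 a ha a1)
    exact h.zd_of_comm hA hO fun L L' => h.lc_comm hA hi hS hO fun a ha a1 =>
      (h.lo (h.cent1_ne a1) (hO a ha a1)).good_of_bar (hA.el.le_cent1 ha) (hg a ha a1)
  · exact ⟨_, h.zd_of_sig hA (by omega) (h.norm_odd_ne e h1)
      (fun a ha a1 => (h2 a ha a1).trans le_normalizer) h3
      fun a ha a1 J a2 a3 => h.four_le hA hi hS ha a1 a2 a3 (hg a ha a1 J a2 a3)⟩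

/-- The case where no component is moved. -/
theorem MH.core' (h : MH G Zs) (hA : SCA S A) (h8 : 8 ≤ Nat.card A)
    (hg : ∀ a ∈ A, a ≠ 1 → ∀ J : Subgroup (Bar 𝐂[a]), TC ⊤ J → im 𝐂[a] A ≤ 𝐂(J)) :
    ∃ M, ZD A M := by
  obtain ⟨W, h1, h2, h3⟩ := h.exists_sig hA h8 fun a ha a1 J a2 a3 => absurd (hg a ha a1 J a2) a3
  by_cases e : W = ⊥
  · refine h.zd_of_comm hA (fun a ha a1 => le_bot_iff.1 (e ▸ h2 a ha a1))
      fun L L' ⟨a, ha, a1, b, c⟩ => absurd (b.cent_of_cm ((le_cm (hA.el.le_cent1 ha)).2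
        (hg a ha a1 _ ⟨subnormalIn_top_iff.2 b.cp.1.1, b.cp.1.2⟩))) c
  · exact ⟨_, h.zd_of_sig hA (by omega) (h.norm_odd_ne e h1)
      (fun a ha a1 => (h2 a ha a1).trans le_normalizer) h3
      fun a ha a1 J a2 a3 => absurd (hg a ha a1 J a2) a3⟩

end CfsgLib.HI
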