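import Cfsg.Agent.Lib.HI.Alpha
import Cfsg.Agent.Lib.HI.Core

/-!
# Strongly closed subgroups of rank at least three
-/

set_option autoImplicit false

namespace CfsgLib.HI

open Subgroup Cfsg CfsgLib.FT CfsgLib.FT.BGN CfsgLib.Cop CfsgLib.GW CfsgLib.Wal CfsgLib.GO
open CfsgLib.H1 (AbTwo)
open CfsgLib.FT.U4 (mem_cent1 mem_cent1' mem_cent mem_cent1_comm cent1_conj
  eq_one_of_mem_inf eq_bot_of_forall conj_mem_conj_iff orderOf_conj norm_le_norm_cent)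
open scoped commutatorElement

universe u

variable {G : Type u} [Group G] [Finite G] {Zs : Set G} {S V : Subgroup G}

theorem CV.four_le (h : CV Zs S V) : 4 ≤ Nat.card V := h.toMH.four h.sv

theorem CV.zd_of_noMv (h : CV Zs S V) (h8 : 8 ≤ Nat.card V) (hm : NoMv V) : ∃ M, ZD V M :=
  h.toMH.core' h.sv h8 hm

/-- In case `β` components of abelian type are not moved. -/
theorem CV.good_of_beta (h : CV Zs S V) (hb : Beta S (zs Zs S) V) {v : G} (hv : v ∈ V)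
    (v1 : v ≠ 1) : Good (im 𝐂[v] V) ⊤ := fun J hJ hm => by
  have l := h.lo_bar (h.cent1_ne v1)
  refine (l.kn J hJ).resolve_left fun hab => hm ?_
  have hE := h.sa.el
  have hX := hE.le_cent1 (h.le hv)
  have hS : S ≤ 𝐂[v] := hb.1.trans (U4.cent_le_cent1 (h.le hv))
  have sc := (h.sa.scin hX).bar
  obtain ⟨Q, K, T, m, -⟩ := l.exists_mov' sc hJ fun e => hm ((im_mono h.le).trans e)
  refine (le_pre (h.le.trans hX)).1 ((hb.2 (S ⊓ pre 𝐂[v] 𝐂(J)) inf_le_left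
    fun s hs => ?_).trans inf_le_right)
  have h1 : br 𝐂[v] s ∈ 𝐂(T) := mem_cent.2 fun t ht => by
    obtain ⟨t, h1, h2, rfl⟩ := mem_im.1 (m.tA ht)
    rw [← br_mul h2 (hS hs), mem_cent.1 (hb.1 hs) t h1, br_mul (hS hs) h2]
  obtain ⟨n, hn⟩ := pgroup_im (X := 𝐂[v]) h.sa.syl.isPGroup ⟨_, br_mem_im hs (hS hs)⟩
  obtain ⟨t, ht, h2⟩ := mov_dec m sc.el hab (mov_norm m hJ (le_normalizer (mem_top _)) h1) h1
    (n := n) (by rw [show br 𝐂[v] s ^ 2 ^ n = 1 from congrArg Subtype.val hn]; exact one_mem _)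
  obtain ⟨t, h3, h4, rfl⟩ := mem_im.1 (m.tA ht)
  simpa using mul_mem (mem_sup_left h3) (mem_sup_right (mem_inf.2
    ⟨mul_mem (inv_mem (h.sa.le h3)) hs, mem_pre.2 ⟨mul_mem (inv_mem h4) (hS hs), by
      rwa [br_mul (inv_mem h4) (hS hs), br_inv h4]⟩⟩))

theorem CV.zd_of_beta (h : CV Zs S V) (h8 : 8 ≤ Nat.card V) (hb : Beta S (zs Zs S) V) :
    ∃ M, ZD V M :=
  h.toMH.core h.sv h8 (fun C h1 h2 => h.irr C h1 (h.nv.trans h2))
    (hb.1.trans (centralizer_le h.le)) fun _ => h.good_of_beta hb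

end CfsgLib.HI
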