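import Cfsg.Agent.Lib.HI.BNa
import Cfsg.Agent.Lib.HI.BGQ

/-!
# Step B2: the case that a four-group fixes a line pointwise
-/

set_option autoImplicit false
set_option linter.unusedSectionVars false

namespace CfsgLib.HI

open Subgroup MulAction Cfsg CfsgLib.H1 CfsgLib.SE CfsgLib.Suz CfsgLib.GO

universe u

namespace BX

variable {G Ω : Type u} [Group G] [Finite G] [MulAction G Ω] {Zs Z : Set G} (h : BX G Ω Zs Z)
include h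

section
variable {w : G} {V P : Subgroup G} (F : Fl Z w V P) (hb : BigL Ω w)
include F hb

theorem odd_le {R : Subgroup G} {α : Ω} (h1 : P ≤ stabilizer G α) (hR : Odd (Nat.card R))
    (h2 : R ≤ stabilizer G α) (h3 : P ≤ normalizer (R : Set G)) : R ≤ Nw Ω w := by
  have : Fact (Nat.Prime 2) := ⟨Nat.prime_two⟩
  have key : ∀ y ∈ P, IsInv y → y ∈ Nw Ω w → R ⊓ centralizer {y} ≤ Nw Ω w := by
    rintro y hy y1 y2 r ⟨hr, hr'⟩
    obtain ⟨y3, y4⟩ := h.fix_eq F.inv F.nm y1 y2 (F.commw hy).symm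
    have h4 : V ≤ centralizer {y} := fun a ha => GO.mem_cent.2 (F.comm hy ha)
    obtain ⟨P', -, F'⟩ := F.mx.exists_fl y1 y3 h4 IsPGroup.of_bot bot_le
    rw [Nw, ← y4]
    refine h.oddc F' hr' (odd_orderOf_of_mem hR hr) fun a ha => ?_
    rcases F.mx.mem h.zc ha with rfl | a1
    · simp
    have a2 := F.le h.zc ha
    refine mem_of_sq_mem (odd_orderOf_of_mem hR ?_) ((h.lm y1 y3).zz _ (h.conj a a1 r) a a1
      (mul_mem (mul_mem hr' (h4 ha)) (inv_mem hr')) (h4 ha) α (h1 hy)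
      (mul_mem (mul_mem (h2 hr) (h1 a2)) (inv_mem (h2 hr))) (h1 a2))
    have := R.mul_mem hr (conj_mem_of_mem_normalizer (h3 a2) (R.inv_mem hr))
    rwa [(h.inv a a1).inv_eq, ← mul_assoc, ← mul_assoc] at this
  obtain ⟨x, x1, x2, x3, x4⟩ := hb
  obtain ⟨T, hT, e1, e2⟩ := F.exists_T h.zc
  obtain ⟨c, hc, h4⟩ := hT.exists_conj_le (Invol.isPGroup_zpowers x1.1)
    (zpowers_le.2 (GO.mem_cent.2 x4))
  have h7 : c * x * c⁻¹ ∈ T := h4 (mem_map_of_mem _ (mem_zpowers x))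
  obtain ⟨y, y0, y1, y2, y3⟩ : ∃ y ∈ P, IsInv y ∧ w ≠ y ∧ y ∈ Nw Ω w :=
    ⟨c * x * c⁻¹, e2.le ⟨h7, e1 ▸ h.cen.mem hT.isPGroup h7 (x1.conj c).1⟩, x1.conj c,
      fun e => x2 (by simpa using e.symm.trans (conj_eq_of_mem_cent hc).symm),
      conj_mem_of_mem_normalizer (cent_le_norm_Nw w hc) x3⟩
  have h5 := F.mem
  have h6 := (F.commw y0).symm
  exact le_of_four F.inv y1 y2 h6 hR (h3 h5) (h3 y0) (key w h5 F.inv (mem_Nw_self w))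
    (key y y0 y1 y3)
    (key _ (P.mul_mem h5 y0) (isInv_mul F.inv y1 y2 h6) (mul_mem (mem_Nw_self w) y3))

theorem big_mul {a : G} (ha : a ∈ V) : BigL Ω (w * a) :=
  let ⟨g, _, e⟩ := h.exists_conj F ha
  e ▸ hb.conj g

end

theorem core_stab {w : G} (hw : IsInv w) (hw' : w ∉ Z) (hb : BigL Ω w) (α : Ω) :
    GW.Od (stabilizer G α) = ⊥ := by
  have h0 : piCoreOf {2}ᶜ (Nw Ω w) = ⊥ := by
    refine eq_bot_iff.2 fun r hr => h.faith r fun γ => ?_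
    have h0 := piCoreOf_le (π := {2}ᶜ) (Nw Ω w)
    obtain ⟨t, ht, V, P, F, h1, h2⟩ := h.exists_line hw hw' γ
    obtain ⟨δ, h3⟩ := h.fix ht
    exact mem_Nf.1 (h.odd_le (F.mul h.zc h1) (h.big_mul F hb h1)
      (h.le_stab F.two ht (F.le h.zc h1) h3) (odd_piCoreOf (Nw Ω w))
      (fun x hx => mem_Nf.1 (h0 hx) δ (h.fix_of_comm ht h3 (F.wv h1).symm))
      (F.cw'.trans ((cent_le_norm_Nw w).trans (normalizer_le_normalizer_piCoreOf _))) hr) γ h2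
  obtain ⟨V, P, F, -⟩ := h.exists_fl hw hw' hw.1 rfl
  obtain ⟨β, h1, h2⟩ := (h.lm hw hw').fix2 P F.cw' F.two
  obtain ⟨g, rfl⟩ := h.trans β α
  have h3 := le_normalizer_piCoreOf (π := {2}ᶜ) (stabilizer G β)
  rw [GW.Od, stab_smul, piCoreOf_map_conj, map_eq_bot_iff_of_injective _ (MulAut.conj g).injective,
    eq_bot_iff, ← h0]
  exact le_oddCore (h.odd_le F hb h2 (odd_piCoreOf _) (piCoreOf_le _) (h2.trans h3))
    (le_trans (fun x hx => mem_Nf.1 hx β h1) h3) (odd_piCoreOf _)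

theorem false_of_od (hO : ∀ α : Ω, GW.Od (stabilizer G α) = ⊥) {u₀ : G} (hu₀ : IsInv u₀)
    (hu₀' : u₀ ∉ Z) : False := by
  have : Fact (Nat.Prime 2) := ⟨Nat.prime_two⟩
  have := h.finite
  obtain ⟨u, hu, hu', hc⟩ := h.exists_u hO hu₀ hu₀'
  have na := fun {α z x} => h.na hO hu hu' (a := α) (z := z) (x := x)
  obtain ⟨V₀, P₀, F₀, -⟩ := h.exists_fl hu hu' hu.1 rfl
  set U : Set G := {w | ∃ g, g * u * g⁻¹ = w}
  have U1 : ∀ {w}, w ∈ U → IsInv w := by rintro _ ⟨g, rfl⟩; exact hu.conj g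
  have U2 : ∀ {w}, w ∈ U → w ∉ Z := by rintro _ ⟨g, rfl⟩; exact mt h.conj_iff.1 hu'
  have U3 : ∀ {w v : G} {α : Ω}, w ∈ U → v ∈ U → w • α = α → v • α = α → w * v = v * w := by
    rintro _ _ α ⟨g, rfl⟩ ⟨k, rfl⟩
    exact hc α g k
  have U4 : ∀ {w V P a}, w ∈ U → Fl Z w V P → a ∈ V → w * a ∈ U := by
    rintro _ V P a ⟨g, rfl⟩ F ha
    obtain ⟨k, -, e⟩ := h.exists_conj F ha
    exact ⟨k * g, by rw [← e]; group⟩
  have fl : ∀ {w : G} {α : Ω}, w ∈ U → w • α = α → ∃ V P, Fl Z w V P ∧ V ≤ stabilizer G α ∧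
      ∀ v ∈ U, v • α = α → ∃ a ∈ V, fixedBy Ω (w * a) = fixedBy Ω v := fun {w α} hw h1 => by
    obtain ⟨S, hS⟩ := IsSylowIn.exists_in (p := 2) (stabilizer G α)
    have hV : Mx Z (zs Z S) := ⟨S, h.sylow_top hS, rfl⟩
    have h2 : ∀ v ∈ U, v • α = α → zs Z S ≤ centralizer {v} := fun v hv e =>
      (closure_le _).2 fun z hz => GO.mem_cent.2 (na hz.1 (hS.le hz.2) (U1 hv).1 e).symm
    obtain ⟨P, -, F⟩ := hV.exists_fl (U1 hw) (U2 hw) (h2 w hw h1) IsPGroup.of_bot bot_le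
    refine ⟨_, P, F, (GO.zs_le Z S).trans hS.le, fun v hv h3 => ?_⟩
    obtain ⟨P', h4, F'⟩ := hV.exists_fl (U1 hv) (U2 hv) (h2 v hv h3)
      (Invol.isPGroup_zpowers (U1 hw).1)
      (zpowers_le.2 ⟨GO.mem_cent.2 (U3 hw hv h1 h3), fun a ha => F.wv ha⟩)
    have h5 := h4 (mem_zpowers w)
    obtain ⟨a, ha, h6⟩ := h.lift F' h5 ((U1 hw).1 ▸ one_mem _)
    exact ⟨a, ha, (h.fix_eq F'.inv F'.nm (F.mul h.zc ha).inv h6
      (F'.commw (mul_mem h5 (F'.le h.zc ha))).symm).2⟩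
  obtain ⟨α₀, -⟩ := h.nontriv
  have : Nonempty Ω := ⟨α₀⟩
  obtain ⟨r, hr, hr'⟩ : ∃ r, (r = Nat.card V₀ ∨ r = Nat.card V₀ ^ 2) ∧
      (fixedBy Ω u).ncard = r + 1 :=
    (h.typ F₀).elim (fun e => ⟨_, Or.inl rfl, e.1⟩) fun e => ⟨_, Or.inr rfl, e.1⟩
  refine gq_false (fixedBy Ω '' U) (h.four' F₀.mx) hr (fun α => ?_) ?_ ?_ ?_
  · obtain ⟨-, -, β, -, -, h1, -⟩ := h.bad hu hu'
    obtain ⟨g, rfl⟩ := h.trans β α
    have h2 := conj_smul_eq (g := g) h1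
    obtain ⟨V, P, F, h3, h4⟩ := fl ⟨g, rfl⟩ h2
    rw [F₀.mx.card_eq h.zc F.mx, ← SetLike.coe_sort_coe, Nat.card_coe_set_eq,
      ← Set.InjOn.ncard_image (f := fun a => fixedBy Ω (g * u * g⁻¹ * a)) fun a ha b hb e =>
        h.ne_fix F ha hb (mem_Nf.2 fun _ hβ => e.le hβ)]
    refine congrArg _ (Set.ext fun l => ⟨?_, ?_⟩)
    · rintro ⟨⟨v, hv, rfl⟩, h5⟩
      exact h4 v hv h5
    · rintro ⟨a, ha, rfl⟩
      exact ⟨⟨_, U4 ⟨g, rfl⟩ F ha, rfl⟩, by rw [mem_fixedBy, mul_smul, h3 ha, h2]⟩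
  · rintro _ ⟨_, ⟨g, rfl⟩, rfl⟩
    rw [← smul_fixedBy, Set.ncard_smul_set, hr']
  · rintro _ ⟨w, hw, rfl⟩ _ ⟨v, hv, rfl⟩ α h1 β h2 h3 h4 hne
    have h5 := U3 hv hw h3 h1
    obtain ⟨V, P, F, h6⟩ := h.exists_fl (U1 hw) (U2 hw) (U1 hv).1 h5
    exact (h.fix_eq F.inv F.nm (U1 hv) (h.two' F h6 hne h1 h2 h3 h4) h5.symm).2.symm
  · rintro _ ⟨w, hw, rfl⟩ γ hγ
    obtain ⟨t, ht, V, P, F, h1, h2⟩ := h.exists_line (U1 hw) (U2 hw) γ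
    obtain ⟨δ, h3⟩ := h.fix ht
    have h4 := h.fix_of_comm ht h3 (F.wv h1).symm
    refine ⟨(fixedBy Ω (w * t), δ), ⟨⟨_, U4 hw F h1, rfl⟩, h2,
      by rw [mem_fixedBy, mul_smul, h3, h4], h4⟩, ?_⟩
    rintro ⟨_, ε⟩ ⟨⟨v, hv, rfl⟩, h5, h6, h7⟩
    obtain ⟨V', P', F', h8, h9⟩ := fl hw h7
    obtain ⟨s, hs, e⟩ := h9 v hv h6
    have h10 : (w * s) • γ = γ := e.ge h5
    have h11 := F'.mx.memZ h.zc hs fun e' => hγ (by rwa [e', mul_one] at h10)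
    obtain ⟨a, ha, h12⟩ := h.exists_fix γ
    obtain rfl := h.t_uniq (U1 hw).1 ha h12 hγ ht h11 (F.wv h1) (F'.wv hs)
      (na ha h12 (F.mul h.zc h1).inv.1 h2) (na ha h12 (F'.mul h.zc hs).inv.1 h10)
    exact Prod.ext e.symm (h.uniq t ht _ _ (h8 hs) h3)

end BX

end CfsgLib.HI
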