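import Cfsg.Agent.Lib.HI.BCtx
import Cfsg.Agent.Lib.HI.BAff

/-!
# Step B2: the case that no four-group fixes a line pointwise
-/

set_option autoImplicit false
set_option linter.unusedSectionVars false

namespace CfsgLib.HI

open Subgroup MulAction Cfsg CfsgLib.H1 CfsgLib.SE CfsgLib.Suz CfsgLib.GO
open scoped commutatorElement

universe u

namespace BX

variable {G Ω : Type u} [Group G] [Finite G] [MulAction G Ω] {Zs Z : Set G} (h : BX G Ω Zs Z)
  (hs : ∀ w : G, IsInv w → w ∉ Z → ¬ BigL Ω w) {u : G} {V P S : Subgroup G} (F : Fl Z u V P)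
include h hs F

theorem eq_of_mem {x : G} (hx : x ∈ P) (h1 : x ∈ Nw Ω u) : x = 1 ∨ x = u := by
  by_contra! h0
  exact hs u F.inv F.nm ⟨x, ⟨h.sq_of_mem F hx h1, h0.1⟩, h0.2, h1, F.commw hx⟩

theorem inv_P {x : G} (hx : x ∈ P) (h1 : x * x = 1) : u * x ∈ V ∨ x ∈ V := by
  obtain ⟨b, hb, h2⟩ := h.lift F hx (h1 ▸ one_mem _)
  refine (h.eq_of_mem hs F (P.mul_mem hx (F.le h.zc hb)) h2).symm.imp (fun e => ?_) fun e => ?_
  · rw [← V.mul_mem_cancel_right hb, mul_assoc, e, F.inv.1]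
    exact one_mem _
  · rw [← V.mul_mem_cancel_right hb, e]
    exact one_mem _

theorem card_cent (L : SzL V P (Nw Ω u)) {y : G} (hy : y ∈ P) (h1 : y * y ≠ 1) :
    Nat.card V ≤ 2 * (centralizer {y}).relIndex P := by
  have sq := fun x => h.sq_P F (s := x)
  have e : ∀ {x}, x ∈ V → x ∈ Nw Ω u → x = 1 := h.eq_one_of_mem F
  have w0 := F.mem
  have iv : ∀ x ∈ P, x * x = 1 → x ∈ V ⊔ zpowers u := fun x hx e1 => (h.inv_P hs F hx e1).elim
    (fun e => (mul_mem_cancel_left (mem_sup_right (mem_zpowers u))).1 (mem_sup_left e)) mem_sup_left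
  have h7 := SE.card_inf_mul_relIndex (centralizer {y}) P
  have h8 := card_le_of_le (show P ⊓ centralizer {y} ≤ (V ⊔ zpowers u) ⊔ zpowers y
    from fun x hx => by
      rcases L.comm y hy x hx.1 (by rw [GO.mem_cent.1 hx.2, inv_mul_cancel]; exact one_mem _)
        with e1 | e1 | e1
      · exact absurd (e (sq y hy) e1) h1
      · exact mem_sup_left (iv x hx.1 (e (sq x hx.1) e1))
      · have h2 := P.mul_mem (P.inv_mem hy) hx.1
        exact (mul_mem_cancel_left (inv_mem (mem_sup_right (mem_zpowers _)))).1 (mem_sup_left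
          (iv _ h2 (e (sq _ h2) (L.inj y hy x hx.1 e1)))))
  have h9 := card_sup_zpowers_le (K := V ⊔ zpowers u) (le_norm_of_sq
    (F.cv.trans (centralizer_le_normalizer _)) sq le_sup_left
    (sup_le (F.le h.zc) (zpowers_le.2 w0)) hy) (mem_sup_left (sq y hy))
  have h10 := card_sup_zpowers_le (centralizer_le_normalizer _ (F.cv w0)) (F.inv.1 ▸ one_mem _)
  rw [L.cT, show P ⊓ Nw Ω u = zpowers u from le_antisymm (fun x hx =>
    (h.eq_of_mem hs F hx.1 hx.2).elim (fun e => e ▸ one_mem _) fun e => e ▸ mem_zpowers _)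
    (zpowers_le.2 ⟨w0, mem_Nw_self u⟩), F.inv.card_zpowers] at h7
  have h12 := Nat.mul_le_mul_right ((centralizer {y}).relIndex P)
    (h8.trans (h9.trans (Nat.mul_le_mul_left 2 h10)))
  have h11 : 0 < Nat.card V := Nat.card_pos
  rw [h7] at h12
  nlinarith

variable (hS : IsSylowIn 2 S ⊤) (h1 : P ≤ S)
include hS h1

theorem zs_S : zs Z S = V := F.mx.zs_eq h.zc hS.isPGroup ((F.le h.zc).trans h1)

theorem norm_V : S ≤ normalizer (V : Set G) :=
  h.zs_S hs F hS h1 ▸ le_normalizer.trans (h.norm_zs S)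

theorem mem_P {x : G} (hx : x ∈ S) (h2 : x ∈ centralizer {u})
    (h3 : x ∈ centralizer (V : Set G)) : x ∈ P :=
  haveI : Fact (Nat.Prime 2) := ⟨Nat.prime_two⟩
  (F.syl.eq_of_le hS.isPGroup.to_inf_left (le_inf h1 F.syl.le) inf_le_right).le ⟨hx, h2, h3⟩

theorem cenS {x : G} (hx : x ∈ S) (h2 : x * x = 1) : x ∈ centralizer (V : Set G) :=
  h.zs_S hs F hS h1 ▸ h.cen.mem hS.isPGroup hx h2

theorem fus {g : G} (hg : g * u * g⁻¹ ∈ S) : ∃ a ∈ V, g * u * g⁻¹ = u * a :=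
  have h2 := Invol.conj_mul_self F.inv.1 g
  ⟨_, (h.inv_P hs F (h.mem_P hs F hS h1 hg (GO.mem_cent.2 (h.com hS.isPGroup (h1 F.mem) F.inv.1 hg))
    (h.cenS hs F hS h1 hg h2)) h2).resolve_right fun e =>
      F.nm (h.conj_iff.1 (F.mx.memZ h.zc e (F.inv.conj g).2)), (F.inv.mul_mul _).symm⟩

theorem fusS {s : G} (hs' : s ∈ S) : ∃ a ∈ V, s * u * s⁻¹ = u * a :=
  h.fus hs F hS h1 (conj_mem_of_mem_normalizer (le_normalizer hs') (h1 F.mem))

theorem norm_P : S ≤ normalizer (P : Set G) := fun s hs' => mem_normalizer_fintype fun x hx => by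
  obtain ⟨a, ha, e⟩ := h.fusS hs F hS h1 hs'
  have h2 := conj_mem_of_mem_normalizer
    (le_normalizer_centralizer (h.norm_V hs F hS h1) hs') (F.cv hx)
  exact h.mem_P hs F hS h1 (conj_mem_of_mem_normalizer (le_normalizer hs') (h1 hx))
    ((F.inf_eq ha).le ⟨GO.mem_cent.2 (by rw [← e, conj_mul, conj_mul, F.commw hx]), h2⟩).1 h2

theorem exists_conj_S {a : G} (ha : a ∈ V) : ∃ s ∈ S, s * u * s⁻¹ = u * a := by
  have : Fact (Nat.Prime 2) := ⟨Nat.prime_two⟩
  have e : ∀ y, y * u⁻¹ ∈ V ↔ ∃ a ∈ V, y = u * a := fun y => ⟨fun hy =>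
    ⟨_, hy, by rw [← F.wv hy, inv_mul_cancel_right]⟩, fun ⟨a, ha, e⟩ => by
      rwa [e, ← F.wv ha, mul_inv_cancel_right]⟩
  have h0 := le_inf (h.norm_V hs F hS h1) (h.norm_P hs F hS h1)
  have h2 := Frob.ncard_conj_subgroup (normalizer (V : Set G) ⊓ normalizer (P : Set G)) u
  rw [show {y | ∃ x ∈ normalizer (V : Set G) ⊓ normalizer (P : Set G), x * u * x⁻¹ = y} =
    {y | y * u⁻¹ ∈ V} from Set.ext fun y => ⟨fun ⟨x, hx, e'⟩ => (e y).2 (e' ▸ h.fus hs F hS h1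
      (h1 (conj_mem_of_mem_normalizer hx.2 F.mem))), fun e' => by
        obtain ⟨a, ha, rfl⟩ := (e y).1 e'
        exact h.exists_conj F ha⟩, ncard_coset] at h2
  have h3 : Nat.card V ∣ (centralizer {u}).relIndex S *
      S.relIndex (normalizer (V : Set G) ⊓ normalizer (P : Set G)) := by
    rw [← inf_relIndex_right, relIndex_mul_relIndex _ _ _ inf_le_right h0, h2]
    exact relIndex_dvd_of_le_left _ inf_le_left
  obtain ⟨n, hn⟩ := F.mx.two.exists_card_eq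
  have h4 := Nat.le_of_dvd (Nat.pos_of_ne_zero index_ne_zero_of_finite) ((hn ▸
    ((Nat.prime_two.coprime_iff_not_dvd).2 (hS.mono h0 le_top).not_dvd).pow_left n :
      (Nat.card V).Coprime _).dvd_of_dvd_mul_right h3)
  refine (Set.eq_of_subset_of_ncard_le (s := {y | ∃ x ∈ S, x * u * x⁻¹ = y})
    (t := {y | y * u⁻¹ ∈ V}) (fun y ⟨x, hx, e'⟩ => (e y).2 (e' ▸ h.fusS hs F hS h1 hx))
    (by rwa [ncard_coset, Frob.ncard_conj_subgroup])).ge ((e _).2 ⟨a, ha, rfl⟩)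

theorem exists_transl (el : ∀ x ∈ P, x * x = 1) :
    ∃ x ∈ S, x ∈ centralizer (V : Set G) ∧ x * u * x⁻¹ ≠ u := by
  have : Fact (Nat.Prime 2) := ⟨Nat.prime_two⟩
  have hN := h.norm_P hs F hS h1
  have dec := fun x hx => h.inv_P hs F hx (el x hx)
  have cP : ∀ x, x ∈ centralizer {u} → x ∈ centralizer (V : Set G) → x ∈ centralizer (P : Set G) :=
    fun x a b p hp => (dec p hp).elim (fun e => mul_left_cancel (a := u) (by
      rw [← mul_assoc, b _ e, ← mul_assoc, ← mul_assoc, GO.mem_cent.1 a])) (b p)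
  obtain ⟨a, ha, a1, -⟩ := h.exists_third F.mx 1 1
  obtain ⟨x, hx, x1, x2, x3⟩ : ∃ x ∈ S, x ∉ centralizer (P : Set G) ∧
      x * x ∈ centralizer (P : Set G) ∧ ∀ s ∈ S, s * u * s⁻¹ = x * (s * u * s⁻¹) * x⁻¹ ↔
        u = x * u * x⁻¹ := by
    have h2 := (hS.isPGroup.comap_subtype (K := normalizer (P : Set G))).map P.normalizerMonoidHom
    obtain ⟨⟨_, ⟨x, hx, rfl⟩, h3⟩, h4⟩ := ne_bot_iff_exists_ne_one.1
      (inf_centralizer_ne_bot_of_isNilpotent h2.isNilpotent le_rfl le_normalizer fun e => by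
        obtain ⟨s, h3, h4⟩ := h.exists_conj_S hs F hS h1 ha
        have h5 : s ∈ centralizer (P : Set G) :=
          P.normalizerMonoidHom_ker.le (e.le (mem_map_of_mem _ (show ⟨s, hN h3⟩ ∈ _ from h3)))
        rw [← h5 u F.mem, mul_inv_cancel_right, left_eq_mul] at h4
        exact a1 h4)
    obtain ⟨j, h5, h6⟩ := exists_invol_of_two (isPGroup_zpowers_of_mem h2 (mem_map_of_mem _ hx))
      fun e => h4 (Subtype.ext e)
    rw [← map_pow] at h5 h6
    refine ⟨(x ^ j :), S.pow_mem hx j, fun e => h6 (P.normalizerMonoidHom_ker.ge e),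
      P.normalizerMonoidHom_ker.le (show x ^ j * x ^ j ∈ P.normalizerMonoidHom.ker from
        (map_mul _ _ _).trans h5), fun s h7 => ?_⟩
    have h8 := congrArg Subtype.val (DFunLike.congr_fun (pow_mem h3 j _
      (mem_map_of_mem _ (show ⟨s, hN h7⟩ ∈ _ from h7))) ⟨u, F.mem⟩)
    rw [← map_pow] at h8
    generalize x ^ j = z at h8
    change s * (z * u * (z : G)⁻¹) * s⁻¹ = z * (s * u * s⁻¹) * (z : G)⁻¹ at h8
    rw [← h8, mul_left_inj, mul_right_inj]
  have x4 : x * u * x⁻¹ ≠ u := fun e => x1 (cP x (GO.mem_cent.2 (mul_inv_eq_iff_eq_mul.1 e))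
    fun b hb => by
      obtain ⟨s, h2, h3⟩ := h.exists_conj_S hs F hS h1 hb
      have := (x3 s h2).2 e.symm
      rwa [h3, ← conj_mul, e, mul_right_inj, eq_mul_inv_iff_mul_eq] at this)
  refine ⟨x, hx, ?_, x4⟩
  have nV : normalizer (P : Set G) ≤ normalizer (V : Set G) :=
    F.mx.zs_eq h.zc F.two (F.le h.zc) ▸ h.norm_zs P
  have xx : x * x ∈ P := h.mem_P hs F hS h1 (mul_mem hx hx) (GO.mem_cent.2 (x2 u F.mem).symm)
    (centralizer_le (F.le h.zc) x2)
  refine (aff_group el (relIndex_eq_two_iff_exists_notMem_and'.2 ⟨u, F.mem, F.notMem h.zc, dec⟩)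
    (F.le h.zc) (fun e => a1 (e.le ha)) nV (fun w hw hw' => ?_) (hN hx) x2
    fun w hw hw' e => ?_).elim id fun e => ?_
  · have h2 := (dec w hw).resolve_right hw'
    have F' := F.mul h.zc h2
    rw [F.inv.mul_mul] at F'
    obtain ⟨y, hy, y1, y2⟩ := h.cyc F'
    refine ⟨y, mem_normalizer_fintype fun p hp => ?_, conj_eq_of_mem_cent hy.1, y1,
      fun g hg e => y2 g ⟨mem_cent_of_conj_eq e, nV hg⟩⟩
    rcases h.inv_P hs F' hp (el p hp) with e | e
    · have := F.le h.zc (conj_mem_of_mem_normalizer hy.2 e)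
      rwa [← conj_mul, conj_eq_of_mem_cent hy.1, P.mul_mem_cancel_left hw] at this
    · exact F.le h.zc (conj_mem_of_mem_normalizer hy.2 e)
  · obtain ⟨s, h2, h3⟩ := h.exists_conj_S hs F hS h1 ((dec w hw).resolve_right hw')
    rw [F.inv.mul_mul] at h3
    exact x4 ((x3 s h2).1 (by rw [h3, e])).symm
  · obtain ⟨w, hw, h2⟩ := e _ xx (by group)
    exact (mul_mem_cancel_left (F.cv hw)).1 (h.cenS hs F hS h1 (mul_mem (h1 hw) hx) (by
      rw [← el _ xx]
      nth_rw 1 [h2]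
      group))

theorem cen_el (el : ∀ x ∈ P, x * x = 1) : S ≤ centralizer (V : Set G) := by
  have : Fact (Nat.Prime 2) := ⟨Nat.prime_two⟩
  have := h.mh.simple
  have hN := h.norm_V hs F hS h1
  obtain ⟨y, hy, y1, y2⟩ := h.cyc F
  obtain ⟨x, hx, x1, x2⟩ := h.exists_transl hs F hS h1 el
  obtain ⟨a, ha, x3⟩ := h.fusS hs F hS h1 hx
  have tr : ∀ b ∈ V, ∃ c ∈ centralizer (V : Set G), c * u * c⁻¹ = u * b := fun b hb => by
    by_cases b1 : b = 1
    · exact ⟨1, one_mem _, by simp [b1]⟩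
    obtain ⟨i, rfl⟩ := y1 a ha b hb (fun e => x2 (by rw [x3, e, mul_one])) b1
    have := conj_eq_of_mem_cent (pow_mem hy.1 i)
    exact ⟨_, conj_mem_of_mem_normalizer (le_normalizer_centralizer le_rfl (pow_mem hy.2 i)) x1,
      by
        calc _ = y ^ i * x * (y ^ i)⁻¹ * (y ^ i * u * (y ^ i)⁻¹) * (y ^ i * x * (y ^ i)⁻¹)⁻¹ := by
              rw [this]
          _ = y ^ i * (x * u * x⁻¹) * (y ^ i)⁻¹ := by group
          _ = _ := by rw [x3, ← conj_mul, this]⟩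
  set f := V.normalizerMonoidHom
  have key : ∀ g : normalizer (V : Set G), ∃ i : ℕ,
      f g * f ⟨y, hy.2⟩ * (f g)⁻¹ = f ⟨y, hy.2⟩ ^ i := fun g => by
    have h2 := hS.inf_of_le_normalizer le_top (le_normalizer_centralizer hN)
    obtain ⟨c, hc, h3⟩ := h2.exists_conj_le (Invol.isPGroup_zpowers (F.inv.conj g).1)
      (zpowers_le.2 (conj_mem_of_mem_normalizer (le_normalizer_centralizer le_rfl g.2) (F.cv F.mem)))
    obtain ⟨b, hb, h4⟩ := h.fus hs F hS h1 (g := c * g) (by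
      simpa [mul_assoc] using (h3 (mem_map_of_mem _ (mem_zpowers _))).1)
    obtain ⟨d, hd, h5⟩ := tr b hb
    have h6 := mul_mem (inv_mem hd) hc
    have h7 := centralizer_le_normalizer _ h6
    obtain ⟨i, hi⟩ := y2 (d⁻¹ * c * g) ⟨mem_cent_of_conj_eq (by
      rw [show d⁻¹ * c * g * u * (d⁻¹ * c * g)⁻¹ = d⁻¹ * (c * g * u * (c * g)⁻¹) * d by group, h4,
        ← h5]
      group), mul_mem h7 g.2⟩
    have h8 : f ⟨_, h7⟩ = 1 := V.normalizerMonoidHom_ker.ge h6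
    refine ⟨i, ?_⟩
    rw [← one_mul (f g), ← h8, ← map_mul, ← map_inv, ← map_mul, ← map_mul, ← map_pow]
    exact MulEquiv.ext fun a => Subtype.ext (hi a a.2)
  obtain ⟨z, hz, z1, z2⟩ := h.exists_center hS.isPGroup (F.mx.memZ h.zc ha fun e => x2 (by
    rw [x3, e, mul_one])) (h1 (F.le h.zc ha))
  have z3 : z ∈ V := (h.zs_S hs F hS h1).le (mem_zs_of hz z1)
  refine le_trans (le_inf (le_top.trans (?_ : ⁅(⊤ : Subgroup G), ⊤⁆ = ⊤).ge) le_rfl)
    (Fusion.commutator_inf_le_of_isSylowIn hS fun b hb g _ hg => ?_)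
  · exact (IsSimpleGroup.eq_bot_or_eq_top_of_normal _ inferInstance).resolve_left fun e =>
      h.mh.nonab ⟨⟨fun a b => commutatorElement_eq_one_iff_mul_comm.1
        (e.le (commutator_mem_commutator (mem_top a) (mem_top b)))⟩⟩
  obtain ⟨m, -, hm, h2⟩ := h.ctl S hS g (mem_top g)
  rw [h.zs_S hs F hS h1] at hm
  have h0 := h2 b hb hg
  rw [← h0] at hg ⊢
  obtain ⟨i, hi⟩ := key ⟨m, hm⟩⁻¹
  obtain ⟨j, hj⟩ := key ⟨b, hN hb⟩⁻¹
  have h3 := comm_of_pow hi hj
  rw [← map_mul, ← map_mul f _⁻¹, ← map_inv, ← map_mul] at h3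
  intro c hc
  by_cases c1 : c = 1
  · simp [c1]
  obtain ⟨k, rfl⟩ := y1 z z3 c hc (h.ne_one hz) c1
  have h4 := congrArg Subtype.val (fix_of_sing h3 (a := (⟨z, z3⟩ : V)) (Subtype.ext (by
    have := conj_eq_of_mem_cent (z2 (mul_mem hg (inv_mem hb)))
    simpa [f, mul_assoc] using this)) k)
  rw [← map_pow] at h4
  change (b⁻¹ * m⁻¹)⁻¹ * (m⁻¹ * b⁻¹) * (y ^ k * z * (y ^ k)⁻¹) * _⁻¹ = y ^ k * z * (y ^ k)⁻¹ at h4
  rw [mul_inv_eq_iff_eq_mul] at h4
  simpa [mul_assoc] using h4.symm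

theorem cen_sz (L : SzL V P (Nw Ω u)) : S ≤ centralizer (V : Set G) := by
  by_contra h0
  have hV := h.norm_V hs F hS h1
  have hP := h.norm_P hs F hS h1
  have sq := fun x => h.sq_P F (s := x)
  obtain ⟨⟨v, v1, v2⟩, v3⟩ := ne_bot_iff_exists_ne_one.1 (inf_centralizer_ne_bot_of_isNilpotent
    (N := ⁅V, S⁆) hS.isPGroup.isNilpotent ((le_normalizer_iff_commutator_le_left.1 hV).trans
      ((F.le h.zc).trans h1)) (Cop.le_normalizer_commutator hV le_normalizer) fun e =>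
        h0 (le_centralizer_iff.1 (commutator_eq_bot_iff_le_centralizer.1 e)))
  have v4 : v ∈ V := le_normalizer_iff_commutator_le_left.1 hV v1
  obtain ⟨y, hy, y1⟩ := L.surj v v4
  have y2 : y * y = v := by
    rw [eq_inv_of_mul_eq_one_left (h.eq_one_of_mem F (mul_mem (sq y hy) v4) y1),
      Invol.inv_eq (F.mx.sq h.zc v4)]
  have y3 : y * y ≠ 1 := fun e => v3 (Subtype.ext (y2 ▸ e))
  have cm : ∀ x ∈ P, x * y * x⁻¹ * y⁻¹ ∈ V := fun x hx =>
    comm_mem_of_sq (F.cv.trans (centralizer_le_normalizer _)) sq hx hy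
  let φ : P →* G := MonoidHom.mk' (fun x => x * y * (x : G)⁻¹ * y⁻¹) fun a b => by
    have := F.comm a.2 (cm b b.2)
    push_cast
    calc _ = a * (b * y * (b : G)⁻¹ * y⁻¹) * y * (a : G)⁻¹ * y⁻¹ := by group
      _ = _ := by rw [← this, ← F.comm (mul_mem (mul_mem (mul_mem a.2 hy) (inv_mem a.2)) (inv_mem hy))
          (cm b b.2)]; group
  have h2 : φ.range ≤ V := by rintro _ ⟨x, rfl⟩; exact cm x x.2
  have h3 : v ∉ φ.range := by
    rintro ⟨⟨x, hx⟩, e⟩
    have e1 : x * y * x⁻¹ * y⁻¹ = y * y := y2 ▸ e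
    have e2 : y * y * (y * y) = 1 := F.mx.sq h.zc (sq y hy)
    have h3 := mul_mem (inv_mem hx) (mul_mem hy hx)
    have := h.eq_one_of_mem F (sq _ h3) (L.inj x hx _ (mul_mem hy hx) (by
      rw [show y * x * (y * x) = y * (x * y * x⁻¹ * y⁻¹) * y * (x * x) by group, e1,
        show y * (y * y) * y = y * y * (y * y) by group, e2, one_mul, inv_mul_cancel]
      exact one_mem _))
    exact y3 (by rw [show y * y = x * (x⁻¹ * (y * x) * (x⁻¹ * (y * x))) * x⁻¹ by group, this]; simp)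
  have h4 : φ.range.relIndex V = 2 := by
    have h4 := card_mul_relIndex h2
    have h5 := h.card_cent hs F L hy y3
    have h6 : φ.range.relIndex V ≠ 1 := fun e => h3 (relIndex_eq_one.1 e v4)
    have h7 : φ.range.relIndex V ≠ 0 := index_ne_zero_of_finite
    have h8 : 0 < Nat.card φ.range := Nat.card_pos
    rw [relIndex, ← h4, show (centralizer {y}).subgroupOf P = φ.ker from Subgroup.ext fun x => by
      rw [mem_subgroupOf, GO.mem_cent, ← mul_inv_eq_iff_eq_mul, ← mul_inv_eq_one]; rfl,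
      index_ker, mul_comm 2] at h5
    have := Nat.le_of_mul_le_mul_left h5 h8
    omega
  have h5 : S ≤ normalizer (φ.range : Set G) := fun s h5 => mem_normalizer_fintype (by
    rintro _ ⟨x, rfl⟩
    have h6 := conj_mem_of_mem_normalizer (hP h5) hy
    have h7 := conj_mem_of_mem_normalizer (hP h5) x.2
    have h8 := mul_mem (inv_mem hy) h6
    have h9 := h.central F h8 (h.eq_one_of_mem F (sq _ h8) (L.inj y hy _ h6 (by
      rw [conj_mul, y2, v2 s h5, mul_inv_cancel_right, inv_mul_cancel]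
      exact one_mem _))) (inv_mem h7)
    refine ⟨⟨_, h7⟩, ?_⟩
    change s * x * s⁻¹ * y * (s * x * s⁻¹)⁻¹ * y⁻¹ = s * (x * y * (x : G)⁻¹ * y⁻¹) * s⁻¹
    calc _ = s * x * s⁻¹ * y * ((s * x * s⁻¹)⁻¹ * (y⁻¹ * (s * y * s⁻¹))) * (s * y * s⁻¹)⁻¹ := by group
      _ = _ := by rw [h9]; group)
  refine h3 ((commutator_le.2 fun a ha s h6 => ?_ : ⁅V, S⁆ ≤ φ.range) v1)
  have := (mul_mem_iff_of_index_two h4 (a := ⟨a, ha⟩)
    (b := ⟨_, conj_mem_of_mem_normalizer (hV h6) (inv_mem ha)⟩)).2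
    (inv_mem_iff.symm.trans (mem_normalizer_iff.1 (h5 h6) _))
  simpa [commutatorElement_def, mem_subgroupOf, mul_assoc] using this

theorem sq_S {s : G} (hs' : s ∈ S) (hc : S ≤ centralizer (V : Set G)) : s * s ∈ V := by
  have cs : ∀ a ∈ V, s * a * s⁻¹ = a := fun a ha => by rw [← hc hs' a ha, mul_inv_cancel_right]
  obtain ⟨a, ha, e⟩ := h.fusS hs F hS h1 hs'
  have a2 := F.mx.sq h.zc ha
  have hy : s * s ∈ P := h.mem_P hs F hS h1 (mul_mem hs' hs') (mem_cent_of_conj_eq (by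
    rw [show s * s * u * (s * s)⁻¹ = s * (s * u * s⁻¹) * s⁻¹ by group, e, ← conj_mul, e, cs a ha,
      mul_assoc, a2, mul_one])) (hc (mul_mem hs' hs'))
  refine h.sq_mem F.mx (hc hs') (by_contra fun h4 => ?_)
  obtain ⟨L, -⟩ := ((h.typ F).resolve_left fun e => h4 (e.2 _ hy)).2 1 (one_mem _)
  rw [mul_one] at L
  have key : ∀ v ∈ P, v * v = 1 → v * (s * v * s⁻¹) = a ∨ v * (s * v * s⁻¹) = 1 := fun v hv e1 => by
    refine (h.inv_P hs F hv e1).imp (fun e2 => ?_) fun e2 => by rw [cs v e2, e1]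
    have : s * v * s⁻¹ = s * u * s⁻¹ * (s * (u * v) * s⁻¹) := by rw [conj_mul, F.inv.mul_mul]
    rw [this, cs _ e2, e, mul_assoc u, F.mx.le_cent h.zc e2 a ha, ← mul_assoc u, F.inv.mul_mul,
      ← mul_assoc, e1, one_mul]
  have h5 : {y | ∃ x ∈ P, x * (s * s) * x⁻¹ = y} ⊆ {a * (s * s), s * s} := by
    rintro _ ⟨x, hx, rfl⟩
    have h6 := conj_mem_of_mem_normalizer (h.norm_P hs F hS h1 hs') (P.inv_mem hx)
    have h8 := P.mul_mem (P.inv_mem (P.inv_mem hx)) h6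
    have h7 := key _ h8 (h.eq_one_of_mem F (h.sq_P F h8) (L.inj _ (P.inv_mem hx) _ h6 (by
      rw [conj_mul, cs _ (h.sq_P F (P.inv_mem hx)), inv_mul_cancel]
      exact one_mem _)))
    rw [show x⁻¹⁻¹ * (s * x⁻¹ * s⁻¹) * (s * (x⁻¹⁻¹ * (s * x⁻¹ * s⁻¹)) * s⁻¹) =
      x * (s * s) * x⁻¹ * (s * s)⁻¹ by group] at h7
    exact h7.imp mul_inv_eq_iff_eq_mul.1 mul_inv_eq_one.1
  have h6 := (Set.ncard_le_ncard h5).trans (Set.ncard_insert_le _ _)
  rw [Frob.ncard_conj_subgroup, Set.ncard_singleton] at h6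
  have h7 := h.card_cent hs F L hy h4
  have := L.eight
  omega

theorem false_of_small : False := by
  have := h.mh.simple
  have hA := (F.le h.zc).trans h1
  have hn := h.norm_V hs F hS h1
  have hc : S ≤ centralizer (V : Set G) := (h.typ F).elim (fun e => h.cen_el hs F hS h1 e.2)
    fun e => h.cen_sz hs F hS h1 (by simpa using (e.2 1 (one_mem _)).1)
  have sq := fun s hs' => h.sq_S hs F hS h1 (s := s) hs' hc
  obtain ⟨B, -, ⟨b1, b2, b3⟩, hB⟩ := exists_maximal_ge_of_wellFoundedGT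
    (fun B : Subgroup G => V ≤ B ∧ B ≤ S ∧ u ∉ B) V ⟨le_rfl, hA, F.notMem h.zc⟩
  have h4 : B.relIndex S = 2 := relIndex_eq_two_iff_exists_notMem_and'.2
    ⟨u, h1 F.mem, b3, fun s hs => or_iff_not_imp_right.2 fun e =>
      (Sig.mem_sup_zpowers_of_sq_mem (le_norm_of_sq hn sq b1 b2 hs) (b1 (sq s hs))
        (by_contra fun e' => e (hB ⟨b1.trans le_sup_left, sup_le b2 (zpowers_le.2 hs), e'⟩
          le_sup_left (mem_sup_right (mem_zpowers s))))).resolve_left b3⟩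
  obtain ⟨f, hf⟩ := H5.exists_hom_eq_neg_one_of_forall_conj_notMem (M := B) (by
    have := hS.not_dvd
    rw [relIndex_top_right] at this
    rw [← relIndex_mul_index b2, h4]
    omega) (by rw [pow_two, F.inv.1]) fun g e => b3 (by
      obtain ⟨a, ha, e'⟩ := h.fus hs F hS h1 (g := g⁻¹) (by simpa using b2 e)
      rw [inv_inv] at e'
      rwa [e', B.mul_mem_cancel_right (b1 ha)] at e)
  rcases IsSimpleGroup.eq_bot_or_eq_top_of_normal f.ker inferInstance with e | e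
  · exact h.mh.nonab ⟨⟨fun a b => (f.ker_eq_bot_iff.1 e) (by rw [map_mul, map_mul, mul_comm])⟩⟩
  · exact absurd (hf.symm.trans (e.ge (mem_top u))) (by decide)

end BX

end CfsgLib.HI
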