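import Cfsg.Agent.Lib.HI.Defs
import Cfsg.Agent.Lib.HI.BSmall
import Cfsg.Agent.Lib.HI.BBig

/-!
# The product disconnected configuration
-/

set_option autoImplicit false

namespace CfsgLib.HI

open Subgroup MulAction Cfsg CfsgLib.H1 CfsgLib.SE CfsgLib.Suz CfsgLib.GO

universe u

theorem BX.mem {G Ω : Type u} [Group G] [Finite G] [MulAction G Ω] {Zs Z : Set G}
    (h : BX G Ω Zs Z) {u : G} (hu : IsInv u) : u ∈ Z := by
  have : Fact (Nat.Prime 2) := ⟨Nat.prime_two⟩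
  by_contra hu'
  by_cases hb : ∃ w, IsInv w ∧ w ∉ Z ∧ BigL Ω w
  · obtain ⟨w, hw, hw', hb⟩ := hb
    exact h.false_of_od (h.core_stab hw hw' hb) hu hu'
  obtain ⟨V, P, F, -⟩ := h.exists_fl hu hu' hu.1 rfl
  obtain ⟨S, h1, hS⟩ := IsSylowIn.exists_ge F.two le_top
  exact h.false_of_small (fun w a b c => hb ⟨w, a, b, c⟩) F hS h1

variable {G : Type u} [Group G] [Finite G] {Zs : Set G} {S V M : Subgroup G}

theorem CV.se_of_zd (h : CV Zs S V) (hM : ZD V M) : ∃ M : Subgroup G, IsStronglyEmbedded M := by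
  have : Fact (Nat.Prime 2) := ⟨Nat.prime_two⟩
  have := h.simple
  have hA := h.sv
  set Z : Set G := {z | ∃ g, ∃ a ∈ V, a ≠ 1 ∧ g * a * g⁻¹ = z}
  have inA : ∀ z ∈ Z, ∀ x, x * z * x⁻¹ ∈ S → x * z * x⁻¹ ∈ V := by
    rintro _ ⟨g, a, ha, -, rfl⟩ x hx
    rw [show x * (g * a * g⁻¹) * x⁻¹ = x * g * a * (x * g)⁻¹ by group] at hx ⊢
    exact hA.sc _ a ha hx
  have inv : ∀ z ∈ Z, IsInv z := by
    rintro _ ⟨g, a, ha, h1, rfl⟩
    exact IsInv.conj ⟨by rw [← pow_two]; exact hA.ea.2 a ha, h1⟩ g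
  have pair : ∀ z ∈ Z, ∀ w ∈ Z, IsPGroup 2 (zpowers (z * w)) →
      ∃ x, x * z * x⁻¹ ∈ V ∧ x * w * x⁻¹ ∈ V := fun z hz w hw hp => by
    obtain ⟨Q, h1, h2⟩ := Invol.exists_sylow_of_isPGroup (inv z hz).1 (inv w hw).1 hp
    obtain ⟨x, -, h3⟩ := hA.syl.exists_conj_le Q.isPGroup' le_top
    exact ⟨x, inA z hz x (h3 (mem_map_of_mem _ h1)), inA w hw x (h3 (mem_map_of_mem _ h2))⟩
  have C : ZC Z :=
    { inv := inv
      conj := by
        rintro _ ⟨g, a, ha, h1, rfl⟩ x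
        exact ⟨x * g, a, ha, h1, by group⟩
      two := fun z hz w hw hp => or_iff_not_imp_left.2 fun e => by
        obtain ⟨x, h1, h2⟩ := pair z hz w hw hp
        exact ⟨x⁻¹, _, V.mul_mem h1 h2, by rwa [conj_mul, Ne, conj_eq_one_iff], by group⟩ }
  have hSM : S ≤ M := fun s hs => hM.norm (mem_normalizer_fintype fun a ha =>
    hA.sc s a ha (conj_mem_of_mem_normalizer (le_normalizer hs) (hA.le ha)))
  have key : ∀ z ∈ Z, z ∈ M → ∀ x, x * z * x⁻¹ ∈ M → x ∈ M := fun z hz h1 x h2 => by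
    obtain ⟨m, hm, e1⟩ := (hA.syl.mono hSM le_top).exists_conj_le
      (Invol.isPGroup_zpowers (C.sq hz)) (zpowers_le.2 h1)
    obtain ⟨k, hk, e2⟩ := (hA.syl.mono hSM le_top).exists_conj_le
      (Invol.isPGroup_zpowers (C.sq (C.conj z hz x))) (zpowers_le.2 h2)
    have h3 : m * z * m⁻¹ ∈ S := e1 (mem_map_of_mem _ (mem_zpowers _))
    have h4 : k * (x * z * x⁻¹) * k⁻¹ ∈ S := e2 (mem_map_of_mem _ (mem_zpowers _))
    obtain ⟨y, -, hy, h5⟩ := hA.ctl (k * x * m⁻¹) (mem_top _)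
    have h6 := hM.cent _ (inA z hz m h3) (C.ne_one (C.conj z hz m)) (mem_cent_of_conj_eq
      (g := y⁻¹ * (k * x * m⁻¹)) (by
        rw [show ∀ a, y⁻¹ * (k * x * m⁻¹) * a * (y⁻¹ * (k * x * m⁻¹))⁻¹ =
          y⁻¹ * (k * x * m⁻¹ * a * (k * x * m⁻¹)⁻¹) * y from fun a => by group,
          ← h5 _ h3 (by simpa [mul_assoc] using h4)]
        group))
    rwa [M.mul_mem_cancel_left (M.inv_mem (hM.norm hy)), M.mul_mem_cancel_right (M.inv_mem hm),
      M.mul_mem_cancel_left hk] at h6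
  obtain ⟨⟨a, ha⟩, h1⟩ := ne_bot_iff_exists_ne_one.1 hA.ne
  have h2 : a ∈ Z := ⟨1, a, ha, fun e => h1 (Subtype.ext e), by simp⟩
  have h4 : F4 Z M := by
    by_contra h0
    have h3 := Blk.glauberman_zstar G a (inv a h2).orderOf fun g e => by_contra fun e' => by
      have h4 := C.conj a h2 g
      obtain ⟨x, h5, h6⟩ := pair _ h4 a h2
        (Invol.isPGroup_zpowers (sq_of_comm (C.sq h4) (C.sq h2) e.symm))
      exact h0 ⟨_, C.conj _ h4 x, _, C.conj _ h2 x, hSM (hA.le h5), hSM (hA.le h6),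
        fun e => e' (by simpa using e), by rw [conj_mul, conj_mul, e.eq]⟩
    have h5 : pPrimeCore 2 G = ⊥ := (IsSimpleGroup.eq_bot_or_eq_top_of_normal _
      inferInstance).resolve_right fun e => (inv a h2).not_odd (e.ge (mem_top a))
        (Nat.coprime_two_right.1 (pPrimeCore_coprime 2))
    rcases IsSimpleGroup.eq_bot_or_eq_top_of_normal (center G) inferInstance with e | e
    · exact C.ne_one h2 (e.le (mem_center_iff.2 fun g =>
        mul_inv_eq_iff_eq_mul.1 (mul_inv_eq_one.1 (h5.le (h3 g)))))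
    · exact h.nonab ⟨⟨fun x y => mem_center_iff.1 (e.ge (mem_top y)) x⟩⟩
  have zS : zs Z S = V := le_antisymm ((closure_le _).2 fun z hz => by
    simpa using inA z hz.1 1 (by simpa using hz.2)) fun a ha =>
      (C.mem_zs hA.syl.isPGroup).2 (or_iff_not_imp_left.2 fun e =>
        ⟨⟨1, a, ha, e, by simp⟩, hA.le ha⟩)
  have R : BX G (G ⧸ M) Zs Z :=
    { C with
      trans := fun α β => exists_smul_eq G α β
      nontriv := by
        obtain ⟨g, hg⟩ := not_forall.1 (mt (eq_top_iff' M).2 hM.ne)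
        exact ⟨(1 : G), (g : G), fun e => hg (by simpa using QuotientGroup.eq.1 e)⟩
      uniq := fun z hz α β h1 h2 => by
        obtain ⟨g, rfl⟩ := QuotientGroup.mk_surjective α
        obtain ⟨k, rfl⟩ := QuotientGroup.mk_surjective β
        refine (QuotientGroup.eq.2 (key _ (C.conj' hz g) (smul_mk_eq_iff.1 h1) _ ?_)).symm
        simpa [mul_assoc] using smul_mk_eq_iff.1 h2
      four := ⟨((1 : G) : G ⧸ M), h4.mono (stab_quot_one M).ge⟩
      mh := h.toMH
      sub := by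
        rintro _ ⟨g, a, ha, h1, rfl⟩
        exact h.pc.conj a (h.pc.mem_of_zs hA.syl.isPGroup (h.le ha) h1) g
      faith := faithful_quot (normalCore_eq_bot_of_simple hM.ne)
      cen := fun P hP z hz h1 x hx e => by
        obtain ⟨g, -, h3⟩ := hA.syl.exists_conj_le hP le_top
        have := h.cen _ (h3 (mem_map_of_mem _ hx)) (Invol.conj_mul_self e g) _
          (inA z hz g (h3 (mem_map_of_mem _ h1)))
        simpa using this.symm
      ctl := fun S' hS' => by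
        obtain ⟨g, -, rfl⟩ := hS'.exists_conj_eq hA.syl
        have := hA.ctl.map_conj g
        rwa [map_conj_eq_of_mem_normalizer (le_normalizer (mem_top g)), ← normalizer_map_conj, ← zS,
          ← C.zs_map_conj] at this }
  exact ⟨M, isStronglyEmbedded_of hM.ne (inv a h2) (hSM (hA.le ha)) fun u g hu h5 =>
    key u (R.mem hu) h5 g⟩

end CfsgLib.HI
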