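import Cfsg.Agent.Lib.HI.BLn
import Cfsg.Agent.Lib.GOB.Small

/-!
# Step B2: the context, bad involutions and flags
-/

set_option autoImplicit false
set_option linter.unusedSectionVars false

namespace CfsgLib.HI

open Subgroup MulAction Cfsg CfsgLib.H1 CfsgLib.SE CfsgLib.Suz CfsgLib.GO

universe u

/-- The elements of `Z` commute with the involutions of the `2`-subgroups containing them. -/
def CenI {G : Type*} [Group G] (Z : Set G) : Prop :=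
  ∀ P : Subgroup G, IsPGroup 2 P → ∀ z ∈ Z, z ∈ P → ∀ x ∈ P, x * x = 1 → x * z = z * x

/-- `V` is generated by the elements of `Z` in a Sylow `2`-subgroup. -/
def Mx {G : Type*} [Group G] (Z : Set G) (V : Subgroup G) : Prop :=
  ∃ S, IsSylowIn 2 S ⊤ ∧ zs Z S = V

/-- A flag. -/
structure Fl {G : Type*} [Group G] (Z : Set G) (w : G) (V P : Subgroup G) : Prop where
  inv : IsInv w
  nm : w ∉ Z
  mx : Mx Z V
  cw : V ≤ centralizer {w}
  syl : IsSylowIn 2 P (centralizer {w} ⊓ centralizer (V : Set G))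

/-- The context of step B2. -/
structure BX (G Ω : Type u) [Group G] [MulAction G Ω] (Zs Z : Set G) : Prop
    extends ZS G Ω Z where
  mh : MH G Zs
  sub : Z ⊆ Zs
  faith : ∀ g : G, (∀ ω : Ω, g • ω = ω) → g = 1
  cen : CenI Z
  ctl : ∀ S, IsSylowIn 2 S ⊤ → Ctl ⊤ S (normalizer (zs Z S : Set G))

section
variable {G : Type*} [Group G] [Finite G] {Z : Set G} {V P : Subgroup G} {w : G}

theorem CenI.zs_le (h : CenI Z) (hP : IsPGroup 2 P) {x : G} (hx : x ∈ P) (h1 : x * x = 1) :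
    zs Z P ≤ centralizer {x} :=
  (closure_le _).2 fun z hz => GO.mem_cent.2 (h P hP z hz.1 hz.2 x hx h1).symm

theorem CenI.mem (h : CenI Z) (hP : IsPGroup 2 P) {x : G} (hx : x ∈ P) (h1 : x * x = 1) :
    x ∈ centralizer (zs Z P : Set G) := fun _ ha => GO.mem_cent.1 (h.zs_le hP hx h1 ha)

theorem CenI.exists_t (cen : CenI Z) (h : ZC Z) {u a : G} (hu : u * u = 1) (ha : a ∈ Z) :
    ∃ t ∈ Z, (∀ L : Subgroup G, a ∈ L → u ∈ L → t ∈ L) ∧
      t * u = u * t ∧ u * t * a = a * (u * t) := by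
  obtain ⟨j, hj⟩ := exists_odd_pow (a * u)
  have i1 := Invol.inverts_mul (h.sq ha) hu
  have i2 := Invol.inverts_of_mem_zpowers i1 (pow_mem (mem_zpowers _) (2 * j + 1))
  have i3 := Invol.inverts_of_mem_zpowers i1 (pow_mem (mem_zpowers _) j)
  have c0 := cen _ (isPGroup_sup_of_le_normalizer (Invol.isPGroup_zpowers (h.sq ha)) hj
    (zpowers_le.2 (mem_normalizer_fintype fun x hx => by
      rw [Invol.inverts_of_mem_zpowers i2 hx]; exact inv_mem hx))) a ha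
    (mem_sup_left (mem_zpowers a)) _ (mul_mem (mem_sup_left (mem_zpowers a))
      (mem_sup_right (mem_zpowers _))) (by
        rw [Invol.inv_eq (h.sq ha)] at i2
        rw [← mul_assoc, i2, inv_mul_cancel])
  have c1 := (mul_left_cancel ((mul_assoc _ _ _).symm.trans c0))
  have c2 : (a * u) ^ (2 * j + 1) * (a * u) = a * u * (a * u) ^ (2 * j + 1) :=
    ((Commute.refl _).pow_left _).eq
  rw [← mul_assoc, c1, mul_assoc, mul_assoc a u, mul_left_cancel_iff] at c2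
  refine ⟨u * (a * u) ^ (2 * j + 1), ?_, fun L h1 h2 => L.mul_mem h2 (L.pow_mem (L.mul_mem h1 h2) _),
    by rw [mul_assoc, c2], by rw [← mul_assoc u u, hu, one_mul, c1]⟩
  have := h.conj a ha (u * (a * u) ^ j)
  rw [mul_inv_rev, Invol.inv_eq hu, ← i3, Invol.inv_eq (h.sq ha)] at this
  rw [pow_succ, two_mul, pow_add]
  simpa only [mul_assoc, (h.inv a ha).mul_mul] using this

theorem Mx.two (h : Mx Z V) : IsPGroup 2 V :=
  let ⟨S, h1, h2⟩ := h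
  h2 ▸ h1.isPGroup.to_le (zs_le Z S)

theorem Mx.zs_eq (h : Mx Z V) (hZ : ZC Z) (hP : IsPGroup 2 P) (h1 : V ≤ P) : zs Z P = V := by
  obtain ⟨S, h2, rfl⟩ := h
  exact hZ.zs_eq h2 hP le_top h1

theorem Mx.mem (h : Mx Z V) (hZ : ZC Z) {a : G} (ha : a ∈ V) : a = 1 ∨ a ∈ Z := by
  obtain ⟨S, h2, rfl⟩ := h
  exact ((hZ.mem_zs h2.isPGroup).1 ha).imp id And.left

theorem Mx.memZ (h : Mx Z V) (hZ : ZC Z) {a : G} (ha : a ∈ V) (h1 : a ≠ 1) : a ∈ Z :=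
  (h.mem hZ ha).resolve_left h1

theorem Mx.sq (h : Mx Z V) (hZ : ZC Z) {a : G} (ha : a ∈ V) : a * a = 1 :=
  (h.mem hZ ha).elim (fun e => by rw [e, mul_one]) hZ.sq

theorem Mx.le_cent (h : Mx Z V) (hZ : ZC Z) : V ≤ centralizer (V : Set G) := fun _ ha _ hb =>
  comm_of_sq (h.sq hZ hb) (h.sq hZ ha) (h.sq hZ (mul_mem hb ha))

theorem Mx.card_eq (h : Mx Z V) (hZ : ZC Z) {V' : Subgroup G} (h' : Mx Z V') :
    Nat.card V = Nat.card V' := by
  obtain ⟨S, h1, rfl⟩ := h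
  obtain ⟨S', h2, rfl⟩ := h'
  exact le_antisymm (hZ.card_zs_le h2 h1.isPGroup le_top) (hZ.card_zs_le h1 h2.isPGroup le_top)

/-- An element of `Z` normalizing `V` lies in `V`. -/
theorem Mx.mem_of_norm (h : Mx Z V) (hZ : ZC Z) {z : G} (hz : z ∈ Z)
    (h1 : z ∈ normalizer (V : Set G)) : z ∈ V :=
  haveI : Fact (Nat.Prime 2) := ⟨Nat.prime_two⟩
  (h.zs_eq hZ (isPGroup_sup_of_le_normalizer (Invol.isPGroup_zpowers (hZ.sq hz)) h.two
    (zpowers_le.2 h1)) le_sup_right).le (mem_zs_of hz (mem_sup_left (mem_zpowers z)))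

namespace Fl
variable (F : Fl Z w V P)
include F

theorem two : IsPGroup 2 P := F.syl.isPGroup

theorem cw' : P ≤ centralizer {w} := F.syl.le.trans inf_le_left

theorem cv : P ≤ centralizer (V : Set G) := F.syl.le.trans inf_le_right

theorem comm {x a : G} (hx : x ∈ P) (ha : a ∈ V) : a * x = x * a := F.cv hx a ha

theorem commw {x : G} (hx : x ∈ P) : x * w = w * x := GO.mem_cent.1 (F.cw' hx)

theorem wv {a : G} (ha : a ∈ V) : a * w = w * a := GO.mem_cent.1 (F.cw ha)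

theorem mem : w ∈ P := mem_of_sylow F.syl F.inv ⟨GO.mem_cent.2 rfl, fun _ => F.wv⟩ F.cw'

theorem le (hZ : ZC Z) : V ≤ P := fun a ha => (F.mx.mem hZ ha).elim (fun e => e ▸ one_mem _)
  fun e => mem_of_sylow F.syl (hZ.inv a e) ⟨F.cw ha, F.mx.le_cent hZ ha⟩
    fun _ hx => GO.mem_cent.2 (F.comm hx ha).symm

theorem notMem (hZ : ZC Z) : w ∉ V := fun e => F.nm (F.mx.memZ hZ e F.inv.2)

theorem inf_eq {a : G} (ha : a ∈ V) : centralizer {w * a} ⊓ centralizer (V : Set G) =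
    centralizer {w} ⊓ centralizer (V : Set G) := Subgroup.ext fun x => by
  rw [mem_inf, mem_inf]
  refine and_congr_left fun hx => ?_
  rw [GO.mem_cent, GO.mem_cent, mul_assoc w, hx a ha, ← mul_assoc, ← mul_assoc, mul_left_inj]

theorem mul (hZ : ZC Z) {a : G} (ha : a ∈ V) : Fl Z (w * a) V P :=
  have h := hZ.mul_not_mem F.inv F.nm (F.mx.mem hZ ha) (F.wv ha)
  ⟨h.1, h.2, F.mx, fun b hb => GO.mem_cent.2 (by
    rw [← mul_assoc, F.wv hb, mul_assoc, mul_assoc, F.mx.le_cent hZ ha b hb]),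
    (F.inf_eq ha).symm ▸ F.syl⟩

theorem exists_T (hZ : ZC Z) : ∃ T, IsSylowIn 2 T (centralizer {w}) ∧ zs Z T = V ∧
    T ⊓ centralizer (V : Set G) = P := by
  have : Fact (Nat.Prime 2) := ⟨Nat.prime_two⟩
  obtain ⟨T, h1, hT⟩ := IsSylowIn.exists_ge F.two F.cw'
  exact ⟨T, hT, F.mx.zs_eq hZ hT.isPGroup ((F.le hZ).trans h1), F.syl.eq_of_le
    hT.isPGroup.to_inf_left (le_inf h1 F.cv) (inf_le_inf_right _ hT.le)⟩

end Fl

theorem Mx.exists_fl (h : Mx Z V) (hw : IsInv w) (hw' : w ∉ Z) (h1 : V ≤ centralizer {w})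
    {R : Subgroup G} (hR : IsPGroup 2 R) (h2 : R ≤ centralizer {w} ⊓ centralizer (V : Set G)) :
    ∃ P, R ≤ P ∧ Fl Z w V P :=
  haveI : Fact (Nat.Prime 2) := ⟨Nat.prime_two⟩
  let ⟨P, h3, h4⟩ := IsSylowIn.exists_ge hR h2
  ⟨P, h3, hw, hw', h, h1, h4⟩

theorem CenI.fl (cen : CenI Z) (hZ : ZC Z) (hw : IsInv w) (hw' : w ∉ Z) {T : Subgroup G}
    (hT : IsSylowIn 2 T (centralizer {w})) :
    Fl Z w (zs Z T) (T ⊓ centralizer (zs Z T : Set G)) := by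
  have : Fact (Nat.Prime 2) := ⟨Nat.prime_two⟩
  obtain ⟨S, h1, hS⟩ := IsSylowIn.exists_ge hT.isPGroup le_top
  have h2 := mem_of_sylow hT hw (GO.mem_cent.2 rfl) hT.le
  refine ⟨hw, hw', ⟨S, hS, ?_⟩, (GO.zs_le Z T).trans hT.le, ?_⟩
  · rw [← hT.eq_of_le hS.isPGroup.to_inf_left (le_inf h1 hT.le) inf_le_right,
      hZ.zs_inf hS.isPGroup, inf_eq_left.2 (cen.zs_le hS.isPGroup (h1 h2) hw.1)]
  · have := hT.inf_of_le_normalizer (K := centralizer {w} ⊓ centralizer (zs Z T : Set G))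
      inf_le_left (le_normalizer_inf (hT.le.trans le_normalizer)
        (le_normalizer_centralizer (le_normalizer.trans (hZ.norm_zs T))))
    rwa [← inf_assoc, inf_eq_left.2 hT.le] at this

end

namespace BX

variable {G Ω : Type u} [Group G] [Finite G] [MulAction G Ω] {Zs Z : Set G} (h : BX G Ω Zs Z)
include h

theorem zc : ZC Z := h.toZC

theorem exists_move {u : G} (hu : u ≠ 1) : ∃ γ : Ω, u • γ ≠ γ := by
  by_contra! e
  exact hu (h.faith u e)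

theorem bad_mul {u t : G} (hu : Bad Ω Z u) (ht : t ∈ Z) (hc : t * u = u * t) :
    Bad Ω Z (u * t) := by
  obtain ⟨γ, hγ⟩ := h.exists_move hu.1.2
  obtain ⟨a, ha, h1⟩ := h.exists_fix γ
  obtain ⟨s, hs, -, h2, h3⟩ := h.cen.exists_t h.zc hu.1.1 ha
  obtain ⟨δ, h4⟩ := h.fix hs
  obtain ⟨g, hg, rfl⟩ := h.exists_conj_in (h.cent_not_le hu δ) hs (GO.mem_cent.2 h2) h4 ht
    (GO.mem_cent.2 hc)
  have h5 := h.fix_of_comm hs h4 h2.symm
  have e : u * (g * s * g⁻¹) = g * (u * s) * g⁻¹ := by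
    rw [← mul_assoc, ← mul_assoc, ← GO.mem_cent.1 hg, mul_assoc g]
  rw [e]
  exact h.bad_of ((h.mul_not_mem hu.1 hu.2.1 (Or.inr hs) h2).1.conj g) (α := g • γ) (β := g • δ)
    (fun e => hγ (by rw [smul_left_cancel g e, h5])) (conj_smul_eq (h.fix_of_comm ha h1 h3))
    (conj_smul_eq (by rw [mul_smul, h4, h5]))

theorem bad {u : G} (hu : IsInv u) (hu' : u ∉ Z) : Bad Ω Z u := by
  obtain ⟨γ, hγ⟩ := h.exists_move hu.2
  obtain ⟨a, ha, h1⟩ := h.exists_fix γ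
  obtain ⟨s, hs, -, h2, h3⟩ := h.cen.exists_t h.zc hu.1 ha
  have h4 := h.fix_of_comm ha h1 h3
  have := h.bad_mul (h.bad_of (h.mul_not_mem hu hu' (Or.inr hs) h2).1 hγ
    (smul_smul_of_comm (by rw [mul_assoc, h2]) h4) h4) hs (by rw [← mul_assoc, h2])
  rwa [mul_assoc, h.sq hs, mul_one] at this

theorem four' {V : Subgroup G} (hV : Mx Z V) : 4 ≤ Nat.card V :=
  let ⟨_, h1, h2⟩ := hV
  h2 ▸ h.four_le h1 h.f4_top

theorem lm {u : G} (hu : IsInv u) (hu' : u ∉ Z) : Lm Z (centralizer {u}) (fixedBy Ω u) := by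
  have : Fact (Nat.Prime 2) := ⟨Nat.prime_two⟩
  have h0 := h.cent_not_le (h.bad hu hu')
  obtain ⟨-, -, α, -, -, h1, -⟩ := h.bad hu hu'
  rw [← h.orbit_cent hu.1 h1]
  refine lm_of_kh h.toZS h.mh.kh (fun e => hu.2 (h.faith u fun β => ?_)) (h0 α) ?_
  · obtain ⟨g, rfl⟩ := h.trans α β
    exact smul_smul_of_comm (GO.mem_cent.1 (e.ge (mem_top g))) h1
  obtain ⟨S, h2, hS⟩ := IsSylowIn.exists_ge (Invol.isPGroup_zpowers hu.1)
    (zpowers_le.2 (show u ∈ stabilizer G α from h1))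
  exact (h.f4_of_card hS.isPGroup le_rfl ((h.four_le hS (h.f4 α)).trans_lt' (by norm_num))).mono
    (le_inf (h.cen.zs_le hS.isPGroup (h2 (mem_zpowers u)) hu.1) ((zs_le Z S).trans hS.le))

theorem not_mem_Nw {u z : G} (hu : IsInv u) (hu' : u ∉ Z) (hz : z ∈ Z) : z ∉ Nw Ω u := fun e => by
  obtain ⟨-, -, α, β, h1, h2, h3⟩ := h.bad hu hu'
  exact h1 (h.uniq z hz _ _ (mem_Nf.1 e α h2) (mem_Nf.1 e β h3))

theorem exists_fl {w : G} (hw : IsInv w) (hw' : w ∉ Z) {x : G} (hx : x * x = 1)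
    (h1 : x * w = w * x) : ∃ V P, Fl Z w V P ∧ x ∈ P := by
  have : Fact (Nat.Prime 2) := ⟨Nat.prime_two⟩
  obtain ⟨T, h2, hT⟩ := IsSylowIn.exists_ge (Invol.isPGroup_zpowers hx)
    (zpowers_le.2 (GO.mem_cent.2 h1))
  exact ⟨_, _, h.cen.fl h.zc hw hw' hT, h2 (mem_zpowers x),
    h.cen.mem hT.isPGroup (h2 (mem_zpowers x)) hx⟩

theorem t_uniq {u a t t' : G} (hu : u * u = 1) (ha : a ∈ Z) {γ : Ω} (h1 : a • γ = γ)
    (h2 : u • γ ≠ γ) (ht : t ∈ Z) (ht' : t' ∈ Z) (c1 : t * u = u * t) (c2 : t' * u = u * t')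
    (c3 : u * t * a = a * (u * t)) (c4 : u * t' * a = a * (u * t')) : t = t' := by
  obtain ⟨s, hs, h3, h4, h5⟩ := h.cen.exists_t h.zc hu ha
  have key : ∀ t ∈ Z, t * u = u * t → u * t * a = a * (u * t) → s = t := fun t ht c1 c3 => by
    have e : s * t = u * s * (u * t) := by
      rw [← h4, mul_assoc, ← mul_assoc u, hu, one_mul]
    have h6 : a ∈ centralizer {s * t} := GO.mem_cent.2 (by
      rw [e, mul_assoc (u * s), c3, ← mul_assoc, ← mul_assoc, ← h5, mul_assoc, mul_assoc (u * s)])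
    have h7 : u ∈ centralizer {s * t} :=
      GO.mem_cent.2 (by rw [mul_assoc, c1, ← mul_assoc s, h4, mul_assoc])
    have h8 := GO.mem_cent.1 (h3 _ h6 h7)
    rw [mul_assoc, mul_left_cancel_iff] at h8
    by_contra h9
    have h10 := h.mul_mem hs ht h8 h9
    exact h2 (h.fix_of_comm h10 (h.fix_of_comm ha h1 (GO.mem_cent.1 h6).symm) (GO.mem_cent.1 h7))
  exact (key t ht c1 c3).symm.trans (key t' ht' c2 c4)

/-- Conjugate involutions in a `2`-group commute. -/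
theorem com {P : Subgroup G} (hP : IsPGroup 2 P) {x g : G} (hx : x ∈ P) (h1 : x * x = 1)
    (h2 : g * x * g⁻¹ ∈ P) : g * x * g⁻¹ * x = x * (g * x * g⁻¹) :=
  haveI := h.mh.simple
  comm_of_sq (Invol.conj_mul_self h1 g) h1 ((h.mh.pc.p1' h.mh.nonab hP hx h1 h2).elim
    (fun e => by rw [e, mul_one]) h.mh.pc.sq)

section
variable {w : G} {V P : Subgroup G} (F : Fl Z w V P)
include F

theorem two' {x : G} (hx : x ∈ P) {β γ : Ω} (hne : β ≠ γ) (h1 : w • β = β) (h2 : w • γ = γ)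
    (h3 : x • β = β) (h4 : x • γ = γ) : x ∈ Nw Ω w := by
  obtain ⟨T, hT, rfl, rfl⟩ := F.exists_T h.zc
  exact (h.lm F.inv F.nm).two T hT x hx.1 hx.2 β h1 γ h2 hne h3 h4

theorem lift {x : G} (hx : x ∈ P) (h1 : x * x ∈ Nw Ω w) : ∃ a ∈ V, x * a ∈ Nw Ω w := by
  obtain ⟨T, hT, rfl, rfl⟩ := F.exists_T h.zc
  exact (h.lm F.inv F.nm).lift T hT x hx.1 hx.2 h1

theorem oddc {x : G} (hx : x ∈ centralizer {w}) (ho : Odd (orderOf x))
    (h1 : ∀ a ∈ V, x * a * x⁻¹ * a ∈ Nw Ω w) : x ∈ Nw Ω w := by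
  obtain ⟨T, hT, rfl, rfl⟩ := F.exists_T h.zc
  exact (h.lm F.inv F.nm).oddc T hT x hx ho h1

theorem cyc : ∃ y ∈ centralizer {w} ⊓ normalizer (V : Set G),
    (∀ a ∈ V, ∀ b ∈ V, a ≠ 1 → b ≠ 1 → ∃ i : ℕ, y ^ i * a * (y ^ i)⁻¹ = b) ∧
    ∀ g ∈ centralizer {w} ⊓ normalizer (V : Set G), ∃ i : ℕ, ∀ a ∈ V,
      g * y * g⁻¹ * a * (g * y * g⁻¹)⁻¹ = y ^ i * a * (y ^ i)⁻¹ := by
  obtain ⟨T, hT, rfl, rfl⟩ := F.exists_T h.zc
  exact (h.lm F.inv F.nm).cyc T hT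

theorem typ₀ : ((fixedBy Ω w).ncard = Nat.card V + 1 ∧ ∀ x ∈ P, x * x ∈ Nw Ω w) ∨
    ((fixedBy Ω w).ncard = Nat.card V ^ 2 + 1 ∧ SzL V P (Nw Ω w) ∧
      IsSylowIn 2 P (centralizer {w})) := by
  obtain ⟨T, hT, rfl, rfl⟩ := F.exists_T h.zc
  refine ((h.lm F.inv F.nm).typ T hT).imp (fun e => ⟨e.1, fun x hx => e.2 x hx.1 hx.2⟩) fun e => ?_
  rw [inf_eq_left.2 e.2.cen]
  exact ⟨e.1, e.2, hT⟩

theorem eq_one_of_mem {a : G} (ha : a ∈ V) (h1 : a ∈ Nw Ω w) : a = 1 :=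
  by_contra fun e => h.not_mem_Nw F.inv F.nm (F.mx.memZ h.zc ha e) h1

end

theorem fix_eq {w x : G} (hw : IsInv w) (hw' : w ∉ Z) (hx : IsInv x) (h1 : x ∈ Nw Ω w)
    (hc : w * x = x * w) : x ∉ Z ∧ fixedBy Ω x = fixedBy Ω w := by
  have h2 : x ∉ Z := fun e => h.not_mem_Nw hw hw' e h1
  obtain ⟨V, P, F, h3⟩ := h.exists_fl hx h2 hw.1 hc
  obtain ⟨-, -, α, β, h4, h5, h6⟩ := h.bad hw hw'
  exact ⟨h2, Set.Subset.antisymm
    (mem_Nf.1 (h.two' F h3 h4 (mem_Nf.1 h1 α h5) (mem_Nf.1 h1 β h6) h5 h6)) (mem_Nf.1 h1)⟩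

theorem exists_third {V : Subgroup G} (hV : Mx Z V) (a b : G) :
    ∃ c ∈ V, c ≠ 1 ∧ c ≠ a ∧ c ≠ b := by
  by_contra! e
  have h1 : (V : Set G) ⊆ {1, a, b} := fun c hc => by
    by_cases h2 : c = 1
    · exact Or.inl h2
    by_cases h3 : c = a
    · exact Or.inr (Or.inl h3)
    · exact Or.inr (Or.inr (e c hc h2 h3))
  have h2 := Set.ncard_le_ncard h1
  have h3 := Set.ncard_insert_le 1 ({a, b} : Set G)
  have h4 := Set.ncard_insert_le a ({b} : Set G)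
  rw [Set.ncard_singleton] at h4
  have h5 := h.four' hV
  rw [← SetLike.coe_sort_coe, Nat.card_coe_set_eq] at h5
  omega

section
variable {w : G} {V P : Subgroup G} (F : Fl Z w V P)
include F

theorem exists_conj {a : G} (ha : a ∈ V) :
    ∃ g ∈ normalizer (V : Set G) ⊓ normalizer (P : Set G), g * w * g⁻¹ = w * a := by
  have : Fact (Nat.Prime 2) := ⟨Nat.prime_two⟩
  have key : ∀ v, Fl Z v V P → ∀ b ∈ V, ∀ c ∈ V, b ≠ 1 → c ≠ 1 →
      ∃ g ∈ normalizer (V : Set G), g * (v * b) * g⁻¹ = v * c := fun v F b hb c hc b1 c1 => by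
    obtain ⟨y, hy, h1, -⟩ := h.cyc F
    obtain ⟨i, rfl⟩ := h1 b hb c hc b1 c1
    exact ⟨y ^ i, pow_mem hy.2 i, by rw [← mul_assoc, GO.mem_cent.1 (pow_mem hy.1 i)]; group⟩
  obtain ⟨g, g1, hg⟩ : ∃ g ∈ normalizer (V : Set G), g * w * g⁻¹ = w * a := by
    by_cases a1 : a = 1
    · exact ⟨1, one_mem _, by simp [a1]⟩
    obtain ⟨b, hb, b1, b2, -⟩ := h.exists_third F.mx a a
    have h1 : a * b ≠ 1 := fun e => b2 (by
      rw [eq_inv_of_mul_eq_one_right e, Invol.inv_eq (F.mx.sq h.zc ha)])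
    obtain ⟨g, g1, hg⟩ := key _ (F.mul h.zc ha) a ha b hb a1 b1
    obtain ⟨k, k1, hk⟩ := key w F _ (mul_mem ha hb) a ha h1 a1
    rw [mul_assoc w, F.mx.sq h.zc ha, mul_one, mul_assoc w] at hg
    exact ⟨k * g, mul_mem k1 g1, by rw [← hk, ← hg]; group⟩
  obtain ⟨c, hc, h3⟩ := F.syl.frattini_elem (g := g) (mem_normalizer_of_map_conj_eq (by
    rw [map_conj_inf, centralizer_conj, hg, ← centralizer_map_conj,
      map_conj_eq_of_mem_normalizer g1, F.inf_eq ha]))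
  refine ⟨c * g, ⟨mul_mem (centralizer_le_normalizer _ hc.2) g1, h3⟩, ?_⟩
  rw [show c * g * w * (c * g)⁻¹ = c * (g * w * g⁻¹) * c⁻¹ by group, hg,
    conj_eq_of_mem_cent ((F.inf_eq ha).ge hc).1]

theorem ne_fix {a b : G} (ha : a ∈ V) (hb : b ∈ V) (h1 : w * b ∈ Nw Ω (w * a)) : a = b := by
  have h4 := mul_mem (inv_mem (mem_Nw_self (Ω := Ω) (w * a))) h1
  rw [mul_inv_rev, mul_assoc, inv_mul_cancel_left] at h4
  exact inv_mul_eq_one.1 (h.eq_one_of_mem (F.mul h.zc ha) (mul_mem (inv_mem ha) hb) h4)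

theorem disj {a b : G} (ha : a ∈ V) (hb : b ∈ V) (hne : a ≠ b) {x : G} (hx : x ∈ P)
    (h1 : x ∈ Nw Ω (w * a)) (h2 : x ∈ Nw Ω (w * b)) : x = 1 := by
  by_contra h0
  obtain ⟨j, hj⟩ := exists_invol_of_two (isPGroup_zpowers_of_mem F.two hx) h0
  have A := F.mul h.zc ha
  have B := F.mul h.zc hb
  have h3 := mem_Nw_self (Ω := Ω) (w * b)
  rw [Nw, ← (h.fix_eq B.inv B.nm hj (pow_mem h2 j) (B.commw (pow_mem hx j)).symm).2,
    (h.fix_eq A.inv A.nm hj (pow_mem h1 j) (A.commw (pow_mem hx j)).symm).2] at h3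
  exact hne (h.ne_fix F ha hb h3)

theorem disj' {a : G} (ha : a ∈ V) (hne : a ≠ 1) {x : G} (hx : x ∈ P)
    (h1 : x ∈ Nw Ω w) (h2 : x ∈ Nw Ω (w * a)) : x = 1 :=
  h.disj F (one_mem _) ha hne.symm hx (by rwa [mul_one]) h2

theorem eq_one_of_all {x : G} (hx : x ∈ P) (h1 : ∀ a ∈ V, x ∈ Nw Ω (w * a)) : x = 1 := by
  obtain ⟨a, ha, a1, -⟩ := h.exists_third F.mx 1 1
  exact h.disj F (one_mem _) ha a1.symm hx (h1 1 (one_mem _)) (h1 a ha)

theorem central {x t : G} (hx : x ∈ P) (h1 : x * x = 1) (ht : t ∈ P) : t * x = x * t := by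
  refine mul_inv_eq_iff_eq_mul.1 (mul_inv_eq_one.1 (h.eq_one_of_all F
    (comm_mem_of_norm (le_normalizer ht) hx) fun a ha => ?_))
  obtain ⟨b, hb, h2⟩ := h.lift (F.mul h.zc ha) hx (by rw [h1]; exact one_mem _)
  have := comm_mem_of_norm (cent_le_norm_Nw _ ((F.mul h.zc ha).cw' ht)) h2
  rwa [← mul_assoc, mul_assoc _ b, F.comm (inv_mem ht) hb, mul_inv_rev,
    ← mul_assoc, ← mul_assoc, mul_inv_cancel_right] at this

theorem ncard_mul {a : G} (ha : a ∈ V) : (fixedBy Ω (w * a)).ncard = (fixedBy Ω w).ncard := by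
  obtain ⟨g, -, e⟩ := h.exists_conj F ha
  rw [← e, ← smul_fixedBy, Set.ncard_smul_set]

theorem typ : ((fixedBy Ω w).ncard = Nat.card V + 1 ∧ ∀ x ∈ P, x * x = 1) ∨
    ((fixedBy Ω w).ncard = Nat.card V ^ 2 + 1 ∧ ∀ a ∈ V, SzL V P (Nw Ω (w * a)) ∧
      IsSylowIn 2 P (centralizer {w * a})) := by
  have h1 := h.four' F.mx
  have h2 : Nat.card V + 1 ≠ Nat.card V ^ 2 + 1 := by nlinarith
  refine (h.typ₀ F).imp (fun e => ⟨e.1, fun x hx => h.eq_one_of_all F (mul_mem hx hx) fun a ha =>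
    ((h.typ₀ (F.mul h.zc ha)).resolve_right fun e' => h2 ?_).2 x hx⟩) fun e => ⟨e.1, fun a ha =>
      ((h.typ₀ (F.mul h.zc ha)).resolve_left fun e' => h2 ?_).2⟩
  · rw [← e.1, ← e'.1, h.ncard_mul F ha]
  · rw [← e.1, ← e'.1, h.ncard_mul F ha]

theorem sq_of_mem {x : G} (hx : x ∈ P) (h1 : x ∈ Nw Ω w) : x * x = 1 := by
  by_contra h0
  obtain ⟨-, L⟩ := (h.typ F).resolve_left fun e => h0 (e.2 x hx)
  obtain ⟨b, hb, b1, -⟩ := h.exists_third F.mx 1 1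
  obtain ⟨g, hg, e⟩ := h.exists_conj F hb
  have h2 := conj_mem_Nw (g := g) h1
  have h3 := conj_mem_of_mem_normalizer hg.2 hx
  have h4 : g * x * g⁻¹ * (g * x * g⁻¹) ≠ 1 := by rwa [conj_mul, Ne, conj_eq_one_iff]
  rw [e] at h2
  generalize g * x * g⁻¹ = y at h2 h3 h4
  have h5 : x * y * x⁻¹ * y⁻¹ = 1 := by
    refine h.disj' F hb b1 (comm_mem_of_norm (le_normalizer hx) h3) ?_
      (comm_mem_of_norm (cent_le_norm_Nw _ ((F.mul h.zc hb).cw' hx)) h2)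
    have := inv_mem (comm_mem_of_norm (cent_le_norm_Nw _ (F.cw' h3)) h1)
    rwa [show (y * x * y⁻¹ * x⁻¹)⁻¹ = x * y * x⁻¹ * y⁻¹ by group] at this
  rw [mul_inv_eq_one, mul_inv_eq_iff_eq_mul] at h5
  have key : ∀ a ∈ V, a ≠ 1 → a ≠ b → (x * x)⁻¹ * (y * y) ∈ Nw Ω (w * a) :=
    fun a ha a1 a2 => by
      refine (((L a ha).1.comm x hx y h3
        (by rw [h5, inv_mul_cancel]; exact one_mem _)).resolve_left fun e => h0 ?_).resolve_left
        fun e => h4 ?_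
      · exact h.disj' F ha a1 (P.mul_mem hx hx) (mul_mem h1 h1) e
      · exact h.disj F ha hb a2 (P.mul_mem h3 h3) e (mul_mem h2 h2)
  obtain ⟨a, ha, a1, a2, -⟩ := h.exists_third F.mx b b
  obtain ⟨c, hc, c1, c2, c3⟩ := h.exists_third F.mx b a
  have h6 := inv_mul_eq_one.1 (h.disj F hc ha c3
    (P.mul_mem (P.inv_mem (P.mul_mem hx hx)) (P.mul_mem h3 h3)) (key c hc c1 c2) (key a ha a1 a2))
  exact h0 (h.disj' F hb b1 (P.mul_mem hx hx) (mul_mem h1 h1) (h6 ▸ mul_mem h2 h2))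

end

theorem sq_mem {V : Subgroup G} (hV : Mx Z V) {s : G} (hs : s ∈ centralizer (V : Set G))
    (h1 : s * s * (s * s) = 1) : s * s ∈ V := by
  have : Fact (Nat.Prime 2) := ⟨Nat.prime_two⟩
  by_contra h0
  have h2 : s * s ≠ 1 := fun e => h0 (e ▸ one_mem _)
  have h3 : s * s ∉ Z := fun e =>
    h0 (hV.mem_of_norm h.zc e (centralizer_le_normalizer _ (mul_mem hs hs)))
  have hp : IsPGroup 2 (zpowers s) := IsPGroup.of_card_dvd_pow (n := 2) (by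
    rw [Nat.card_zpowers]
    exact orderOf_dvd_of_pow_eq_one (by rw [← h1, ← pow_two, ← pow_two, ← pow_mul]; rfl))
  obtain ⟨P, h4, F⟩ := hV.exists_fl ⟨h1, h2⟩ h3 (fun a ha => GO.mem_cent.2 (mul_mem hs hs a ha)) hp
    (zpowers_le.2 ⟨GO.mem_cent.2 (mul_assoc _ _ _).symm, hs⟩)
  have h5 := h4 (mem_zpowers s)
  obtain ⟨b, hb, h6⟩ := h.lift F h5 (mem_Nw_self _)
  have := h.sq_of_mem F (P.mul_mem h5 (F.le h.zc hb)) h6
  rw [← mul_assoc, mul_assoc s b, F.comm h5 hb, ← mul_assoc, mul_assoc _ b,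
    hV.sq h.zc hb, mul_one] at this
  exact h2 this

theorem sq_P {w : G} {V P : Subgroup G} (F : Fl Z w V P) {s : G} (hs : s ∈ P) : s * s ∈ V := by
  rcases h.typ F with e | e
  · rw [e.2 s hs]
    exact one_mem _
  · exact h.sq_mem F.mx (F.cv hs) (h.eq_one_of_all F (mul_mem (mul_mem hs hs) (mul_mem hs hs))
      fun a ha => (e.2 a ha).1.sq s hs)

theorem exists_line {u : G} (hu : IsInv u) (hu' : u ∉ Z) (γ : Ω) :
    ∃ t ∈ Z, ∃ V P, Fl Z u V P ∧ t ∈ V ∧ (u * t) • γ = γ := by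
  obtain ⟨a, ha, h1⟩ := h.exists_fix γ
  obtain ⟨t, ht, -, h2, h3⟩ := h.cen.exists_t h.zc hu.1 ha
  obtain ⟨V, P, F, h4⟩ := h.exists_fl hu hu' (h.sq ht) h2
  exact ⟨t, ht, V, P, F, F.mx.mem_of_norm h.zc ht (centralizer_le_normalizer _ (F.cv h4)),
    h.fix_of_comm ha h1 h3⟩

end BX

end CfsgLib.HI
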