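import Cfsg.Agent.Lib.HI.End
import Cfsg.Agent.Lib.GOB.NA
import Cfsg.Agent.Lib.Gol.NS

/-!
# The class of central quotients of groups without real elements of order `4`
-/

set_option autoImplicit false

namespace CfsgLib.HI

open Subgroup Cfsg CfsgLib.FT CfsgLib.FT.BGN CfsgLib.Cop CfsgLib.GW CfsgLib.Wal CfsgLib.GO
open CfsgLib.SE (IsInv)
open CfsgLib.H1 (AbTwo)
open CfsgLib.FT.U4 (mem_cent1 mem_cent1' mem_cent mem_cent1_comm eq_one_of_mem_inf)

universe u

/-- The elements of odd order centralizing `y`. -/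
def oc {G : Type*} [Group G] (y : G) : Set G := {w | Odd (orderOf w) ∧ w * y = y * w}

/-- The internal form of: `G` is a central quotient of a group without real elements of order
`4`, and `Zs` is the set of nontrivial images of involutions. -/
structure PC {G : Type*} [Group G] (Zs : Set G) : Prop extends ZC Zs where
  p1 : ∀ P : Subgroup G, IsPGroup 2 P → ∀ x ∈ P, ∀ g ∈ closure (oc (x * x)),
    g * x * g⁻¹ ∈ P → g * x * g⁻¹ * x⁻¹ = 1 ∨ g * x * g⁻¹ * x⁻¹ ∈ Zs

section Basic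

variable {G H : Type*} [Group G] [Group H] {Zs : Set G}

theorem closure_oc_le (y : G) : closure (oc y) ≤ 𝐂[y] :=
  (closure_le _).2 fun _ h => mem_cent1.2 h.2

theorem NR.pc [Finite G] (h : NR G) : PC {z : G | IsInv z} where
  inv := fun _ h => h
  conj := fun _ hz g => hz.conj g
  two := fun z hz w hw hp => or_iff_not_imp_left.2 fun e => ⟨h.two' hp (mem_zpowers _) (g := z) (by
    rw [mul_inv_rev, hz.inv_eq, hw.inv_eq, ← mul_assoc, hz.1, one_mul]), e⟩
  p1 := fun P hP x hx g hg h1 => or_iff_not_imp_left.2 fun e => ⟨h.sq_mul_inv hP h1 hx (by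
    rw [_root_.conj_mul, mem_cent1.1 (closure_oc_le _ hg), mul_inv_cancel_right]), e⟩

theorem PC.comap (h : PC Zs) (f : H →* G) (hf : Function.Injective f) : PC (f ⁻¹' Zs) where
  inv := fun z hz => ⟨hf (by rw [map_mul, map_one]; exact (h.inv _ hz).1),
    fun e => (h.inv _ hz).2 (by rw [e, map_one])⟩
  conj := fun z hz g => by simpa using h.conj _ hz (f g)
  two := fun z hz w hw hp => (h.two _ hz _ hw (by
    rw [← map_mul, ← MonoidHom.map_zpowers]; exact hp.map f)).imp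
      (fun e => hf (by rw [map_mul, e, map_one])) fun e => by simpa using e
  p1 := fun P hP x hx g hg h1 => by
    have h2 : f g ∈ closure (oc (f x * f x)) := by
      refine (?_ : (closure (oc (x * x))).map f ≤ _) (mem_map_of_mem f hg)
      rw [MonoidHom.map_closure]
      refine closure_mono ?_
      rintro _ ⟨w, hw, rfl⟩
      exact ⟨by rw [orderOf_injective f hf]; exact hw.1, by
        rw [← map_mul, ← map_mul, hw.2, map_mul]⟩
    exact (h.p1 _ (hP.map f) _ (mem_map_of_mem f hx) _ h2 (by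
      simpa using mem_map_of_mem f h1)).imp (fun e => hf (by simpa using e)) fun e => by
        simpa using e

theorem PC.subgroup (h : PC Zs) (K : Subgroup G) : PC (K.subtype ⁻¹' Zs) :=
  h.comap _ K.subtype_injective

theorem zc_map [Finite G] (h : ZC Zs) (f : G →* H) (hf : Function.Surjective f) :
    ZC (f '' Zs \ {1}) where
  inv := by
    rintro _ ⟨⟨z, hz, rfl⟩, h1⟩
    exact ⟨by rw [← map_mul, h.sq hz, map_one], h1⟩
  conj := by
    rintro _ ⟨⟨z, hz, rfl⟩, h1⟩ g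
    obtain ⟨g, rfl⟩ := hf g
    exact ⟨⟨g * z * g⁻¹, h.conj z hz g, by simp⟩, by simpa using h1⟩
  two := by
    rintro _ ⟨⟨z, hz, rfl⟩, -⟩ _ ⟨⟨w, hw, rfl⟩, -⟩ hp
    obtain ⟨j, hj⟩ := SE.exists_odd_pow (z * w)
    have h2 := h.two z hz _ (h.mul_pow_mem hz hw (2 * j + 1)) (by rwa [(h.inv z hz).mul_mul])
    rw [(h.inv z hz).mul_mul] at h2
    have h3 : (z * w) ^ (2 * j + 1) * (z * w) ^ (2 * j + 1) = 1 :=
      h2.elim (fun e => by simp [e]) h.sq
    have h4 : f z * f w * (f z * f w) = 1 := by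
      refine eq_one_of_odd_pow (isPGroup_zpowers_of_mem hp
        (Subgroup.mul_mem _ (mem_zpowers _) (mem_zpowers _))) (odd_two_mul_add_one j) ?_
      rw [(Commute.refl _).mul_pow, ← map_mul, ← map_pow, ← map_mul, h3, map_one]
    have h5 : f z * f w = f ((z * w) ^ (2 * j + 1)) := by
      rw [map_pow, map_mul, pow_succ, pow_mul, pow_two, h4, one_pow, one_mul]
    refine or_iff_not_imp_left.2 fun e => ⟨?_, e⟩
    rw [h5] at e ⊢
    exact ⟨_, h2.resolve_left fun e' => e (by rw [e', map_one]), rfl⟩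

theorem or_map (f : G →* H) {y : G} (h : y = 1 ∨ y ∈ Zs) : f y = 1 ∨ f y ∈ f '' Zs \ {1} :=
  or_iff_not_imp_left.2 fun e => ⟨⟨y, h.resolve_left fun e' => e (by rw [e', map_one]), rfl⟩, e⟩

theorem exists_lift_oc (f : G →* H) {y : G} {g : H} (hg : g ∈ closure (oc (f y)))
    (h : ∀ w ∈ oc (f y), ∃ v ∈ oc y, f v = w) : ∃ v ∈ closure (oc y), f v = g := by
  refine (closure_mono (k := f '' oc y) h).trans (MonoidHom.map_closure f _).ge hg

variable [Finite G]

/-- Quotients by normal subgroups of odd order. -/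
theorem PC.map_odd (h : PC Zs) (f : G →* H) (hf : Function.Surjective f)
    (hk : Odd (Nat.card f.ker)) : PC (f '' Zs \ {1}) := by
  have := Fact.mk Nat.prime_two
  refine ⟨zc_map h.toZC f hf, fun P hP x hx g hg h1 => ?_⟩
  obtain ⟨T, hT⟩ := IsSylowIn.exists_in (p := 2) (P.comap f)
  have hm : T.map f = P := by
    have := hT.map f
    rw [map_comap_eq_self_of_surjective hf] at this
    exact (this.eq_of_le hP this.le le_rfl).symm
  have inj : ∀ y ∈ T, f y = 1 → y = 1 := fun y hy e =>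
    eq_one_of_odd_pow (isPGroup_zpowers_of_mem hT.isPGroup hy) (odd_orderOf_of_mem hk e)
      (pow_orderOf_eq_one y)
  obtain ⟨x, hxT, rfl⟩ := hm.ge hx
  rw [← map_mul] at hg
  obtain ⟨g, hg', rfl⟩ := exists_lift_oc f hg fun w hw => by
    obtain ⟨v, h2, rfl⟩ := H5.centralizer_map_le_of_coprime f hf (Nat.coprime_two_right.2 hk)
      (isPGroup_zpowers_of_mem hT.isPGroup (mul_mem hxT hxT)) (x := w) (by
        rw [MonoidHom.map_zpowers]; exact (U4.cent_zpowers _).ge (mem_cent1.2 hw.2))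
    exact ⟨v, ⟨odd_of_map hk hw.1, mem_cent1.1 ((U4.cent_zpowers _).le h2)⟩, rfl⟩
  obtain ⟨k, hk1, h2⟩ := hT.exists_conj_le (Q := zpowers (g * x * g⁻¹)) (by
    exact isPGroup_zpowers_of_mem (hT.isPGroup.map (MulAut.conj g).toMonoidHom)
      (conj_mem_map_conj hxT))
    (zpowers_le.2 (by simpa using h1))
  obtain ⟨t, ht, e⟩ := hm.ge hk1
  have h3 : t⁻¹ * k * g * x * (t⁻¹ * k * g)⁻¹ ∈ T := by
    have := mul_mem (mul_mem (inv_mem ht) (h2 (conj_mem_map_conj (mem_zpowers _)))) ht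
    convert this using 1; group
  have h4 : f (t⁻¹ * k) = 1 := by rw [map_mul, map_inv, e, inv_mul_cancel]
  have h5 := mem_cent1.1 (closure_oc_le _ hg')
  have h6 : t⁻¹ * k * (x * x) * (t⁻¹ * k)⁻¹ = x * x := mul_inv_eq_one.1 (inj _ (mul_mem (by
    convert mul_mem h3 h3 using 1
    rw [_root_.conj_mul, mul_assoc _ g, h5]; group) (inv_mem (mul_mem hxT hxT))) (by
      rw [map_mul, map_mul, map_mul, map_inv (f := f) (t⁻¹ * k), h4]; simp))
  have h7 := or_map f (h.p1 T hT.isPGroup x hxT _ (mul_mem (subset_closure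
    ⟨odd_orderOf_of_mem hk h4, mul_inv_eq_iff_eq_mul.1 h6⟩) hg') h3)
  rwa [map_mul, map_mul, map_mul, map_inv (f := f) (_ * g), map_mul _ _ g, h4, one_mul,
    map_inv] at h7

theorem exists_lift_odd' (f : G →* H) (hf : Function.Surjective f) {w : H} (hw : Odd (orderOf w)) :
    ∃ v, Odd (orderOf v) ∧ f v = w := by
  obtain ⟨l, rfl⟩ := hf w
  obtain ⟨n, hn⟩ := PRes.exists_pow_pow_coprime Nat.prime_two l
  have := Finite.of_surjective f hf
  obtain ⟨i, hi⟩ : f l ∈ zpowers (f l ^ 2 ^ n) := mem_zpowers_pow_iff.2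
    ((Nat.coprime_two_left.2 hw).pow_left n)
  exact ⟨(l ^ 2 ^ n) ^ i, (Nat.coprime_two_right.1 hn).of_dvd_nat
    (orderOf_dvd_of_mem_zpowers (zpow_mem (mem_zpowers _) i)), by rw [map_zpow, map_pow]; exact hi⟩

/-- Quotients by central `2`-subgroups. -/
theorem PC.map_central (h : PC Zs) (f : G →* H) (hf : Function.Surjective f)
    (hk : IsPGroup 2 f.ker) (hc : f.ker ≤ center G) : PC (f '' Zs \ {1}) := by
  have := Fact.mk Nat.prime_two
  refine ⟨zc_map h.toZC f hf, fun P hP x hx g hg h1 => ?_⟩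
  obtain ⟨x, rfl⟩ := hf x
  rw [← map_mul] at hg
  obtain ⟨g, hg', rfl⟩ := exists_lift_oc f hg fun w hw => by
    obtain ⟨v, h2, rfl⟩ := exists_lift_odd' f hf hw.1
    refine ⟨v, ⟨h2, ?_⟩, rfl⟩
    set z := v * (x * x) * v⁻¹ * (x * x)⁻¹ with hz
    have h3 : z ∈ f.ker := by
      rw [MonoidHom.mem_ker, hz, map_mul, map_mul, map_mul, hw.2]; simp
    have h4 : ∀ n : ℕ, v ^ n * (x * x) * (v ^ n)⁻¹ = z ^ n * (x * x) := fun n => by
      induction n with
      | zero => simp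
      | succ n ih =>
        calc _ = v * (v ^ n * (x * x) * (v ^ n)⁻¹) * v⁻¹ := by rw [pow_succ']; group
          _ = (v * z ^ n) * (x * x) * v⁻¹ := by rw [ih]; group
          _ = _ := by rw [mem_center_iff.1 (pow_mem (hc h3) n) v, pow_succ, hz]; group
    have h5 := h4 (orderOf v)
    rw [pow_orderOf_eq_one, one_mul, inv_one, mul_one, eq_comm, mul_eq_right] at h5
    have h6 := eq_one_of_odd_pow (isPGroup_zpowers_of_mem hk h3) h2 h5
    rwa [hz, mul_inv_eq_one, mul_inv_eq_iff_eq_mul] at h6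
  simpa using or_map f (h.p1 _ (hP.comap_of_ker_isPGroup f hk) x hx g hg' (by simpa using h1))

/-- Trick (a). -/
theorem PC.cent_of_odd (h : PC Zs) {E : Subgroup G} (hE : IsPGroup 2 E) {w : G}
    (hw : Odd (orderOf w)) (hn : w ∈ 𝐍(E)) (hc : ∀ u ∈ E, u ∈ Zs → u * w = w * u) :
    w ∈ 𝐂(E) := mem_cent.2 fun x hx => by
  obtain ⟨k, hk⟩ := hE ⟨x, hx⟩
  replace hk : x ^ 2 ^ k = 1 := congrArg Subtype.val hk
  induction k generalizing x with
  | zero => rw [pow_zero, pow_one] at hk; rw [hk, mul_one, one_mul]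
  | succ k ih =>
    have h1 := ih _ (mul_mem hx hx) (by rw [← pow_two, ← pow_mul, ← pow_succ', hk])
    have h2 := conj_mem_of_mem_normalizer hn hx
    rcases h.p1 E hE x hx w (subset_closure ⟨hw, h1.symm⟩) h2 with h3 | h3
    · exact (mul_inv_eq_iff_eq_mul.1 (mul_inv_eq_one.1 h3)).symm
    have h4 := hc _ (mul_mem h2 (inv_mem hx)) h3
    have h5 : w ^ 2 ∈ centralizer ({x} : Set G) := by
      rw [mem_centralizer_singleton_iff]
      calc w ^ 2 * x = w * (w * x * w⁻¹ * x⁻¹) * x * w := by rw [pow_two]; group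
        _ = (w * x * w⁻¹ * x⁻¹) * (w * x * w⁻¹ * x⁻¹) * x * w * w := by rw [← h4]; group
        _ = x * w ^ 2 := by rw [h.sq h3, pow_two]; group
    exact (mem_centralizer_singleton_iff.1
      (H5.mem_of_sq_mem_of_odd (Nat.coprime_two_right.2 hw) h5)).symm

/-- A subgroup centralizing its elements of `Zs` is `2`-nilpotent. -/
theorem PC.hnpc (h : PC Zs) {X : Subgroup G} (hc : ∀ z ∈ X, z ∈ Zs → z ∈ 𝐂(X)) :
    HasNormalPComplement 2 X := by
  have := Fact.mk Nat.prime_two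
  refine FrobNPC.hnpc_of_primePow_centralizes fun E hE _ g hg q k hq h2 ho =>
    (h.subgroup X).cent_of_odd hE (ho ▸ (hq.odd_of_ne_two h2).pow) hg fun u _ hu =>
      Subtype.ext (mem_cent.1 (hc u u.2 hu) g g.2).symm

/-- In a perfect group `p1` holds for all involutions. -/
theorem closure_oc_one [IsSimpleGroup G] (hna : ¬ IsMulCommutative G) :
    closure (oc (1 : G)) = ⊤ := by
  have := Fact.mk Nat.prime_two
  have hn : (closure (oc (1 : G))).Normal := ⟨fun x hx g => by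
    refine (?_ : (closure (oc (1 : G))).map (MulAut.conj g).toMonoidHom ≤ _) (conj_mem_map_conj hx)
    rw [MonoidHom.map_closure]
    refine closure_mono ?_
    rintro _ ⟨w, hw, rfl⟩
    exact ⟨by rw [orderOf_injective _ (MulAut.conj g).injective]; exact hw.1, by simp⟩⟩
  refine hn.eq_bot_or_eq_top.resolve_left fun e => not_hnpc_of_simple hna
    (FrobNPC.hnpc_of_primePow_centralizes fun E _ _ g _ q k hq h2 ho => ?_)
  rw [show g = 1 from mem_bot.1 (e.le (subset_closure ⟨ho ▸ (hq.odd_of_ne_two h2).pow, by simp⟩))]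
  exact one_mem _

theorem PC.p1' [IsSimpleGroup G] (h : PC Zs) (hna : ¬ IsMulCommutative G) {P : Subgroup G}
    (hP : IsPGroup 2 P) {x g : G} (hx : x ∈ P) (xx : x * x = 1) (hg : g * x * g⁻¹ ∈ P) :
    g * x * g⁻¹ * x = 1 ∨ g * x * g⁻¹ * x ∈ Zs := by
  have := h.p1 P hP x hx g (by rw [xx, closure_oc_one hna]; trivial) hg
  rwa [inv_eq_of_mul_eq_one_right xx] at this

theorem PC.nonempty [IsSimpleGroup G] (h : PC Zs) (hna : ¬ IsMulCommutative G) : Zs.Nonempty := by
  by_contra e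
  exact not_hnpc_of_simple hna (FrobNPC.hnpc_of_primePow_centralizes
    fun E hE _ g hg q k hq h2 ho => h.cent_of_odd hE (ho ▸ (hq.odd_of_ne_two h2).pow) hg
      fun u _ hu => absurd ⟨u, hu⟩ e)

theorem PC.bar (h : PC Zs) (X : Subgroup G) : PC (pr X '' (X.subtype ⁻¹' Zs) \ {1}) :=
  (h.subgroup X).map_odd _ (QuotientGroup.mk'_surjective _)
    (by rw [QuotientGroup.ker_mk']; exact odd_ker)

theorem PC.zq (h : PC Zs) {L : Subgroup G} (hL : IsPGroup 2 ↥(L ⊓ 𝐂(L))) :
    PC (QuotientGroup.mk' ((𝐂(L)).subgroupOf L) '' (L.subtype ⁻¹' Zs) \ {1}) :=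
  (h.subgroup L).map_central _ (QuotientGroup.mk'_surjective _)
    (by rw [QuotientGroup.ker_mk', ← inf_subgroupOf_left]; exact hL.comap_subtype)
    (by rw [QuotientGroup.ker_mk', cent_subgroupOf])

theorem PC.ro [IsSimpleGroup G] (h : PC Zs) {H Q : Subgroup G} {t : G} (R : Suz.RO H Q t) (h2 : Suz.Rank2 Q) :
    Suz.ZT H Q t := by
  obtain ⟨s, r, hs⟩ := R.exists_dist
  obtain ⟨hp, h1 | ⟨hna, hc, hr⟩ | ⟨-, -, -, w, hw, h3, x, hx, h4⟩⟩ := R.suzuki h2 hs
  · exact { R with inv := (R.simple_of_sq h2 h1).1, ne := R.D_ne_bot h2 }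
  · exact { R with inv := R.inv_of_closed h2 (R.typeA_K h2 hp hna hc hs hr), ne := R.D_ne_bot h2 }
  · refine absurd (mem_cent.1 (h.cent_of_odd hp (R.odd.of_dvd_nat (orderOf_dvd_natCard _ hw))
      (mem_normalizer_of_conj_mem fun y hy => ?_) fun u hu hz => h3 u hu (h.sq hz)) x hx) h4
    simpa using R.norm w⁻¹ (inv_mem (Suz.Dg_le hw)) y hy

theorem abTwo_of_el {S : Subgroup G} (hS : IsSylowIn 2 S ⊤) (h : S ≤ 𝐂(S)) : AbTwo G :=
  fun Q hQ => by
    have := Fact.mk Nat.prime_two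
    obtain ⟨g, -, hg⟩ := hS.exists_conj_le hQ le_top
    exact H5.isMulCommutative_iff'.2 fun x hx y hy => (MulAut.conj g).injective (by
      rw [map_mul, map_mul]
      exact mem_cent.1 (h (hg (conj_mem_map_conj hy))) _ (hg (conj_mem_map_conj hx)))

theorem or_of_zt {H Q : Subgroup G} {t : G} (Z : Suz.ZT H Q t) : AbTwo G ∨ SzT G := by
  refine or_iff_not_imp_right.2 fun e => abTwo_of_el (S := Q) ⟨le_top, Z.isPGroup, by
    rw [relIndex_top_right]; exact Z.toRO.odd_index_Q.not_two_dvd_nat⟩ (El.le_cent ?_)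
  by_contra e'
  exact e ⟨H, Q, t, Z, e'⟩

theorem SzT.of_equiv (h : SzT G) (e : G ≃* H) : SzT H := by
  obtain ⟨H₀, Q, t, Z, hn⟩ := h
  have hk : e.toMonoidHom.ker ≤ H₀ := by
    rw [(MonoidHom.ker_eq_bot_iff _).2 e.injective]; exact bot_le
  refine ⟨H₀.map _, _, _, ⟨Z.toRO.map _ hk e.surjective, ?_, ?_⟩, fun h => hn fun x hx => ?_⟩
  · rw [Suz.RO.Dg_map _ hk]
    rintro _ ⟨d, hd, rfl⟩
    rw [← map_mul, ← map_mul, Z.inv d hd, map_inv]
  · rw [Suz.RO.Dg_map _ hk, Ne, map_eq_bot_iff_of_injective _ e.injective]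
    exact Z.ne
  · exact e.injective (by simpa using h _ ⟨x, hx, rfl⟩)

omit [Finite G] in
theorem zq_congr {L : Subgroup G} {L' : Subgroup H} (e : L ≃* L') : Nonempty (Zq L ≃* Zq L') :=
  ⟨QuotientGroup.congr _ _ e (by
    rw [cent_subgroupOf, cent_subgroupOf]
    ext x
    obtain ⟨x, rfl⟩ := e.surjective x
    rw [← MonoidHom.coe_coe, mem_map_iff_mem e.injective, mem_center_iff, mem_center_iff]
    exact ⟨fun h y => by
      obtain ⟨y, rfl⟩ := e.surjective y
      rw [MonoidHom.coe_coe, ← map_mul, h, map_mul], fun h y => e.injective (by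
        rw [map_mul, map_mul]; exact h _)⟩)⟩

end Basic

variable {G : Type u} [Group G]

/-- The components of `X / O(X)` are known for all proper subgroups `X`. -/
def KH (G : Type u) [Group G] : Prop := ∀ X : Subgroup G, X ≠ ⊤ → ∀ J : Subgroup (Bar X),
  TC ⊤ J → AbTwo (Zq J) ∨ SzT (Zq J)

/-- A minimal counterexample. -/
structure MH (G : Type u) [Group G] (Zs : Set G) : Prop where
  simple : IsSimpleGroup G
  nonab : ¬ IsMulCommutative G
  pc : PC Zs
  kh : KH G

variable [Finite G] {Zs : Set G}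

theorem KH.tc (h : KH G) {X L : Subgroup G} (hX : X ≠ ⊤) (hO : Od X = ⊥) (hL : TC X L) :
    AbTwo (Zq L) ∨ SzT (Zq L) := by
  obtain ⟨f⟩ := nonempty_equiv_im hO hL.le
  obtain ⟨e⟩ := zq_congr f
  exact (h X hX _ hL.bar).imp (fun h => h.of_injective e.toMonoidHom e.injective)
    fun h => SzT.of_equiv h e.symm

theorem PC.zt_of_se [IsSimpleGroup G] (h : PC Zs) (hna : ¬ IsMulCommutative G) {M : Subgroup G}
    (hM : IsStronglyEmbedded M) : ∃ Q t, Suz.ZT M Q t := by
  obtain ⟨u, hu, -⟩ := (SE.sea_of_isStronglyEmbedded hM).exists_inv ((1 : G) : G ⧸ M)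
  obtain ⟨Q, t, R, h2⟩ := SEB.bender hM (SE.normalCore_eq_bot_of_simple hM.1)
    (SEG.rk2_of_simple hna hu)
  exact ⟨Q, t, h.ro R h2⟩

/-- The induction. -/
theorem pc_induction (main : ∀ (G : Type u) [Group G] [Finite G] (Zs : Set G), MH G Zs →
    AbTwo G ∨ ∃ M : Subgroup G, IsStronglyEmbedded M) (G : Type u) [Group G] [Finite G] :
    ∀ Zs : Set G, IsSimpleGroup G → ¬ IsMulCommutative G → PC Zs → AbTwo G ∨ SzT G := by
  refine card_induction (P := fun G _ _ => ∀ Zs : Set G, IsSimpleGroup G →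
    ¬ IsMulCommutative G → PC Zs → AbTwo G ∨ SzT G) ?_ G
  intro G _ _ ih Zs hs hna h
  refine (main G Zs ⟨hs, hna, h, fun X hX J hJ => ih _ ?_ _ (zq_simple hJ.2) hJ.zq_nonab
    ((h.bar X).zq (hJ.two_center (Od_bar X)))⟩).elim Or.inl fun ⟨M, hM⟩ =>
      let ⟨_, _, Z⟩ := h.zt_of_se hna hM; or_of_zt Z
  exact lt_of_le_of_lt (Nat.le_of_dvd Nat.card_pos ((card_quotient_dvd_card _).trans
    ((card_subgroup_dvd_card J).trans (card_quotient_dvd_card _)))) (card_lt_of_ne_top hX)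

theorem NR.fin_of (main : ∀ (G : Type u) [Group G] [Finite G] (Zs : Set G), MH G Zs →
    AbTwo G ∨ ∃ M : Subgroup G, IsStronglyEmbedded M) [hs : IsSimpleGroup G] (h : NR G)
    (hna : ¬ IsMulCommutative G) : Fin4030 G :=
  (pc_induction main G _ hs hna h.pc).elim (fin_of_abTwo hna)
    fun ⟨_, _, _, Z, _⟩ => fin_of_zt hna Z

end CfsgLib.HI
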