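import Cfsg.Agent.Lib.HI.BPl
import Cfsg.Agent.Lib.HI.Cls

/-!
# Step B2: lines
-/

set_option autoImplicit false
set_option linter.unusedSectionVars false

namespace CfsgLib.HI

open Subgroup MulAction Cfsg CfsgLib.H1 CfsgLib.SE CfsgLib.Suz CfsgLib.GO

universe u

variable {G Ω : Type*} [Group G] [MulAction G Ω]

/-- `T / (T ⊓ N)` is a Suzuki `2`-group with involutions `V`. -/
structure SzL (V T N : Subgroup G) : Prop where
  eight : 8 ≤ Nat.card V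
  cen : T ≤ centralizer (V : Set G)
  cT : Nat.card T = Nat.card V ^ 2 * Nat.card ↥(T ⊓ N)
  sq : ∀ x ∈ T, x * x * (x * x) ∈ N
  inj : ∀ x ∈ T, ∀ y ∈ T, (x * x)⁻¹ * (y * y) ∈ N → x⁻¹ * y * (x⁻¹ * y) ∈ N
  comm : ∀ x ∈ T, ∀ y ∈ T, (x * y)⁻¹ * (y * x) ∈ N →
    x * x ∈ N ∨ y * y ∈ N ∨ (x * x)⁻¹ * (y * y) ∈ N
  surj : ∀ a ∈ V, ∃ x ∈ T, x * x * a ∈ N

/-- What is used of the action of `X` on its orbit `Φ`. -/
structure Lm (Z : Set G) (X : Subgroup G) (Φ : Set Ω) : Prop where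
  mem : ∀ x ∈ X, ∀ β ∈ Φ, x • β ∈ Φ
  fix2 : ∀ P ≤ X, IsPGroup 2 P → ∃ β ∈ Φ, P ≤ stabilizer G β
  two : ∀ T, IsSylowIn 2 T X → ∀ x ∈ T, x ∈ centralizer (zs Z T : Set G) → ∀ β ∈ Φ, ∀ γ ∈ Φ,
    β ≠ γ → x • β = β → x • γ = γ → x ∈ Nf G Φ
  lift : ∀ T, IsSylowIn 2 T X → ∀ x ∈ T, x ∈ centralizer (zs Z T : Set G) → x * x ∈ Nf G Φ →
    ∃ a ∈ zs Z T, x * a ∈ Nf G Φ
  zz : ∀ z ∈ Z, ∀ w ∈ Z, z ∈ X → w ∈ X → ∀ β ∈ Φ, z • β = β → w • β = β →
    z * w * (z * w) ∈ Nf G Φ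
  oddc : ∀ T, IsSylowIn 2 T X → ∀ x ∈ X, Odd (orderOf x) →
    (∀ a ∈ zs Z T, x * a * x⁻¹ * a ∈ Nf G Φ) → x ∈ Nf G Φ
  cyc : ∀ T, IsSylowIn 2 T X → ∃ y ∈ X ⊓ normalizer (zs Z T : Set G),
    (∀ a ∈ zs Z T, ∀ b ∈ zs Z T, a ≠ 1 → b ≠ 1 → ∃ i : ℕ, y ^ i * a * (y ^ i)⁻¹ = b) ∧
    ∀ g ∈ X ⊓ normalizer (zs Z T : Set G), ∃ i : ℕ, ∀ a ∈ zs Z T,
      g * y * g⁻¹ * a * (g * y * g⁻¹)⁻¹ = y ^ i * a * (y ^ i)⁻¹
  typ : ∀ T, IsSylowIn 2 T X → (Φ.ncard = Nat.card (zs Z T) + 1 ∧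
      ∀ x ∈ T, x ∈ centralizer (zs Z T : Set G) → x * x ∈ Nf G Φ) ∨
    (Φ.ncard = Nat.card (zs Z T) ^ 2 + 1 ∧ SzL (zs Z T) T (Nf G Φ))

section
variable {H Δ : Type*} [Group H] [MulAction H Δ] {δ : Δ} {J Q : Subgroup H}

theorem PL.mem_Q0 (h : PL δ J Q) {x : H} : x ∈ Q0g Q ↔ x ∈ Q ∧ x * x = 1 := by
  refine ⟨fun hx => ⟨Q0g_le hx, ?_⟩, fun e => mem_Q0g_of e.1 e.2⟩
  induction hx using closure_induction with
  | mem x hx => exact hx.2
  | one => simp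
  | mul x y hx hy a b => exact sq_of_comm a b (h.cen x (Q0g_le hx) a y (Q0g_le hy))
  | inv x _ a => rw [← mul_inv_rev, a, inv_one]

theorem PL.conj (h : PL δ J Q) [hJ : J.Normal] {g x : H} (hg : g • δ = δ) (hx : x ∈ Q) :
    g * x * g⁻¹ ∈ Q := by
  obtain ⟨y1, y2, y3⟩ := (h.mem x).1 hx
  refine (h.mem _).2 ⟨hJ.conj_mem x y1 g, ?_, ?_⟩
  · simpa [hg] using conj_smul_eq (g := g) y2
  · have := y3.map (MulAut.conj g).toMonoidHom
    rwa [MonoidHom.map_zpowers] at this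

end

theorem lm_of_pl [Finite G] {Z : Set G} (h : ZS G Ω Z) {X : Subgroup G} {α : Ω} {G' Δ : Type*}
    [Group G'] [MulAction G' Δ] {f : X →* G'} {j : Δ → Ω} (R : Red X α f j)
    (hX : ¬ X ≤ stabilizer G α) (h4 : F4 Z (X ⊓ stabilizer G α)) {J : Subgroup G'} [hJ : J.Normal]
    (hZJ : ∀ z : X, (z : G) ∈ Z → f z ∈ J)
    (hZ : ∀ u ∈ J, IsInv u → u ∈ f '' {x : X | (x : G) ∈ Z}) (key : ∀ δ : Δ, ∃ Q, PL δ J Q) :
    Lm Z X (orbit X α) := by
  have : Fact (Nat.Prime 2) := ⟨Nat.prime_two⟩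
  have := R.finite
  have S := h.red R hX h4
  have ker := ZS.ker_iff R
  have orb := fun β => ZS.mem_orbit_iff' R (β := β)
  have ker2 : ∀ x y : X, (x : G)⁻¹ * y ∈ Nf G (orbit X α) ↔ f x = f y := fun x y => by
    rw [← inv_mul_eq_one, ← map_inv, ← map_mul]; exact ker (x⁻¹ * y)
  obtain ⟨a₀, ha₀, -, -, ha₀X, -⟩ := id h4
  have fix2 : ∀ P ≤ X, IsPGroup 2 P → ∃ δ, P ≤ stabilizer G (j δ) := fun P h1 h2 => by
    obtain ⟨T, h5, hT⟩ := IsSylowIn.exists_ge h2 h1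
    obtain ⟨g, hg, h6⟩ := h.sylow_le_stab hT ha₀ ha₀X.1 ha₀X.2
    obtain ⟨δ, e⟩ := R.exists_pt hg
    exact ⟨δ, e ▸ h5.trans h6⟩
  have syl : ∀ T, IsSylowIn 2 T X → ∃ δ Q, PL δ J Q ∧ T ≤ stabilizer G (j δ) ∧
      IsSylowIn 2 (T.subgroupOf X ⊓ J.comap f) (Q.comap f) ∧
      (T.subgroupOf X ⊓ J.comap f).map f = Q ∧
      ((zs Z T).subgroupOf X).map f = Q0g Q := fun T hT => by
    obtain ⟨δ, h1⟩ := fix2 T hT.le hT.isPGroup
    obtain ⟨Q, c⟩ := key δ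
    have h0 := hT.subgroupOf le_rfl
    rw [subgroupOf_self] at h0
    have h2 := h0.inf_of_le_normalizer (K := J.comap f) le_top le_normalizer_of_normal
    have h3 : T.subgroupOf X ⊓ J.comap f ≤ Q.comap f := fun x hx => (c.mem _).2
      ⟨hx.2, R.smul_iff.2 (h1 hx.1),
        isPGroup_zpowers_map f (isPGroup_zpowers_of_mem hT.isPGroup hx.1)⟩
    have h5 := h2.mono h3 (comap_mono fun x hx => ((c.mem x).1 hx).1)
    have h6 := h5.map f
    rw [map_comap_eq_self_of_surjective R.surj] at h6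
    refine ⟨δ, Q, c, h1, h5, (h6.eq_of_le c.p2 h6.le le_rfl).symm, le_antisymm ?_ fun u hu => ?_⟩
    · rintro _ ⟨x, hx, rfl⟩
      refine mem_Q0g_of ?_ ?_
      · rcases (h.mem_zs hT.isPGroup).1 hx with e | e
        · rw [show x = 1 from Subtype.ext e, map_one]; exact one_mem _
        · exact h3 ⟨e.2, hZJ x e.1⟩
      rw [← map_mul, show x * x = 1 from Subtype.ext (h.zs_sq hT.isPGroup hx), map_one]
    by_cases h0 : u = 1
    · exact h0 ▸ one_mem _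
    obtain ⟨u1, u2⟩ := c.mem_Q0.1 hu
    obtain ⟨z, hz, rfl⟩ := hZ u ((c.mem u).1 u1).1 ⟨u2, h0⟩
    obtain ⟨x, hx, h7⟩ := h5.exists_conj_le
      (Invol.isPGroup_zpowers (a := z) (Subtype.ext (h.sq hz))) (zpowers_le.2 (mem_comap.2 u1))
    refine ⟨x * z * x⁻¹, mem_zs_of (h.conj z hz x) (h7 (mem_map_of_mem _ (mem_zpowers z))).1, ?_⟩
    rw [map_mul, map_mul, ← c.cen _ u1 u2 _ hx, map_inv, mul_inv_cancel_right]
  have injA : ∀ T, IsSylowIn 2 T X → ∀ x ∈ (zs Z T).subgroupOf X, f x = 1 → x = 1 :=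
    fun T hT x hx e => by_contra fun h0 =>
      h.map_ne_one R hX x (h.mem_of_zs hT.isPGroup hx fun e => h0 (Subtype.ext e)) e
  have inQ : ∀ {T δ Q}, IsSylowIn 2 T X → PL δ J Q → T ≤ stabilizer G (j δ) →
      ((zs Z T).subgroupOf X).map f = Q0g Q → ∀ x : X, (x : G) ∈ T →
      (x : G) ∈ centralizer (zs Z T : Set G) → f x ∈ Q := fun hT c a e x h1 h2 =>
    c.inn _ (isPGroup_zpowers_map f (isPGroup_zpowers_of_mem hT.isPGroup h1))
      (R.smul_iff.2 (a h1)) fun u hu h3 => by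
        obtain ⟨y, hy, rfl⟩ := e.ge (mem_Q0g_of hu h3)
        rw [← map_mul, ← map_mul]
        exact congrArg f (Subtype.ext (h2 y hy).symm)
  have cA : ∀ {T Q}, IsSylowIn 2 T X → ((zs Z T).subgroupOf X).map f = Q0g Q →
      Nat.card (Q0g Q) = Nat.card (zs Z T) := fun hT e => by
    rw [← e, card_map_of_injOn f (injA _ hT), card_subgroupOf_of_le ((zs_le Z _).trans hT.le)]
  have card : (orbit X α).ncard = Nat.card Δ := by
    rw [show orbit X α = Set.range j from Set.ext orb, ← Set.image_univ,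
      Set.ncard_image_of_injective _ R.inj, Set.ncard_univ]
  refine ⟨?_, ?_, ?_, ?_, ?_, ?_, ?_, ?_⟩
  · rintro x hx _ ⟨y, rfl⟩
    exact ⟨⟨x, hx⟩ * y, mul_smul (⟨x, hx⟩ : X) y α⟩
  · intro P h1 h2
    obtain ⟨δ, h5⟩ := fix2 P h1 h2
    exact ⟨_, (orb _).2 ⟨δ, rfl⟩, h5⟩
  · intro T hT x hx h1 β hβ γ hγ hne a b
    obtain ⟨β, rfl⟩ := (orb _).1 hβ
    obtain ⟨γ, rfl⟩ := (orb _).1 hγ
    obtain ⟨δ, Q, c, d, -, -, e⟩ := syl T hT
    lift x to X using hT.le hx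
    have h5 := inQ hT c d e x hx h1
    by_cases h6 : β = δ
    · exact (ker x).2 (c.semi _ h5 γ (fun e => hne (by rw [h6, e])) (R.smul_iff.2 b))
    · exact (ker x).2 (c.semi _ h5 β h6 (R.smul_iff.2 a))
  · intro T hT x hx h0 h1
    obtain ⟨δ, Q, c, d, -, -, e⟩ := syl T hT
    lift x to X using hT.le hx
    have h5 : f x * f x = 1 := by rw [← map_mul]; exact (ker _).1 h1
    obtain ⟨y, hy, h6⟩ := e.ge (mem_Q0g_of (inQ hT c d e x hx h0) h5)
    exact ⟨y, hy, (ker (x * y)).2 (by rw [map_mul, h6, h5])⟩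
  · intro z hz w hw h1 h2 β hβ a b
    obtain ⟨δ, rfl⟩ := (orb _).1 hβ
    obtain ⟨Q, c⟩ := key δ
    lift z to X using h1
    lift w to X using h2
    have h5 := S.sq ⟨z, hz, rfl⟩
    have h6 := S.sq ⟨w, hw, rfl⟩
    refine (ker (z * w * (z * w))).2 ?_
    simpa only [map_mul] using sq_of_comm h5 h6 (c.cen _
      ((c.mem _).2 ⟨hZJ z hz, R.smul_iff.2 a, Invol.isPGroup_zpowers h5⟩) h5 _
      ((c.mem _).2 ⟨hZJ w hw, R.smul_iff.2 b, Invol.isPGroup_zpowers h6⟩))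
  · intro T hT x hx ho h1
    obtain ⟨δ, Q, c, d, -, -, e⟩ := syl T hT
    lift x to X using hx
    refine (ker x).2 (c.oddc _ (ho.of_dvd_nat ?_) fun u hu h6 => ?_)
    · rw [Subgroup.orderOf_coe]
      exact orderOf_map_dvd f x
    obtain ⟨y, hy, rfl⟩ := e.ge (mem_Q0g_of hu h6)
    have h7 := (ker (x * y * x⁻¹ * y)).1 (h1 y hy)
    rw [map_mul, map_mul, map_mul, map_inv, mul_eq_one_iff_eq_inv, Invol.inv_eq h6] at h7
    exact mul_inv_eq_iff_eq_mul.1 h7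
  · intro T hT
    obtain ⟨δ, Q, c, d, s, -, e⟩ := syl T hT
    obtain ⟨k, hk, k1, h5, h6⟩ := c.cyc
    obtain ⟨k, rfl⟩ := R.surj k
    obtain ⟨x, hx, h7⟩ := s.frattini_elem (g := k)
      (mem_normalizer_fintype fun y hy => by simpa using c.conj k1 hy)
    have h8 : ((x * k : X) : G) ∈ normalizer (zs Z T : Set G) := mem_normalizer_fintype fun y hy => by
      rcases (h.mem_zs hT.isPGroup).1 hy with rfl | ⟨y1, y2⟩
      · simp
      exact mem_zs_of (h.conj y y1 _) (conj_mem_of_mem_normalizer h7 (x := ⟨y, hT.le y2⟩)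
        ⟨y2, hZJ _ y1⟩).1
    have q0 : ∀ y : X, (y : G) ∈ zs Z T → f y ∈ Q ∧ f y * f y = 1 := fun y hy =>
      c.mem_Q0.1 (e.le (mem_map_of_mem f hy))
    have h9 : ∀ y : X, (y : G) ∈ zs Z T → ∀ i : ℕ,
        f ((x * k) ^ i * y * ((x * k) ^ i)⁻¹) = f k ^ i * f y * (f k ^ i)⁻¹ := by
      intro y hy i
      induction i with
      | zero => simp
      | succ i ih =>
        have := c.cen _ (c.conj (pow_smul_eq k1 (i + 1)) (q0 y hy).1)
          (by rw [conj_mul, (q0 y hy).2]; simp) _ hx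
        rw [show (x * k) ^ (i + 1) * y * ((x * k) ^ (i + 1))⁻¹ =
          x * (k * ((x * k) ^ i * y * ((x * k) ^ i)⁻¹) * k⁻¹) * x⁻¹ by
            simp only [pow_succ', mul_inv_rev, mul_assoc],
          map_mul, map_mul, map_mul, map_mul, ih, map_inv, map_inv, mul_inv_eq_iff_eq_mul, this,
          pow_succ']
        group
    have h10 : ∀ y z : X, (y : G) ∈ zs Z T → (z : G) ∈ zs Z T → f y = f z → (y : G) = z :=
      fun y z hy hz e => congrArg Subtype.val (mul_inv_eq_one.1 (injA T hT (y * z⁻¹)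
        (mul_mem hy (inv_mem hz)) (by rw [map_mul, e, map_inv, mul_inv_cancel])))
    have h11 := fun (y : X) (hy : (y : G) ∈ zs Z T) (i : ℕ) =>
      conj_mem_of_mem_normalizer (pow_mem h8 i) hy
    refine ⟨_, ⟨(x * k).2, h8⟩, fun y hy z hz h1 h2 => ?_, fun g hg => ?_⟩
    · lift y to X using hT.le (zs_le Z T hy)
      lift z to X using hT.le (zs_le Z T hz)
      obtain ⟨i, hi⟩ := h5 _ (q0 y hy).1 _ (q0 z hz).1
        (S.inv _ ⟨y, h.mem_of_zs hT.isPGroup hy h1, rfl⟩)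
        (S.inv _ ⟨z, h.mem_of_zs hT.isPGroup hz h2, rfl⟩)
      exact ⟨i, h10 ((x * k) ^ i * y * ((x * k) ^ i)⁻¹) z (h11 y hy i) hz ((h9 y hy i).trans hi)⟩
    · lift g to X using hg.1
      have hg2 : (g : G) ∈ normalizer (zs Z T : Set G) := hg.2
      have h12 := mul_mem (mul_mem hg2 h8) (inv_mem hg2)
      obtain ⟨b, -, hb, -⟩ := h.exists_mem_sylow hT ha₀ ha₀X.1 |>.imp fun g e =>
        (⟨trivial, e.2, trivial⟩ : True ∧ g * a₀ * g⁻¹ ∈ T ∧ True)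
      obtain ⟨i, hi⟩ := h6 (f (g * (x * k) * g⁻¹)) (by
        rw [map_mul, map_mul, map_mul, map_inv]
        exact hJ.conj_mem _ (mul_mem ((c.mem _).1 hx).1 hk) _)
        (R.smul_iff.2 (h.norm_zs_le (h.conj _ ha₀ b) hb d h12))
      refine ⟨i, fun y hy => ?_⟩
      lift y to X using hT.le (zs_le Z T hy)
      refine h10 (g * (x * k) * g⁻¹ * y * (g * (x * k) * g⁻¹)⁻¹) ((x * k) ^ i * y * ((x * k) ^ i)⁻¹)
        (conj_mem_of_mem_normalizer h12 hy) (h11 y hy i) ?_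
      rw [h9 y hy i, ← hi _ (q0 y hy).1 (q0 y hy).2, map_mul, map_mul, map_inv]
  · intro T hT
    obtain ⟨δ, Q, c, d, s, m, e⟩ := syl T hT
    rcases c.typ with h1 | ⟨h1, h2⟩
    · refine Or.inl ⟨?_, fun x hx h2 => ?_⟩
      · rw [card, c.card, ← cA hT e, le_antisymm Q0g_le fun x hx => mem_Q0g_of hx (h1 x hx)]
      · lift x to X using hT.le hx
        exact (ker (x * x)).2 (by rw [map_mul, h1 _ (inQ hT c d e x hx h2)])
    have h3 : T.subgroupOf X ≤ J.comap f := fun x hx =>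
      h2 _ (isPGroup_zpowers_map f (isPGroup_zpowers_of_mem hT.isPGroup hx))
    rw [inf_eq_left.2 h3] at m
    have d : ∀ x : X, (x : G) ∈ T → f x ∈ Q := fun x hx => m.le (mem_map_of_mem f hx)
    refine Or.inr ⟨by rw [card, c.card, h1.card, cA hT e], cA hT e ▸ h1.eight,
      fun x hx a ha => ?_, ?_, fun x hx => ?_, fun x hx y hy h5 => ?_, fun x hx y hy h5 => ?_,
      fun a ha => ?_⟩
    · lift x to X using hT.le hx
      lift a to X using hT.le (zs_le Z T ha)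
      obtain ⟨a1, a2⟩ := c.mem_Q0.1 (e.le (mem_map_of_mem f ha))
      have := injA T hT (x * a * x⁻¹ * a⁻¹) (mul_mem (conj_mem_of_mem_normalizer (H := zs Z T)
        (g := (x : G)) (x := (a : G)) (h.norm_zs T (le_normalizer hx)) ha) (inv_mem ha))
        (by rw [map_mul, map_mul, map_mul, ← c.cen _ a1 a2 _ (d x hx)]; simp)
      rw [mul_inv_eq_one, mul_inv_eq_iff_eq_mul] at this
      exact congrArg Subtype.val this.symm
    · have h5 : (f.comp (inclusion hT.le)).range = Q := by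
        rw [MonoidHom.range_comp, inclusion_range, m]
      have h6 : (f.comp (inclusion hT.le)).ker = (Nf G (orbit X α)).subgroupOf T :=
        Subgroup.ext fun x => (ker (inclusion hT.le x)).symm
      rw [← cA hT e, ← h1.card, ← h5, ← index_ker, h6, inf_comm, ← card_subgroupOf_eq,
        index_mul_card]
    · lift x to X using hT.le hx
      refine (ker (x * x * (x * x))).2 ?_
      simpa only [map_mul] using h1.sq _ (d x hx)
    · lift x to X using hT.le hx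
      lift y to X using hT.le hy
      refine (ker (x⁻¹ * y * (x⁻¹ * y))).2 ?_
      simpa only [map_mul, map_inv] using h1.inj _ (d x hx) _ (d y hy)
        (by simpa only [map_mul] using (ker2 (x * x) (y * y)).1 h5)
    · lift x to X using hT.le hx
      lift y to X using hT.le hy
      refine (h1.comm _ (d x hx) _ (d y hy)
        (by simpa only [map_mul] using (ker2 (x * y) (y * x)).1 h5)).imp
        (fun e => (ker (x * x)).2 (by rwa [map_mul])) (Or.imp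
        (fun e => (ker (y * y)).2 (by rwa [map_mul]))
        fun e => (ker2 (x * x) (y * y)).2 (by rwa [map_mul, map_mul]))
    · lift a to X using hT.le (zs_le Z T ha)
      obtain ⟨a1, a2⟩ := c.mem_Q0.1 (e.le (mem_map_of_mem f ha))
      obtain ⟨y, hy, h5⟩ := h1.surj _ a1 a2
      obtain ⟨x, hx, rfl⟩ := m.ge hy
      exact ⟨x, hx, (ker (x * x * a)).2 (by rw [map_mul, map_mul, h5, a2])⟩

/-- The odd core fixes the line pointwise. -/
theorem core_le_stab [Finite G] {Z : Set G} (h : ZS G Ω Z) {X : Subgroup G} {α : Ω}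
    (h4 : F4 Z (X ⊓ stabilizer G α)) : piCoreOf {2}ᶜ X ≤ stabilizer G α := by
  obtain ⟨a, ha, b, hb, h1, h2, h3, h5⟩ := h4
  exact le_of_four (h.inv a ha) (h.inv b hb) h3 h5 (odd_piCoreOf X)
    (le_normalizer_piCoreOf _ h1.1) (le_normalizer_piCoreOf _ h2.1)
    (inf_le_right.trans (h.cent_le ha h1.2)) (inf_le_right.trans (h.cent_le hb h2.2))
    (inf_le_right.trans (h.cent_le (h.mul_mem ha hb h5 h3) (mul_mem h1.2 h2.2)))

theorem lm_of_kh {G Ω : Type u} [Group G] [Finite G] [MulAction G Ω] {Z : Set G} (h : ZS G Ω Z)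
    (hK : KH G) {X : Subgroup G} (h0 : X ≠ ⊤) {α : Ω} (hX : ¬ X ≤ stabilizer G α)
    (h4 : F4 Z (X ⊓ stabilizer G α)) : Lm Z X (orbit X α) := by
  have R := red_orbit X α
  generalize (toPermHom X (orbit X α)).rangeRestrict = f at R
  have := R.finite
  have S := h.red R hX h4
  have hO : ∀ x ∈ pPrimeCore 2 X, f x = 1 := fun x hx => (ZS.ker_iff R x).1 (mem_Nf.2 (by
    rintro _ ⟨g, rfl⟩
    have h1 := core_le_stab h h4 (conj_mem_of_mem_normalizer (le_normalizer_piCoreOf _ (inv_mem g.2))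
      (oq_eq_one.1 ((QuotientGroup.eq_one_iff x).2 hx)))
    change (x : G) • (g : G) • α = (g : G) • α
    rw [← mul_smul, ← inv_smul_eq_iff, ← mul_smul, ← mul_assoc]
    simpa using h1))
  have h1 : ∀ x : X, (x : G) ∈ Z → oq X x ≠ 1 := fun x hx e =>
    h.map_ne_one R hX x hx (hO x ((QuotientGroup.eq_one_iff x).1 e))
  have sj : Function.Surjective (oq X) := QuotientGroup.mk'_surjective _
  have C := h.toZC.map sj h1
  obtain ⟨a, ha, -, -, ha', -⟩ := id h4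
  have h2 : ∀ z ∈ Zoq Z X, ∃ g, g * oq X ⟨a, ha'.1⟩ * g⁻¹ = z := by
    rintro _ ⟨z, hz, rfl⟩
    obtain ⟨g, hg, e⟩ := h.exists_conj_in hX ha ha'.1 ha'.2 hz z.2
    exact ⟨oq X ⟨g, hg⟩, by rw [← map_inv, ← map_mul, ← map_mul]; exact congrArg _ (Subtype.ext e)⟩
  obtain ⟨K, hc, hN, h5⟩ := C.exists_comp (pPrimeCore_quotient_pPrimeCore 2) (fun z hz w hw => by
    obtain ⟨g, rfl⟩ := h2 z hz
    obtain ⟨k, rfl⟩ := h2 w hw
    exact ⟨k * g⁻¹, by group⟩) (fun z hz e => hX fun g hg => by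
      obtain ⟨k, rfl⟩ := h2 z hz
      have h3 : oq X ⟨a, ha'.1⟩ ∈ pCore 2 _ := by
        simpa [mul_assoc] using Normal.conj_mem inferInstance _ e k⁻¹
      refine h.fix_of_conj ha ha'.2 (by_contra fun h6 => ?_)
      have h7 := h.odd_mul ha (h.conj a ha g) ha'.2 h6
      have h8 := eq_one_of_odd_pow (isPGroup_zpowers_of_mem (pCore_isPGroup 2) (mul_mem h3
        (Normal.conj_mem inferInstance _ h3 (oq X ⟨g, hg⟩)))) h7 (by
          rw [← map_inv, ← map_mul, ← map_mul, ← map_mul, ← map_pow]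
          exact (congrArg _ (Subtype.ext (pow_orderOf_eq_one _))).trans (map_one _))
      rw [← map_inv, ← map_mul, ← map_mul, ← map_mul, oq_eq_one] at h8
      exact h6 (((stabilizer G α).mul_mem_cancel_left ha'.2).1 (core_le_stab h h4 h8)))
    ⟨⟨a, ha'.1⟩, ha, rfl⟩
  have hT : Wal.TC ⊤ K := ⟨subnormalIn_top_iff.2 hc.1, hc.2⟩
  set φ := QuotientGroup.lift (pPrimeCore 2 X) f hO with hφ
  have e1 : ∀ x, φ (oq X x) = f x := fun _ => rfl
  have sφ : Function.Surjective φ := fun y => let ⟨x, e⟩ := R.surj y; ⟨oq X x, e⟩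
  have hk : (φ.comp K.subtype).ker = (centralizer (K : Set _)).subgroupOf K := by
    refine le_antisymm ?_ fun x hx => R.faith _ fun δ => ?_
    · rcases isQuasisimple_normal hc.2 (φ.comp K.subtype).ker with e | e
      · exact fun x hx => mem_center_iff_cent.1 (e hx)
      · exact absurd (e.ge (mem_top ⟨_, (h5 _ ⟨⟨a, ha'.1⟩, ha, rfl⟩).1⟩))
          (h.map_ne_one R hX ⟨a, ha'.1⟩ ha)
    · obtain ⟨_, ⟨z, hz, rfl⟩, h6⟩ := S.exists_fix δ
      refine S.fix_of_comm ⟨z, hz, rfl⟩ h6 ?_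
      have := congrArg φ (hx _ (h5 _ ⟨z, hz, rfl⟩).1)
      rw [map_mul, map_mul] at this
      exact this.symm
  have e2 : Zq K ≃* K.map φ := ((QuotientGroup.quotientMulEquivOfEq hk.symm).trans
    (QuotientGroup.quotientKerEquivRange _)).trans (MulEquiv.subgroupCongr (by
      rw [MonoidHom.range_comp, range_subtype]))
  have := hN.map φ sφ
  have := zq_simple hc.2
  have := e2.symm.isSimpleGroup
  have hZ : ∀ z : X, (z : G) ∈ Z → f z ∈ K.map φ := fun z hz =>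
    mem_map_of_mem φ (h5 _ ⟨z, hz, rfl⟩).1
  obtain ⟨h6, h7⟩ := exists_pl S R.faith (J := K.map φ) (by rintro _ ⟨z, hz, rfl⟩; exact hZ z hz)
    (fun e => hT.zq_nonab ⟨⟨fun x y => e2.injective (by
      rw [map_mul, map_mul, e.is_comm.comm])⟩⟩)
    ((hK X h0 K hT).imp (fun e => e.of_surjective e2.toMonoidHom e2.surjective)
      fun e => SzT.of_equiv e e2)
  exact lm_of_pl h R hX h4 hZ h6 h7

end CfsgLib.HI
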