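import Cfsg.Agent.Lib.Gol.Small
import Cfsg.Agent.Lib.HI.Cls

/-!
# Central quotients of groups without real elements of order `4`: definitions
-/

set_option autoImplicit false

namespace CfsgLib.HI

open Subgroup Cfsg CfsgLib.FT CfsgLib.FT.BGN CfsgLib.Cop CfsgLib.GW CfsgLib.Wal CfsgLib.GO
open CfsgLib.H1 (AbTwo)

universe u

variable {G : Type u} [Group G]

/-- `O(N(A) / C(A))` centralizes `V`. -/
def Alpha (A V : Subgroup G) : Prop :=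
  ∀ n : 𝐍(A), A.normalizerMonoidHom n ∈ Od A.normalizerMonoidHom.range → (n : G) ∈ 𝐂(V)

/-- `A` is central in `S` and `V` is contained in the supplements of `A` in `S`. -/
def Beta (S A V : Subgroup G) : Prop := S ≤ 𝐂(A) ∧ ∀ C ≤ S, S ≤ A ⊔ C → V ≤ C

/-- The choice of the strongly closed subgroup `V ≤ A = zs Zs S`. -/
structure CV (Zs : Set G) (S V : Subgroup G) : Prop extends MH G Zs where
  sa : SCA S (zs Zs S)
  sv : SCA S V
  le : V ≤ zs Zs S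
  nv : 𝐍(zs Zs S) ≤ 𝐍(V)
  irr : ∀ C ≤ V, 𝐍(zs Zs S) ≤ 𝐍(C) → C = ⊥ ∨ C = V
  cen : ∀ x ∈ S, x * x = 1 → x ∈ 𝐂(V)
  ab : Alpha (zs Zs S) V ∨ Beta S (zs Zs S) V

/-- No component of the groups `C(v) / O(C(v))` is moved by `V`. -/
def NoMv (V : Subgroup G) : Prop :=
  ∀ v ∈ V, v ≠ 1 → ∀ J : Subgroup (Bar 𝐂[v]), TC ⊤ J → im 𝐂[v] V ≤ 𝐂(J)

/-- `A = T × D`, and `K` centralizes `D` and permutes the involutions of `T` transitively. -/
structure Flag (A D T K : Subgroup G) : Prop where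
  el : El A
  inf : T ⊓ D = ⊥
  sup : T ⊔ D = A
  kn : K ≤ 𝐍(T)
  kc : K ≤ 𝐂(D)
  tr : ∀ t ∈ T, ∀ t' ∈ T, t ≠ 1 → t' ≠ 1 → ∃ k ∈ K, k * t * k⁻¹ = t'
  four : 4 ≤ Nat.card T

end CfsgLib.HI
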