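import Cfsg.Agent.Lib.HI.Ab
import Cfsg.Agent.Lib.HI.Defs

/-!
# Strongly closed elementary abelian subgroups of groups with known components
-/

set_option autoImplicit false

namespace CfsgLib.HI

open Subgroup Cfsg CfsgLib.FT CfsgLib.FT.BGN CfsgLib.Cop CfsgLib.GW CfsgLib.Wal CfsgLib.GO
open CfsgLib.H1 (AbTwo CharIn layerIn genFitIn dSub)
open CfsgLib.FT.U4 (mem_cent1 mem_cent1' mem_cent mem_cent1_comm cent1_conj
  eq_one_of_mem_inf eq_bot_of_forall conj_mem_conj_iff orderOf_conj norm_le_norm_cent)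
open scoped commutatorElement

universe u

variable {G : Type u} [Group G]

/-- `O(X) = 1` and the components of `X` are known. -/
structure Lo (X : Subgroup G) : Prop where
  od : Od X = ⊥
  kn : ∀ L, TC X L → AbTwo (Zq L) ∨ SzT (Zq L)

/-- The elements of `X` inducing inner automorphisms on `L`. -/
def Inn (X L : Subgroup G) : Subgroup G := X ⊓ (L ⊔ 𝐂(L))

variable [Finite G] {Zs : Set G} {X A L P Q K T : Subgroup G}

theorem MH.lo_bar (h : MH G Zs) (hX : X ≠ ⊤) : Lo (⊤ : Subgroup (Bar X)) :=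
  ⟨Od_bar X, h.kh X hX⟩

theorem MH.lo (h : MH G Zs) (hX : X ≠ ⊤) (hO : Od X = ⊥) : Lo X :=
  ⟨hO, fun _ => h.kh.tc hX hO⟩

omit [Finite G] in
theorem Inn_le : Inn X L ≤ X := inf_le_left

omit [Finite G] in
theorem mem_Inn {g : G} : g ∈ Inn X L ↔ g ∈ X ∧ ∃ l ∈ L, l⁻¹ * g ∈ 𝐂(L) :=
  and_congr_right fun _ => ⟨fun h => by
    obtain ⟨l, hl, c, hc, rfl⟩ := mem_sup_norm (cent_le_norm L) h
    exact ⟨l, hl, by simpa using hc⟩, fun ⟨l, hl, h⟩ => by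
      simpa using mul_mem (mem_sup_left hl) (mem_sup_right h)⟩

omit [Finite G] in
theorem tc_inn (h : TC X L) : TC (Inn X L) L := h.mono (le_inf h.le le_sup_left) Inn_le

omit [Finite G] in
theorem tor_inn (h : Tor X L Q K) : Tor (Inn X L) L Q K :=
  { h with tc := tc_inn h.tc, inn := fun g hg => h.inn g hg.1 }

section Ab

variable (h : TC X L) (hab : AbTwo (Zq L)) (hQ : IsSylowIn 2 Q L)
include h hab hQ

theorem ab_sq {x : G} (hx : x ∈ Q) : x * x ∈ 𝐂(L) :=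
  haveI := zq_simple h.2
  (bz_sq (hQ.le hx)).1 (el_of_ab h.zq_nonab hab (sylow_iz hQ) _ (bz_mem hQ.le hx))

/-- `2`-elements centralizing the Sylow subgroup of a component of abelian type. -/
theorem ab_inn {g : G} (hg : g ∈ 𝐍(L)) (h1 : ∀ x ∈ Q, ⁅g, x⁆ ∈ 𝐂(L)) {n : ℕ}
    (h2 : g ^ 2 ^ n ∈ 𝐂(L)) : ∃ l ∈ Q, l⁻¹ * g ∈ 𝐂(L) := by
  have := zq_simple h.2
  obtain ⟨y, hy, e⟩ := inner_of_ab h.zq_nonab (sylow_iz hQ)
    (el_of_ab h.zq_nonab hab (sylow_iz hQ)).le_cent (τ := az L ⟨g, hg⟩) (n := n)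
    (by rw [← map_pow]; exact (h.az_eq_one (pow_mem hg _)).2 h2) fun y hy => by
      obtain ⟨x, hx, rfl⟩ := (mem_iz hQ.le).1 hy
      rw [az_bz hg (hQ.le hx)]
      exact (bz_eq (conj_mem_of_mem_normalizer hg (hQ.le hx)) (hQ.le hx)).2 (h1 x hx)
  obtain ⟨l, hl, rfl⟩ := (mem_iz hQ.le).1 hy
  have hl' := hQ.le hl
  refine ⟨l, hl, (h.az_eq_one (mul_mem (inv_mem (le_normalizer hl')) hg)).1 ?_⟩
  rw [← az_of_mem hl', ← inv_mul_eq_one, ← map_inv, ← map_mul] at e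
  rw [← inv_eq_one, ← map_inv, ← e]
  congr 1
  exact Subtype.ext (by simp)

theorem ab_tor (hO : Od X = ⊥) : ∃ K, Tor (Inn X L) L Q K ∧ IsCyclic K := by
  have := zq_simple h.2
  obtain ⟨d, hd, -⟩ := td_of_ab h.zq_nonab hab (sylow_iz hQ)
  obtain ⟨K, hK, h1, -⟩ := tor_of_td (X := L) (h.mono le_rfl h.le)
    (le_bot_iff.1 (hO ▸ H1.piCoreOf_le_of_subnormalIn h.1)) hQ hd fun g hg _ _ _ =>
      ⟨g, hg, by simp⟩
  exact ⟨K, { hK with tc := tc_inn h, inn := fun g hg _ _ _ => (mem_Inn.1 hg).2 }, h1⟩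

omit h hab in
theorem zbot_of_comm (hp : ⁅L, L⁆ = L) (hZ : L ⊓ 𝐂(L) ≤ Q) (hc : Q ≤ 𝐂(Q)) : L ⊓ 𝐂(L) = ⊥ :=
  eq_bot_of_forall fun _ hz => mem_bot.1 ((comm_eq_bot_iff.2 hc).le
    (center_le_comm hQ hp (hZ hz) hz.2))

variable (hO : Od X = ⊥) (hZ : PC Zs)
include hO hZ

theorem ab_cov {x : G} (hx : x ∈ Q) : ∃ z ∈ zs Zs Q, x * z⁻¹ ∈ 𝐂(L) := by
  by_cases x1 : x ∈ 𝐂(L)
  · exact ⟨1, one_mem _, by simpa using x1⟩
  obtain ⟨K, hK, -⟩ := ab_tor h hab hQ hO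
  obtain ⟨k, hk, h1⟩ := hK.exists_move hx x1 (ab_sq h hab hQ hx)
  obtain ⟨z, hz, h2, h3⟩ : ∃ z ∈ Q, z ∈ Zs ∧ z ∉ 𝐂(L) := by
    by_contra! h2
    have := mem_cent.1 (hZ.cent_of_odd hQ.isPGroup (odd_orderOf_of_mem hK.odd hk) (hK.norm hk)
      fun u hu hu' => (mem_cent.1 (h2 u hu hu') k (hK.le hk)).symm) x hx
    rw [← this] at h1
    exact h1 (by simp)
  obtain ⟨j, hj, h4⟩ := hK.tr z hz x hx h3 x1 (ab_sq h hab hQ hz) (ab_sq h hab hQ hx)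
  exact ⟨_, mem_zs_of (hZ.conj z h2 j) (conj_mem_of_mem_normalizer (hK.norm hj) hz),
    by simpa using inv_mem h4⟩

/-- Components of abelian type are simple. -/
theorem ab_zbot : L ⊓ 𝐂(L) = ⊥ := by
  refine zbot_of_comm hQ h.perfect (h.center_le hO hQ) fun x hx => mem_cent.2 fun y hy => ?_
  obtain ⟨a, ha, h1⟩ := ab_cov h hab hQ hO hZ hx
  obtain ⟨b, hb, h2⟩ := ab_cov h hab hQ hO hZ hy
  have h3 : Commute y (x * a⁻¹) := mem_cent.1 h1 y (hQ.le hy)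
  have h4 : Commute a (y * b⁻¹) := mem_cent.1 h2 a (hQ.le (zs_le _ _ ha))
  have h5 : Commute a b := hZ.zs_comm hQ.isPGroup ha hb
  simpa using (h3.mul_right (by simpa using (h4.mul_right h5).symm : Commute y a)).eq

theorem ab_zs : zs Zs Q = Q := le_antisymm (zs_le _ _) fun x hx => by
  obtain ⟨a, ha, h1⟩ := ab_cov h hab hQ hO hZ hx
  rwa [mul_inv_eq_one.1 (eq_one_of_mem_inf (ab_zbot h hab hQ hO hZ)
    (mul_mem (hQ.le hx) (inv_mem (hQ.le (zs_le _ _ ha)))) h1)]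

theorem ab_el : El Q := fun _ hx => eq_one_of_mem_inf (ab_zbot h hab hQ hO hZ)
  (mul_mem (hQ.le hx) (hQ.le hx)) (ab_sq h hab hQ hx)

end Ab

theorem Lo.exists_tor (h : Lo X) (hL : TC X L) (hQ : IsSylowIn 2 Q L) :
    ∃ K, Tor (Inn X L) L Q K ∧ IsCyclic K := by
  rcases h.kn L hL with h1 | h1
  · exact ab_tor hL h1 hQ h.od
  · obtain ⟨d, hd⟩ := h1.sd (sylow_iz hQ)
    obtain ⟨K, hK, h1, -⟩ := tor_of_td (X := L) (hL.mono le_rfl hL.le)
      (le_bot_iff.1 (h.od ▸ H1.piCoreOf_le_of_subnormalIn hL.1)) hQ hd.toTD fun g hg _ _ _ =>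
        ⟨g, hg, by simp⟩
    exact ⟨K, { hK with tc := tc_inn hL, inn := fun g hg _ _ _ => (mem_Inn.1 hg).2 }, h1⟩

/-- (K1) `A` normalizes every component. -/
theorem Lo.norm_tc (h : Lo X) (hA : SCin A X) (hL : TC X L) : A ≤ 𝐍(L) := fun a ha => by
  have := Fact.mk Nat.prime_two
  obtain ⟨P, h1, hP⟩ := IsSylowIn.exists_ge hA.el.isPGroup hA.le
  obtain ⟨K, hK, -⟩ := h.exists_tor hL (hL.sylow hP)
  rcases (hL.cj' (le_normalizer (hA.le ha))).eq_or hL with e | e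
  · exact mem_normalizer_of_map_conj_eq e
  obtain ⟨x, hx, -, -, x1, -, -, xx, -⟩ := hK.two
  obtain ⟨k, hk, h2⟩ := hK.exists_move hx x1 xx
  have h3 := e (conj_mem_map_conj hx.2)
  have h4 : x * a * x⁻¹ * a ∈ A := mul_mem (conj_mem_of_mem_normalizer
    (hA.le_norm hP.isPGroup h1 hP.le hx.1) ha) ha
  have h5 := conj_mem_of_mem_normalizer (hK.norm hk) hx
  have h6 : k * (x * a * x⁻¹ * a) * k⁻¹ = k * x * k⁻¹ * (a * x * a⁻¹)⁻¹ := by
    have := mem_cent.1 (inv_mem h3) _ (inv_mem (hK.le hk))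
    rw [mul_assoc (k * x), this, hA.el.inv ha]
    simp [mul_assoc, hA.el.inv ha]
  have h7 := hA.sc P hP.isPGroup h1 hP.le k (hL.le (hK.le hk)) _ h4
    (h6 ▸ mul_mem h5.1 (inv_mem (mul_mem (mul_mem (h1 ha) hx.1) (inv_mem (h1 ha)))))
  have h8 : k * x * k⁻¹ * x⁻¹ ∈ A := by
    have := mul_mem h7 (inv_mem h4)
    rw [h6] at this
    convert this using 1
    rw [mul_inv_rev (x * a * x⁻¹), mul_inv_rev (x * a), mul_inv_rev x, hA.el.inv ha]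
    simp [mul_assoc, hA.el.inv ha, ← mul_assoc a a, hA.el a ha]
  refine absurd (e (mem_map_conj_iff.2 ?_)) h2
  rw [mul_assoc a⁻¹, hA.el.comm h8 ha, inv_mul_cancel_left]
  exact mul_mem h5.2 (inv_mem hx.2)

/-- `A` induces inner automorphisms on every component. -/
theorem Lo.le_inn (h : Lo X) (hA : SCin A X) (hL : TC X L) : A ≤ Inn X L := fun a ha => by
  have := Fact.mk Nat.prime_two
  obtain ⟨P, h1, hP⟩ := IsSylowIn.exists_ge hA.el.isPGroup hA.le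
  have hQ := hL.sylow hP
  have hn := h.norm_tc hA hL ha
  have aa : a ^ 2 ^ 1 ∈ 𝐂(L) := by rw [pow_one, sq, hA.el a ha]; exact one_mem _
  refine mem_Inn.2 ⟨hA.le ha, ?_⟩
  rcases h.kn L hL with h2 | h2
  swap
  · obtain ⟨K, hK⟩ := exists_stor hL h.od hQ h2
    exact hK.inn a (hA.le ha) hn 1 aa
  obtain ⟨K, hK, -⟩ := h.exists_tor hL hQ
  refine (ab_inn hL h2 hQ hn (fun x hx => by_contra fun h3 => ?_) aa).imp
    fun l hl => ⟨hQ.le hl.1, hl.2⟩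
  have h4 : ⁅a, x⁆ ∈ P ⊓ L := ⟨comm_mem_left (h1 ha) (le_normalizer hx.1), comm_mem_right hn hx.2⟩
  have h5 : x ∉ 𝐂(L) := fun e => h3 (comm_mem_right (norm_le_norm_cent L hn) e)
  obtain ⟨k, hk, h6⟩ := hK.tr _ h4 x hx h3 h5 (ab_sq hL h2 hQ h4) (ab_sq hL h2 hQ hx)
  have h7 := hA.sc P hP.isPGroup h1 hP.le k (hL.le (hK.le hk)) _
    (comm_mem_left ha (hA.le_norm hP.isPGroup h1 hP.le hx.1))
    (conj_mem_of_mem_normalizer (hK.norm hk) h4).1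
  set t := k * ⁅a, x⁆ * k⁻¹
  refine h3 ?_
  rw [show ⁅a, x⁆ = ⁅a, (t * x⁻¹)⁻¹⁆ * ((t * x⁻¹)⁻¹ * ((a * t) * a⁻¹ * t⁻¹) * (t * x⁻¹)) by
    simp only [commutatorElement_def]; group, hA.el.comm ha h7]
  simpa using comm_mem_right (norm_le_norm_cent L hn) (inv_mem h6)

theorem Lo.exists_mov (h : Lo X) (hA : SCin A X) (hL : TC X L) (hm : ¬ A ≤ 𝐂(L))
    (hP : IsSylowIn 2 P X) (h1 : A ≤ P) : ∃ K T, Mov (Inn X L) A L (P ⊓ L) K T ∧ IsCyclic K := by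
  obtain ⟨K, hK, h2⟩ := h.exists_tor hL (hL.sylow hP)
  have e : P ⊓ Inn X L ⊓ L = P ⊓ L := by
    rw [inf_assoc, inf_of_le_right (tc_inn hL).le]
  have h3 := h.le_inn hA hL
  rw [← e] at hK ⊢
  obtain ⟨T, hT⟩ := hK.exists_mov (hA.mono h3 Inn_le) hP.isPGroup.to_inf_left (le_inf h1 h3)
    inf_le_right (h.norm_tc hA hL) hm
  exact ⟨K, T, hT, h2⟩

theorem Lo.exists_mov' (h : Lo X) (hA : SCin A X) (hL : TC X L) (hm : ¬ A ≤ 𝐂(L)) :
    ∃ Q K T, Mov (Inn X L) A L Q K T ∧ IsCyclic K :=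
  haveI := Fact.mk Nat.prime_two
  let ⟨_, h1, hP⟩ := IsSylowIn.exists_ge hA.el.isPGroup hA.le
  ⟨_, h.exists_mov hA hL hm hP h1⟩

theorem Lo.exists_smov' (h : Lo X) (hA : SCin A X) (hL : TC X L) (hm : ¬ A ≤ 𝐂(L))
    (hs : SzT (Zq L)) (hP : IsSylowIn 2 P X) (h1 : A ≤ P) :
    ∃ K T, Mov X A L (P ⊓ L) K T ∧ STor X L (P ⊓ L) K := by
  obtain ⟨K, hK⟩ := exists_stor hL h.od (hL.sylow hP) hs
  obtain ⟨T, hT⟩ := hK.toTor.exists_mov hA hP.isPGroup h1 hP.le (h.norm_tc hA hL) hm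
  exact ⟨K, T, hT, hK⟩

theorem Lo.exists_smov (h : Lo X) (hA : SCin A X) (hL : TC X L) (hm : ¬ A ≤ 𝐂(L))
    (hs : SzT (Zq L)) : ∃ Q K T, Mov X A L Q K T ∧ STor X L Q K :=
  haveI := Fact.mk Nat.prime_two
  let ⟨_, h1, hP⟩ := IsSylowIn.exists_ge hA.el.isPGroup hA.le
  ⟨_, h.exists_smov' hA hL hm hs hP h1⟩

section MovAb

variable (m : Mov X A L Q K T) (hA : El A) (hab : AbTwo (Zq L))
include m hA hab

theorem mov_zbot : L ⊓ 𝐂(L) = ⊥ := by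
  refine zbot_of_comm m.syl m.tc.perfect m.zle fun x hx => mem_cent.2 fun y hy => ?_
  obtain ⟨a, ha, h1⟩ := m.cov x hx (ab_sq m.tc hab m.syl hx)
  obtain ⟨b, hb, h2⟩ := m.cov y hy (ab_sq m.tc hab m.syl hy)
  have h3 : Commute y (x * a⁻¹) := mem_cent.1 h1 y (m.syl.le hy)
  have h4 : Commute a (y * b⁻¹) := mem_cent.1 h2 a (m.tL ha)
  have h5 : Commute a b := hA.comm (m.tA ha) (m.tA hb)
  simpa using (h3.mul_right (by simpa using (h4.mul_right h5).symm : Commute y a)).eq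

theorem mov_eq : T = Q := le_antisymm m.tQ fun x hx => by
  obtain ⟨a, ha, h1⟩ := m.cov x hx (ab_sq m.tc hab m.syl hx)
  rwa [mul_inv_eq_one.1 (eq_one_of_mem_inf (mov_zbot m hA hab)
    (mul_mem (m.syl.le hx) (inv_mem (m.tL ha))) h1)]

theorem mov_inf : A ⊓ L = T := le_antisymm (fun a ha => by
  obtain ⟨t, ht, h1⟩ := m.dec a ha.1
  rw [eq_inv_of_mul_eq_one_right (eq_one_of_mem_inf (mov_zbot m hA hab)
    (mul_mem (m.tL ht) ha.2) h1)]
  exact inv_mem ht) (le_inf m.tA m.tL)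

/-- `2`-elements centralizing `T` act as elements of `T`. -/
theorem mov_dec {g : G} (hg : g ∈ 𝐍(L)) (h1 : g ∈ 𝐂(T)) {n : ℕ} (h2 : g ^ 2 ^ n ∈ 𝐂(L)) :
    ∃ t ∈ T, t⁻¹ * g ∈ 𝐂(L) := by
  have e := mov_eq m hA hab
  subst e
  exact ab_inn m.tc hab m.syl hg (fun x hx => by
    rw [commutatorElement_eq_one_iff_mul_comm.2 (mem_cent.1 h1 x hx).symm]; exact one_mem _) h2

end MovAb

theorem mov_norm (m : Mov X A L Q K T) {Y : Subgroup G} (hL : TC Y L) {g : G} (hg : g ∈ 𝐍(Y))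
    (h1 : g ∈ 𝐂(T)) : g ∈ 𝐍(L) := by
  obtain ⟨t, ht, h2⟩ := m.exists_ne
  refine hL.mem_norm hg (m.tL ht) (m.notMem ht h2) ?_
  rw [← mem_cent.1 h1 t ht, mul_inv_cancel_right]
  exact m.tL ht

theorem mov_flag (m : Mov X A L Q K T) (hA : El A) : Flag A (A ⊓ 𝐂(L)) T K where
  el := hA
  inf := by rw [← inf_assoc, inf_of_le_left m.tA, m.inf]
  sup := le_antisymm (sup_le m.tA inf_le_left) fun a ha => by
    obtain ⟨t, ht, h1⟩ := m.dec a ha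
    simpa using mul_mem (inv_mem (mem_sup_left ht))
      (mem_sup_right (mem_inf.2 ⟨mul_mem (m.tA ht) ha, h1⟩))
  kn := m.kt
  kc := le_centralizer_iff.1 (inf_le_right.trans (centralizer_le m.le))
  tr := m.trt
  four := m.four

theorem Lo.eq_bot (h : Lo X) {W : Subgroup G} (hW : W ≤ X) (ho : Odd (Nat.card W))
    (h1 : ∀ J, TC X J → W ≤ 𝐂(J)) (h2 : W ≤ 𝐂(pCoreOf 2 X)) : W = ⊥ := by
  have := Fact.mk Nat.prime_two
  have h3 : ∀ (q : ℕ) [Fact q.Prime], q ≠ 2 → pCoreOf q X = ⊥ := fun q hq h4 =>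
    le_bot_iff.1 (h.od ▸ pCoreOf_le_Od hq.1 h4 X)
  refine eq_bot_of_odd_of_two ho (H1.pCoreOf_isPGroup X) ((le_inf hW (le_cent_genFit h1
    fun q _ => ?_)).trans ((H1.inf_centralizer_genFitIn_le X).trans
      (H1.fittingOf_le_of_forall fun q _ => ?_)))
  · by_cases e : q = 2
    · subst e; exact h2
    · rw [h3 q e, ← le_centralizer_iff]; exact bot_le
  · by_cases e : q = 2
    · subst e; exact le_rfl
    · simp [h3 q e]

theorem Lo.mem_pc (h : Lo X) (hA : SCin A X) {b : G} (hb : b ∈ A)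
    (h1 : ∀ J, TC X J → b ∈ 𝐂(J)) : b ∈ pCoreOf 2 X := by
  have := Fact.mk Nat.prime_two
  set R := pCoreOf 2 X
  have hR : X ≤ 𝐍(R) := H1.le_normalizer_pCoreOf X
  have h2 := isPGroup_sup' (hA.le.trans hR) (H1.pCoreOf_isPGroup X) hA.el.isPGroup
  have h3 : R ⊔ A ≤ X := sup_le (H1.pCoreOf_le X) hA.le
  have hV : X ≤ 𝐍(A ⊓ R) := fun g hg => mem_normalizer_of_conj_mem fun a ha =>
    have := conj_mem_of_mem_normalizer (hR hg) ha.2
    ⟨hA.sc _ h2 le_sup_right h3 g hg a ha.1 (mem_sup_left this), this⟩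
  have hE : X ≤ 𝐍(layerIn X) := le_normalizer.trans (H1.normalizer_le_normalizer_layerIn X)
  refine H1.le_pCoreOf (A := X ⊓ 𝐂(layerIn X) ⊓ (𝐂(A ⊓ R) ⊓ H1.centMod R (A ⊓ R)))
    (inf_le_left.trans inf_le_left) (H1.le_normalizer_inf (H1.le_normalizer_inf le_normalizer
      (H1.le_normalizer_centralizer hE)) (H1.le_normalizer_inf (H1.le_normalizer_centralizer hV)
        (le_normalizer_centMod hR hV)))
    (H5.isPGroup_of_forall_coprime fun y hy hc => ?_)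
    ⟨⟨hA.le hb, le_centralizer_iff.1 (H1.layerIn_le_iff.2 fun J a b => le_centralizer_iff.1
      (zpowers_le.2 (h1 J ⟨a, b⟩))) (mem_zpowers b)⟩, hA.el.le_cent' le_rfl inf_le_left hb,
      hV (hA.le hb), fun f hf => ⟨comm_mem_right (le_sup_left.trans
        (hA.le_norm h2 le_sup_right h3) hf) hb, comm_mem_left hf (hR (hA.le hb))⟩⟩
  rw [← Nat.card_zpowers] at hc
  refine zpowers_eq_bot.1 (h.eq_bot (zpowers_le.2 hy.1.1) (Nat.coprime_two_right.1 hc)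
    (fun J hJ => zpowers_le.2 (centralizer_le (H1.le_layerIn hJ.1 hJ.2) hy.1.2)) ?_)
  obtain ⟨k, hk⟩ := (H1.pCoreOf_isPGroup (p := 2) X).exists_card_eq
  rw [← le_centralizer_iff, ← comm_eq_bot_iff]
  refine commutator_eq_bot_of_commutator_commutator_eq_bot (zpowers_le.2 (hR hy.1.1))
    (hk ▸ hc.pow_right k) (comm_eq_bot_iff.2 (le_trans (commutator_le.2 fun f hf z hz => ?_)
      (le_centralizer_iff.1 (zpowers_le.2 hy.2.1))))
  exact (zpowers_le.2 hy.2.2 hz).2 f hf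

/-- (K4) -/
theorem Lo.le_genFit (h : Lo X) (hA : SCin A X) : A ≤ layerIn X ⊔ pCoreOf 2 X := by
  suffices H : ∀ n, ∀ a ∈ A, {J | TC X J ∧ a ∉ 𝐂(J)}.ncard = n → a ∈ layerIn X ⊔ pCoreOf 2 X from
    fun a ha => H _ a ha rfl
  intro n
  induction n using Nat.strong_induction_on with | _ n ih
  intro a ha hn
  by_cases h1 : ∀ J, TC X J → a ∈ 𝐂(J)
  · exact mem_sup_right (h.mem_pc hA ha h1)
  push Not at h1
  obtain ⟨J, hJ, h1⟩ := h1
  obtain ⟨Q, K, T, m, -⟩ := h.exists_mov' hA hJ fun e => h1 (e ha)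
  obtain ⟨t, ht, h2⟩ := m.dec a ha
  have h3 := m.syl.le (m.tle ht).2
  have h4 := ih _ (hn ▸ Set.ncard_lt_ncard (s := {J | TC X J ∧ t * a ∉ 𝐂(J)}) ⟨fun J' hJ' =>
    ⟨hJ'.1, fun e => by
      rcases hJ.eq_or hJ'.1 with rfl | e'
      · exact hJ'.2 h2
      · exact hJ'.2 (mul_mem (e' h3) e)⟩, fun e => (e ⟨hJ, h1⟩).2 h2⟩) _
    (mul_mem (m.tle ht).1 ha) rfl
  simpa using mul_mem (inv_mem (mem_sup_left (H1.le_layerIn hJ.1 hJ.2 h3))) h4

/-- `X` is generated by its components and `N_X(A)`. -/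
theorem Lo.gen (h : Lo X) (hA : SCin A X) {M : Subgroup G} (h1 : ∀ J, TC X J → J ≤ M)
    (h2 : X ⊓ 𝐍(A) ≤ M) : X ≤ M := by
  have := Fact.mk Nat.prime_two
  have h3 : layerIn X ⊔ pCoreOf 2 X ≤ X := sup_le (H1.layerIn_le X) (H1.pCoreOf_le X)
  obtain ⟨P, h4, hP⟩ := IsSylowIn.exists_ge hA.el.isPGroup (h.le_genFit hA)
  refine (hP.frattini_le h3 (H1.le_normalizer_sup (le_normalizer.trans
    (H1.normalizer_le_normalizer_layerIn X)) (H1.le_normalizer_pCoreOf X))).trans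
    (sup_le (sup_le (H1.layerIn_le_iff.2 fun J a b => h1 J ⟨a, b⟩) (le_trans (le_inf
      (H1.pCoreOf_le X) (hA.le_norm' (H1.pCoreOf_isPGroup X) (hA.le.trans
        (H1.le_normalizer_pCoreOf X)) (H1.pCoreOf_le X))) h2)) fun g hg =>
      h2 ⟨hg.1, hA.norm hP.isPGroup h4 (hP.le.trans h3) hg.1 hg.2⟩)

theorem Lo.bal (h : Lo X) (hA : SCin A X) {W : Subgroup G} {a : G} (ha : a ∈ A)
    (hW : W ≤ X ⊓ 𝐂[a]) (ho : Odd (Nat.card W)) (hc : W ≤ 𝐂(pCoreOf 2 (X ⊓ 𝐂[a])))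
    (hL : TC X L) (h1 : a ∉ 𝐂(L)) (hs : SzT (Zq L)) : W ≤ 𝐂(L) := by
  have := Fact.mk Nat.prime_two
  obtain ⟨Q, K, T, m, s⟩ := h.exists_smov hA hL (fun e => h1 (e ha)) hs
  obtain ⟨t, ht, h2⟩ := m.dec a ha
  have h3 : t ∉ 𝐂(L) := fun e => h1 (by simpa using mul_mem (inv_mem e) h2)
  have h4 : ∀ x ∈ L, x ∈ 𝐂[a] ↔ x ∈ 𝐂[t] := fun x hx => by
    have h5 : x ∈ 𝐂[t * a] := mem_cent1.2 (mem_cent.1 h2 x hx)
    rw [mem_cent1_comm] at h5 ⊢
    rw [mem_cent1_comm (y := x)]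
    exact ⟨fun e => by simpa using mul_mem h5 (inv_mem e), fun e => by
      simpa using mul_mem (inv_mem e) h5⟩
  have h5 : W ≤ 𝐂(L ⊓ (X ⊓ 𝐂[a])) := hc.trans (centralizer_le (H1.le_pCoreOf_of_subnormalIn
    (hL.1.inf inf_le_left) (m.syl.isPGroup.to_le fun x hx => s.cent t (m.tQ ht) h3 x hx.1 (by
      rw [commutatorElement_eq_one_iff_mul_comm.2 (mem_cent1'.1 ((h4 x hx.1).1 hx.2.2))]
      exact one_mem _))))
  have h6 : W ≤ 𝐂[t] := fun w hw => mem_cent1'.2 (mem_cent.1 (h5 hw) t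
    ⟨m.tL ht, hA.le (m.tA ht), hA.el.le_cent1 ha (m.tA ht)⟩)
  have h7 : ∀ w ∈ W, w * t * w⁻¹ = t := fun w hw => by
    rw [mem_cent1.1 (h6 hw), mul_inv_cancel_right]
  have h8 : W ≤ 𝐍(L) := fun w hw =>
    hL.mem_norm (le_normalizer (hW hw).1) (m.tL ht) h3 ((h7 w hw).symm ▸ m.tL ht)
  have h9 : W ≤ 𝐍(Q) := fun w hw => mem_normalizer_of_conj_mem fun x hx =>
    s.cent t (m.tQ ht) h3 _ (conj_mem_of_mem_normalizer (h8 hw) (m.syl.le hx)) (by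
      have := conj_mem_of_mem_normalizer (norm_le_norm_cent L (h8 hw))
        (m.cen t (m.tQ ht) (hA.el t (m.tA ht) ▸ one_mem _) x hx)
      rwa [conjugate_commutatorElement, h7 w hw] at this)
  have h10 := pxq (el_zpowers (hA.el t (m.tA ht))).isPGroup m.syl.isPGroup
    (Nat.coprime_two_right.2 ho) (zpowers_le.2 (le_normalizer (m.tQ ht))) h9
    (le_centralizer_iff.1 (h6.trans (cent_zpowers t).ge)) fun x hx => le_centralizer_iff.1 h5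
      ⟨m.syl.le hx.1, hL.le (m.syl.le hx.1), (h4 x (m.syl.le hx.1)).2 ((cent_zpowers t).le hx.2)⟩
  exact fun w hw => s.aut w (h8 hw) (odd_orderOf_of_mem ho hw) (le_centralizer_iff.1 h10 hw)

/-- Balance. -/
theorem Lo.od_cent (h : Lo X) (hA : SCin A X) (hg : Good A X) {a : G} (ha : a ∈ A) :
    Od (X ⊓ 𝐂[a]) = ⊥ := by
  have := Fact.mk Nat.prime_two
  have hc : Od (X ⊓ 𝐂[a]) ≤ 𝐂(pCoreOf 2 (X ⊓ 𝐂[a])) := comm_eq_bot_iff.1
    (H1.commutator_eq_bot_of_coprime ((Od_le _).trans (H1.le_normalizer_pCoreOf _))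
      ((H1.pCoreOf_le _).trans (le_norm_Od _))
      (coprime_of_two (H1.pCoreOf_isPGroup _) (odd_Od _)).symm)
  refine h.eq_bot ((Od_le _).trans inf_le_left) (odd_Od _) (fun J hJ => ?_)
    (Loc.bal_pc (hA.el a ha) (hA.le ha) (Od_le _) (odd_Od _) hc)
  by_cases e : a ∈ 𝐂(J)
  · exact (hJ.inf_cent1 e).Od_le
  · exact h.bal hA ha (Od_le _) (odd_Od _) hc hJ e (hg J hJ fun h => e (h ha))

/-- `L`-balance. -/
theorem Lo.lbal (h : Lo X) (hA : SCin A X) (hg : Good A X) {a : G} (ha : a ∈ A)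
    (hL : TC (X ⊓ 𝐂[a]) L) : TC X L := by
  have := Fact.mk Nat.prime_two
  by_contra h1
  refine hL.not_solv (solvable_of_isPGroup (p := 2) (H5.isPGroup_of_forall_coprime fun y hy hc => ?_))
  have h2 := zpowers_le.2 hy
  have ho : Odd (Nat.card (zpowers y)) := by rwa [Nat.card_zpowers, ← Nat.coprime_two_right]
  have h3 := h2.trans (le_centralizer_iff.1 (hL.pc_le 2))
  refine zpowers_eq_bot.1 (h.eq_bot (h2.trans (hL.le.trans inf_le_left)) ho (fun J hJ => ?_)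
    (Loc.bal_pc (hA.el a ha) (hA.le ha) (h2.trans hL.le) ho h3))
  by_cases e : a ∈ 𝐂(J)
  · rcases hL.eq_or (hJ.inf_cent1 e) with rfl | e'
    · exact absurd hJ h1
    · exact h2.trans e'
  · exact h.bal hA ha (h2.trans hL.le) ho h3 hJ e (hg J hJ fun h => e (h ha))

theorem Lo.good_of_bar (h : Lo X) (hA : A ≤ X) (hg : Good (im X A) ⊤) : Good A X :=
  fun L hL hm => by
    obtain ⟨f⟩ := nonempty_equiv_im h.od hL.le
    obtain ⟨e⟩ := zq_congr f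
    refine SzT.of_equiv (hg _ hL.bar fun h1 => hm ?_) e.symm
    rwa [im_le_cent hA hL.le, h.od, le_bot_iff, comm_eq_bot_iff] at h1

/-- The subgroup generated by the elements of `Zs` in a Sylow subgroup is strongly closed. -/
theorem scin_zs (hZ : ZC Zs) (hP : IsSylowIn 2 P X) : SCin (zs Zs P) X :=
  ⟨fun _ h => hZ.zs_sq hP.isPGroup h, (zs_le _ _).trans hP.le, fun R hR h1 h2 g _ a ha h3 => by
    rcases (hZ.mem_zs hP.isPGroup).1 ha with rfl | h4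
    · simp
    · exact (hZ.zs_eq hP hR h2 h1).le (mem_zs_of (hZ.conj a h4.1 g) h3)⟩

end CfsgLib.HI
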