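import Cfsg.Agent.Lib.HI.BCtx
import Cfsg.Agent.Lib.HI.Lo

/-!
# Step B2: the point stabilizers when their odd cores are trivial
-/

set_option autoImplicit false

namespace CfsgLib.HI

open Subgroup MulAction Cfsg CfsgLib.FT CfsgLib.FT.BGN CfsgLib.Cop CfsgLib.GW CfsgLib.Wal CfsgLib.GO
open CfsgLib.SE (IsInv)
open CfsgLib.H1 (AbTwo)
open CfsgLib.FT.U4 (mem_cent1 mem_cent1' mem_cent1_comm eq_one_of_mem_inf norm_le_norm_cent)

universe u

theorem Lo.exists_mov_dec {G : Type u} [Group G] [Finite G] {X A L P : Subgroup G} (h : Lo X)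
    (hA : SCin A X) (hL : TC X L) (hm : ¬ A ≤ 𝐂(L)) (hP : IsSylowIn 2 P X) (h1 : A ≤ P) :
    ∃ Y K T, Mov Y A L (P ⊓ L) K T ∧
      ∀ u ∈ P, u * u = 1 → u ∈ 𝐂(T) → ∃ t ∈ T, t⁻¹ * u ∈ 𝐂(L) := by
  have sq : ∀ u : G, u * u = 1 → u ^ 2 ^ 1 ∈ 𝐂(L) := fun u uu => by
    rw [pow_one, sq, uu]; exact one_mem _
  rcases h.kn L hL with e | e
  · obtain ⟨K, T, m, -⟩ := h.exists_mov hA hL hm hP h1
    exact ⟨_, K, T, m, fun u hu uu h2 =>
      mov_dec m hA.el e (mov_norm m hL (le_normalizer (hP.le hu)) h2) h2 (sq u uu)⟩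
  obtain ⟨K, T, m, -⟩ := h.exists_smov' hA hL hm e hP h1
  refine ⟨_, K, T, m, fun u hu uu h2 => ?_⟩
  have h3 := mov_norm m hL (le_normalizer (hP.le hu)) h2
  obtain ⟨l, hl, h4, h5⟩ := m.toTor.dec (hP.le hu) h3 (H1.le_normalizer_inf
    (zpowers_le.2 (le_normalizer hu)) (zpowers_le.2 h3) (mem_zpowers u)) (sq u uu)
  obtain ⟨t, ht, h6⟩ := m.cov l hl (by rwa [pow_one, _root_.sq] at h5)
  refine ⟨t, ht, ?_⟩
  simpa [mul_assoc] using mul_mem (conj_mem_of_mem_normalizer'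
    (norm_le_norm_cent L (le_normalizer (m.tL ht))) h6) h4

namespace BX

variable {G Ω : Type u} [Group G] [Finite G] [MulAction G Ω] {Zs Z : Set G} (h : BX G Ω Zs Z)
  (hO : ∀ a : Ω, Od (stabilizer G a) = ⊥)
include h hO

theorem lo (a : Ω) : Lo (stabilizer G a) := h.mh.lo (h.stab_ne_top a) (hO a)

variable {u : G} (hu : IsInv u) (hu2 : u ∉ Z) {a : Ω}
include hu hu2

theorem zs_le_cent {S L : Subgroup G} (hS : IsSylowIn 2 S (stabilizer G a))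
    (hL : TC (stabilizer G a) L) : zs Z S ≤ 𝐂(L) := by
  have := Fact.mk Nat.prime_two
  by_contra hm
  have sc := scin_zs h.zc hS
  obtain ⟨Y, K, T, m, dec⟩ := (h.lo hO a).exists_mov_dec sc hL hm hS (zs_le _ _)
  obtain ⟨g, -, h1⟩ := (h.sylow_top hS).exists_conj_le (Invol.isPGroup_zpowers hu.1) le_top
  have h2 : g * u * g⁻¹ ∈ S := h1 (conj_mem_map_conj (mem_zpowers u))
  have h3 := hu.conj g
  have h4 := h.cen.mem hS.isPGroup h2 h3.1
  obtain ⟨t, ht, h5⟩ := dec _ h2 h3.1 (centralizer_le m.tA h4)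
  have h6 := U4.mem_cent.1 h4 t (m.tA ht)
  obtain ⟨h7, h8⟩ := h.mul_not_mem h3 (fun e => hu2 (h.conj_iff.1 e))
    (((h.mem_zs hS.isPGroup).1 (m.tA ht)).imp id And.left) h6
  rw [sc.el.inv (m.tA ht), h6] at h5
  have h9 : g * u * g⁻¹ * t ∈ stabilizer G a := hS.le (mul_mem h2 (zs_le _ _ (m.tA ht)))
  generalize g * u * g⁻¹ * t = w at h5 h7 h8 h9
  have hw : L ≤ 𝐂[w] := fun x hx => mem_cent1.2 (U4.mem_cent.1 h5 x hx)
  obtain ⟨s, hs, s1⟩ := m.exists_ne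
  have sZ := h.mem_of_zs hS.isPGroup (m.tA hs) s1
  have c1 : L ⊓ Nw Ω w ≤ 𝐂(L) := ((SubnormalIn.of_le_normalizer inf_le_left (H1.le_normalizer_inf
    le_normalizer (hw.trans (cent_le_norm_Nw w)))).eq_or_le_centralizer hL.2).resolve_left
      fun e => h.not_mem_Nw h7 h8 sZ (e.ge (m.tL hs)).2
  have c2 : zs Z L ≤ 𝐂(zs Z L) := (closure_le _).2 fun z hz => by
    rw [zs, centralizer_closure]
    intro y hy
    have h10 := mul_mem hy.2 hz.2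
    obtain ⟨n, hn⟩ := hL.two_center (hO a) ⟨_, mem_inf.2 ⟨mul_mem h10 h10, c1 (mem_inf.2
      ⟨mul_mem h10 h10, (h.lm h7 h8).zz y hy.1 z hz.1 (hw hy.2) (hw hz.2) a h9 (hL.le hy.2)
        (hL.le hz.2)⟩)⟩⟩
    exact h.comm_of_two hy.1 hz.1 (H1.isPGroup_zpowers_of_pow (k := n + 1) (by
      rw [pow_succ', pow_mul, sq]; exact congrArg Subtype.val hn))
  exact m.notMem hs s1 (hL.cent ((zs_le _ _).trans hL.le) (solv_of_le_cent c2)
    (le_normalizer.trans (h.norm_zs L)) (mem_zs_of sZ (m.tL hs)))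

theorem mem_pc {z : G} (hz : z ∈ Z) (h1 : z • a = a) : z ∈ pCoreOf 2 (stabilizer G a) := by
  have := Fact.mk Nat.prime_two
  obtain ⟨S, h2, hS⟩ := IsSylowIn.exists_ge (Invol.isPGroup_zpowers (h.sq hz))
    (zpowers_le.2 (show z ∈ stabilizer G a from h1))
  have h3 := mem_zs_of hz (h2 (mem_zpowers z))
  exact (h.lo hO a).mem_pc (scin_zs h.zc hS) h3 fun J hJ => h.zs_le_cent hO hu hu2 hS hJ h3

omit h hO hu hu2 in
theorem two_sup {x : G} (hx : x * x = 1) (h2 : x • a = a) :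
    IsPGroup 2 ↥(pCoreOf 2 (stabilizer G a) ⊔ zpowers x) :=
  haveI := Fact.mk Nat.prime_two
  isPGroup_sup' (zpowers_le.2 (H1.le_normalizer_pCoreOf _ (show x ∈ stabilizer G a from h2)))
    (H1.pCoreOf_isPGroup _) (Invol.isPGroup_zpowers hx)

theorem na {z x : G} (hz : z ∈ Z) (h1 : z • a = a) (hx : x * x = 1) (h2 : x • a = a) :
    x * z = z * x :=
  h.cen _ (two_sup hx h2) z hz (mem_sup_left (h.mem_pc hO hu hu2 hz h1)) x
    (mem_sup_right (mem_zpowers x)) hx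

theorem not_tc {L : Subgroup G} (hL : TC (stabilizer G a) L) : False := by
  have := Fact.mk Nat.prime_two
  obtain ⟨S, hS⟩ := IsSylowIn.exists_in (p := 2) (stabilizer G a)
  have hV := h.zs_le_cent hO hu hu2 hS hL
  have l := h.lo hO a
  have sc := scin_zs h.mh.pc.toZC hS
  have mx : Mx Z (zs Z S) := ⟨S, h.sylow_top hS, rfl⟩
  have hm : ¬ zs Zs S ≤ 𝐂(L) := fun e => by
    obtain ⟨K, hK, -⟩ := l.exists_tor hL (hL.sylow hS)
    obtain ⟨x, hx, -, -, x1, -, -, xx, -⟩ := hK.two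
    obtain ⟨k, hk, h1⟩ := hK.exists_move hx x1 xx
    have := U4.mem_cent.1 (h.mh.pc.cent_of_odd hK.syl.isPGroup (odd_orderOf_of_mem hK.odd hk)
      (hK.norm hk) fun y hy hy' =>
        (U4.mem_cent.1 (e (mem_zs_of hy' hy.1)) k (hK.le hk)).symm) x hx
    rw [← this] at h1
    exact h1 (by simp)
  have key : ∀ {Y K T}, Mov Y (zs Zs S) L (S ⊓ L) K T → ∀ t ∈ T, t ≠ 1 →
      IsInv t ∧ t ∉ Z ∧ zs Z S ≤ 𝐂[t] := fun m t ht t1 =>
    ⟨⟨sc.el t (m.tA ht), t1⟩, fun e => m.notMem ht t1 (hV (mem_zs_of e (m.tQ ht).1)),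
      fun v hv => mem_cent1'.2 (U4.mem_cent.1 (hV hv) t (m.tL ht))⟩
  rcases l.kn L hL with e | e
  · obtain ⟨K, T, m, -⟩ := l.exists_mov sc hL hm hS (zs_le _ _)
    obtain ⟨t, ht, t1⟩ := m.exists_ne
    obtain ⟨b1, b2, b3⟩ := key m t ht t1
    obtain ⟨P, -, F⟩ := mx.exists_fl b1 b2 b3 (R := ⊥) IsPGroup.of_bot bot_le
    obtain ⟨v, hv, v1, -⟩ := h.exists_third mx 1 1
    obtain ⟨w, hw, w1, h1, -⟩ := h.exists_third mx v v
    obtain ⟨y, hy, h2, -⟩ := h.cyc (F.mul h.zc hv)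
    obtain ⟨i, rfl⟩ := h2 v hv w hw v1 w1
    have h3 := pow_mem hy i
    generalize y ^ i = k at h1 h3 hw
    have h4 : k * t * k⁻¹ = t * (v * (k * v * k⁻¹)⁻¹) := by
      rw [← mul_assoc, eq_mul_inv_iff_mul_eq, _root_.conj_mul, mem_cent1.1 h3.1,
        mul_inv_cancel_right]
    have h5 := hV (mul_mem hv (inv_mem hw))
    have h6 := conj_mem_map_conj (g := k) (m.tL ht)
    rw [h4] at h6
    rcases (hL.cj' (le_normalizer (h.norm_zs_le (mx.memZ h.zc hv v1) (zs_le _ _ hv) hS.le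
      h3.2))).eq_or hL with e' | e'
    · exact h1 (mul_inv_eq_one.1 (eq_one_of_mem_inf (mov_zbot m sc.el e)
        ((mul_mem_cancel_left (m.tL ht)).1 (e'.le h6)) h5)).symm
    · exact m.notMem ht t1 ((mul_mem_cancel_right h5).1 (e' h6))
  · obtain ⟨K, T, m, s⟩ := l.exists_smov' sc hL hm e hS (zs_le _ _)
    obtain ⟨x, hx, -, -, -, -, xx, -⟩ := s.three
    obtain ⟨t, ht, h1⟩ := m.cov _ (mul_mem hx hx) (s.sq x hx)
    obtain ⟨b1, b2, b3⟩ := key m t ht fun e => xx (by simpa [e] using h1)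
    have h2 : x ∈ 𝐂[t] := mem_cent1_comm.1 (by
      have h2 : x * x ∈ 𝐂[x] := mem_cent1.2 (mul_assoc _ _ _)
      simpa [mul_assoc] using mul_mem (inv_mem (mem_cent1'.2 (U4.mem_cent.1 h1 x hx.2))) h2)
    obtain ⟨P, h3, F⟩ := mx.exists_fl b1 b2 b3 (hS.isPGroup.to_le (zpowers_le.2 hx.1))
      (zpowers_le.2 (mem_inf.2 ⟨h2, le_centralizer_iff.1 hV hx.2⟩))
    exact xx (hV (h.sq_P F (h3 (mem_zpowers x))))

theorem mem_pc' {x : G} (hx : x • a = a)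
    (h1 : ∀ z ∈ Zs, z ∈ pCoreOf 2 (stabilizer G a) → z * x = x * z) :
    x ∈ pCoreOf 2 (stabilizer G a) := by
  have := Fact.mk Nat.prime_two
  set M := stabilizer G a
  have hR : M ≤ 𝐍(pCoreOf 2 M) := H1.le_normalizer_pCoreOf M
  refine H1.le_pCoreOf (A := M ⊓ 𝐂(zs Zs (pCoreOf 2 M))) inf_le_left
    (H1.le_normalizer_inf le_normalizer (H1.le_normalizer_centralizer
      (hR.trans (h.mh.pc.norm_zs _)))) (H5.isPGroup_of_forall_coprime fun y hy hc => ?_)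
    (mem_inf.2 ⟨hx, by rw [zs, centralizer_closure]; exact fun z hz => h1 z hz.1 hz.2⟩)
  have ho := Nat.coprime_two_right.1 hc
  refine zpowers_eq_bot.1 ((h.lo hO a).eq_bot (zpowers_le.2 hy.1) (by rwa [Nat.card_zpowers])
    (fun J hJ => (h.not_tc hO hu hu2 hJ).elim) (zpowers_le.2 ?_))
  exact h.mh.pc.cent_of_odd (H1.pCoreOf_isPGroup M) ho (hR hy.1) fun z hz hz' =>
    U4.mem_cent.1 (mem_inf.1 hy).2 z (mem_zs_of hz' hz)

theorem exists_u : ∃ u, IsInv u ∧ u ∉ Z ∧ ∀ (a : Ω) (g k : G), (g * u * g⁻¹) • a = a →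
    (k * u * k⁻¹) • a = a → g * u * g⁻¹ * (k * u * k⁻¹) = k * u * k⁻¹ * (g * u * g⁻¹) := by
  obtain ⟨w, h1, h2, h3⟩ : ∃ w, IsInv w ∧ w ∉ Z ∧ ∀ (a : Ω) (g : G), (g * w * g⁻¹) • a = a →
      g * w * g⁻¹ ∈ pCoreOf 2 (stabilizer G a) := by
    by_cases e : ∃ w ∈ Zs, w ∉ Z
    · obtain ⟨w, h1, h2⟩ := e
      have h3 := h.mh.pc.inv w h1
      exact ⟨w, h3, h2, fun a g h4 => h.mem_pc' hO hu hu2 h4 fun z hz h5 =>
        h.mh.pc.zs_comm (two_sup (h3.conj g).1 h4) (mem_zs_of hz (mem_sup_left h5))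
          (mem_zs_of (h.mh.pc.conj w h1 g) (mem_sup_right (mem_zpowers _)))⟩
    · push Not at e
      exact ⟨u, hu, hu2, fun a g h4 => h.mem_pc' hO hu hu2 h4 fun z hz h5 =>
        (h.cen _ (two_sup (hu.conj g).1 h4) z (e z hz) (mem_sup_left h5) _
          (mem_sup_right (mem_zpowers _)) (hu.conj g).1).symm⟩
  refine ⟨w, h1, h2, fun a g k h4 h5 => ?_⟩
  have e : g * k⁻¹ * (k * w * k⁻¹) * (g * k⁻¹)⁻¹ = g * w * g⁻¹ := by group
  have := h.com (g := g * k⁻¹) (H1.pCoreOf_isPGroup _) (h3 a k h5) (h1.conj k).1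
    (by rw [e]; exact h3 a g h4)
  rwa [e] at this

end BX

end CfsgLib.HI
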