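import Cfsg.Agent.Lib.GOB.Big
import Cfsg.Agent.Lib.Gol.Tor
import Cfsg.Agent.Lib.Wal.Walter
import Cfsg.Agent.Lib.SEB.Main

/-!
# Step B2: a normal subgroup `L₂(2ⁿ)` or `Sz(2ⁿ)` acting on a line
-/

set_option autoImplicit false
set_option linter.unusedSectionVars false

namespace CfsgLib.HI

open Subgroup MulAction Cfsg CfsgLib.H1 CfsgLib.SE CfsgLib.Suz CfsgLib.GO

universe u

/-- The facts needed on a Suzuki `2`-group. -/
structure SzP {K : Type*} [Group K] (Q : Subgroup K) : Prop where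
  card : Nat.card Q = Nat.card (Q0g Q) ^ 2
  eight : 8 ≤ Nat.card (Q0g Q)
  sq : ∀ x ∈ Q, x * x * (x * x) = 1
  inj : ∀ x ∈ Q, ∀ y ∈ Q, x * x = y * y → x⁻¹ * y * (x⁻¹ * y) = 1
  comm : ∀ x ∈ Q, ∀ y ∈ Q, x * y = y * x → x * x = 1 ∨ y * y = 1 ∨ x * x = y * y
  surj : ∀ a ∈ Q, a * a = 1 → ∃ x ∈ Q, x * x = a

section
variable {K : Type*} [Group K] [Finite K] {H Q : Subgroup K} {t : K}

theorem szP_of_zt (Z : ZT H Q t) (hn : ¬ ∀ x ∈ Q, x * x = 1) : SzP Q := by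
  have R := Z.toRO
  have h2 := Z.rank2
  obtain ⟨s, r, hs⟩ := R.exists_dist
  obtain ⟨hp, h | ⟨hna, hc, hr⟩ | ⟨-, -, -, w, hw, h3, x, hx, h4⟩⟩ := R.suzuki h2 hs
  · exact absurd h hn
  swap
  · exact absurd (by_contra fun e => hs.s_ne (Z.fpf hw e hs.s_mem (h3 s hs.s_mem hs.ss).symm))
      fun e : w = 1 => h4 (by simp [e])
  obtain ⟨n, hn, hq⟩ := R.exists_card_Q0 h2
  have ho := R.odd_of_order_four h2 hs hr hq
  obtain ⟨F, _, _, _, θ, χ, e, -, C, hθ⟩ := R.exists_coord_sz h2 hp hna hc hs hr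
  have sq : ∀ a b, e a b * e a b = e 0 (a * θ a) := fun a b => by
    rw [C.mul, CharTwo.add_self_eq_zero, CharTwo.add_self_eq_zero, zero_add]
  have z : ∀ b, e 0 b * e 0 b = 1 := fun b => by rw [sq, zero_mul, C.e_zero]
  refine ⟨hc, ?_, fun x hx => ?_, fun x hx y hy e1 => ?_, fun x hx y hy e1 => ?_,
    fun a ha e1 => ?_⟩
  · obtain ⟨k, rfl⟩ := ho
    rw [hq]
    exact Nat.pow_le_pow_right (i := 3) two_pos (by omega)
  · obtain ⟨a, b, rfl⟩ := C.surj x hx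
    rw [sq, z]
  · obtain ⟨a, b, rfl⟩ := C.surj x hx
    obtain ⟨c, d, rfl⟩ := C.surj y hy
    rw [sq, sq] at e1
    obtain rfl : a = c := C.N_inj R hs (C.inj _ _ _ _ e1).2
    rw [C.e_inv, C.mul, CharTwo.add_self_eq_zero, z]
  · obtain ⟨a, b, rfl⟩ := C.surj x hx
    obtain ⟨c, d, rfl⟩ := C.surj y hy
    by_cases ha : a = 0
    · exact Or.inl (ha ▸ z b)
    by_cases hc0 : c = 0
    · exact Or.inr (Or.inl (hc0 ▸ z d))
    rw [C.mul, C.mul] at e1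
    have e2 : a * θ c = c * θ a := by linear_combination (C.inj _ _ _ _ e1).2
    have e3 : θ (a / c) = a / c := by
      have : θ c ≠ 0 := (map_ne_zero θ).2 hc0
      rw [map_div₀, div_eq_div_iff this hc0]
      linear_combination -e2
    have e4 := hθ (a / c)
    rw [e3, e3, pow_two, eq_comm, mul_eq_left₀ (div_ne_zero ha hc0), div_eq_one_iff_eq hc0] at e4
    rw [sq, sq, e4]
    exact Or.inr (Or.inr rfl)
  · by_cases h1 : a = 1
    · exact ⟨1, one_mem _, by simp [h1]⟩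
    obtain ⟨k, hk, rfl⟩ := R.exists_K_conj hs ha h1 e1
    exact ⟨k⁻¹ * r * k, R.norm k (Dg_le hk.1) r hs.r_mem, by rw [← hr]; group⟩

theorem Q0g_map {L : Type*} [Group L] {f : K →* L} (hf : Function.Injective f) :
    Q0g (Q.map f) = (Q0g Q).map f := by
  rw [Q0g, Q0g, MonoidHom.map_closure]
  congr 1
  ext y
  refine ⟨?_, ?_⟩
  · rintro ⟨⟨x, hx, rfl⟩, e⟩
    exact ⟨x, ⟨hx, hf (by simpa using e)⟩, rfl⟩
  · rintro ⟨x, ⟨hx, e⟩, rfl⟩
    exact ⟨⟨x, hx, rfl⟩, by rw [← map_mul, e, map_one]⟩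

theorem SzP.map (h : SzP Q) {L : Type*} [Group L] {f : K →* L} (hf : Function.Injective f) :
    SzP (Q.map f) where
  card := by rw [Q0g_map hf, card_map_of_injective hf, card_map_of_injective hf, h.card]
  eight := by rw [Q0g_map hf, card_map_of_injective hf]; exact h.eight
  sq := by
    rintro _ ⟨x, hx, rfl⟩
    simpa using congrArg f (h.sq x hx)
  inj := by
    rintro _ ⟨x, hx, rfl⟩ _ ⟨y, hy, rfl⟩ e
    simpa using congrArg f (h.inj x hx y hy (hf (by simpa using e)))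
  comm := by
    rintro _ ⟨x, hx, rfl⟩ _ ⟨y, hy, rfl⟩ e
    exact (h.comm x hx y hy (hf (by simpa using e))).imp (fun e => by simpa using congrArg f e)
      (Or.imp (fun e => by simpa using congrArg f e) fun e => by simpa using congrArg f e)
  surj := by
    rintro _ ⟨a, ha, rfl⟩ e
    obtain ⟨x, hx, rfl⟩ := h.surj a ha (hf (by simpa using e))
    exact ⟨f x, ⟨x, hx, rfl⟩, by simp⟩

theorem SzP.cent_of_odd (S : SzP Q) {h : K} (hn : ∀ x ∈ Q, h * x * h⁻¹ ∈ Q) (ho : Odd (orderOf h))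
    (h0 : ∀ a ∈ Q, a * a = 1 → h * a = a * h) {x : K} (hx : x ∈ Q) : h * x = x * h := by
  have h1 := hn x hx
  have h2 := S.inj x hx _ h1 (by
    rw [conj_mul, h0 _ (mul_mem hx hx) (S.sq x hx), mul_inv_cancel_right])
  have h3 := h0 _ (mul_mem (inv_mem hx) h1) h2
  refine comm_of_sq_comm ho ?_
  set c := x⁻¹ * (h * x * h⁻¹) with hc
  have h4 : h * x = x * c * h := by rw [hc]; group
  calc h * h * x = h * (x * c * h) := by rw [mul_assoc, h4]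
    _ = h * x * c * h := by group
    _ = x * c * (h * c) * h := by rw [h4]; group
    _ = x * (c * c) * (h * h) := by rw [h3]; group
    _ = x * (h * h) := by rw [h2, mul_one]

theorem szT_of_equiv (h : SzT K) {L : Type*} [Group L] (e : K ≃* L) : SzT L := by
  obtain ⟨H, Q, t, Z, hn⟩ := h
  have R := Z.toRO
  have hk : e.toMonoidHom.ker ≤ H := by
    rw [(MonoidHom.ker_eq_bot_iff _).2 e.injective]; exact bot_le
  refine ⟨H.map _, _, _, ⟨R.map _ hk e.surjective, ?_, ?_⟩, fun h => hn fun x hx => ?_⟩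
  · rw [RO.Dg_map _ hk]
    rintro _ ⟨d, hd, rfl⟩
    rw [← map_mul, ← map_mul, Z.inv d hd, map_inv]
  · rw [RO.Dg_map _ hk, Ne, map_eq_bot_iff_of_injective _ e.injective]
    exact Z.ne
  · exact e.injective (by simpa using h _ ⟨x, hx, rfl⟩)

/-- The known simple groups have one class of involutions. -/
theorem one_cl [IsSimpleGroup K] (hna : ¬ IsMulCommutative K) (h : AbTwo K ∨ SzT K) {u v : K}
    (hu : IsInv u) (hv : IsInv v) : ∃ g, g * u * g⁻¹ = v := by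
  rcases h with h | ⟨H, Q, t, Z, -⟩
  · obtain ⟨g, -, e⟩ := (Wal.kt_of_simple h (K := ⊤) topEquiv.isSimpleGroup fun e => hna
      ⟨⟨fun x y => congrArg Subtype.val (e.is_comm.comm ⟨x, trivial⟩ ⟨y, trivial⟩)⟩⟩).one
      u trivial v trivial hu.orderOf hv.orderOf
    exact ⟨g, e⟩
  · obtain ⟨g, rfl⟩ := Z.toRO.invol_conj_t hu.2 hu.1
    obtain ⟨k, rfl⟩ := Z.toRO.invol_conj_t hv.2 hv.1
    exact ⟨k⁻¹ * g, by group⟩

end

theorem exists_zt {K Δ : Type u} [Group K] [Finite K] [IsSimpleGroup K] [MulAction K Δ]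
    (hna : ¬ IsMulCommutative K) (h : AbTwo K ∨ SzT K) {Z : Set K} (S : ZS K Δ Z)
    (hf : ∀ g : K, (∀ δ : Δ, g • δ = δ) → g = 1) :
    (∀ u, IsInv u → u ∈ Z) ∧ ∀ δ : Δ, ∃ Q t, ZT (stabilizer K δ) Q t := by
  have hZ : ∀ u, IsInv u → u ∈ Z := fun u hu => by
    obtain ⟨a, ha, -⟩ := S.f4_top
    obtain ⟨g, rfl⟩ := one_cl hna h (S.inv a ha) hu
    exact S.conj a ha g
  refine ⟨hZ, fun δ => ?_⟩
  obtain ⟨Q, t, R, h2⟩ := SEB.exists_RO K Δ (S.sea hZ) S.rk2 hf δ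
  obtain ⟨s, r, hs⟩ := R.exists_dist
  obtain ⟨hp, h1 | ⟨hna, hc, hr⟩ | ⟨hna, -, -, w, hw, h3, x, hx, h4⟩⟩ := R.suzuki h2 hs
  · exact ⟨Q, t, { R with inv := (R.simple_of_sq h2 h1).1, ne := R.D_ne_bot h2 }⟩
  · exact ⟨Q, t, { R with
      inv := R.inv_of_closed h2 (R.typeA_K h2 hp hna hc hs hr), ne := R.D_ne_bot h2 }⟩
  · rcases h with h | h
    · exact absurd (h Q hp) hna
    obtain ⟨H', t', Z', -⟩ := h.exists_zt (Q := Q)
      ⟨le_top, hp, by rw [relIndex_top_right]; exact R.odd_index_Q.not_two_dvd_nat⟩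
    rw [R.eq_one_of_mem_D (Z'.mem_Q_of_comm hs.s_mem hs.s_ne (h3 s hs.s_mem hs.ss)) hw] at h4
    simp at h4

/-- The local structure at the point `δ`. -/
structure PL {H Δ : Type*} [Group H] [MulAction H Δ] (δ : Δ) (J Q : Subgroup H) : Prop where
  p2 : IsPGroup 2 Q
  mem : ∀ x, x ∈ Q ↔ x ∈ J ∧ x • δ = δ ∧ IsPGroup 2 (zpowers x)
  semi : ∀ x ∈ Q, ∀ ε, ε ≠ δ → x • ε = ε → x = 1
  card : Nat.card Δ = Nat.card Q + 1
  cen : ∀ a ∈ Q, a * a = 1 → ∀ x ∈ Q, a * x = x * a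
  inn : ∀ x, IsPGroup 2 (zpowers x) → x • δ = δ → (∀ a ∈ Q, a * a = 1 → x * a = a * x) → x ∈ Q
  oddc : ∀ x, Odd (orderOf x) → (∀ a ∈ Q, a * a = 1 → x * a = a * x) → x = 1
  cyc : ∃ k ∈ J, k • δ = δ ∧
    (∀ a ∈ Q, ∀ b ∈ Q, IsInv a → IsInv b → ∃ i : ℕ, k ^ i * a * (k ^ i)⁻¹ = b) ∧
    ∀ g ∈ J, g • δ = δ → ∃ i : ℕ, ∀ a ∈ Q, a * a = 1 → g * a * g⁻¹ = k ^ i * a * (k ^ i)⁻¹
  typ : (∀ x ∈ Q, x * x = 1) ∨ (SzP Q ∧ ∀ x, IsPGroup 2 (zpowers x) → x ∈ J)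

theorem isPGroup_zpowers_coe {G : Type*} [Group G] {J : Subgroup G} {x : J} :
    IsPGroup 2 (zpowers (x : G)) ↔ IsPGroup 2 (zpowers x) :=
  ⟨fun h => isPGroup_zpowers_map (MonoidHom.id J) h, fun h => by
    have := h.map J.subtype
    rwa [MonoidHom.map_zpowers] at this⟩

theorem exists_pl {H Δ : Type u} [Group H] [Finite H] [MulAction H Δ] {Z : Set H} (S : ZS H Δ Z)
    (hf : ∀ g : H, (∀ δ : Δ, g • δ = δ) → g = 1) {J : Subgroup H} [hJ : J.Normal]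
    (hZ : ∀ z ∈ Z, z ∈ J) [IsSimpleGroup J] (hna : ¬ IsMulCommutative J) (h : AbTwo J ∨ SzT J) :
    (∀ u ∈ J, IsInv u → u ∈ Z) ∧ ∀ δ : Δ, ∃ Q, PL δ J Q := by
  have tr : ∀ α β : Δ, ∃ m ∈ J, β = m • α := fun α β => by
    by_cases e : α = β
    · exact ⟨1, one_mem _, by simp [e]⟩
    obtain ⟨a, ha, a1⟩ := S.exists_fix α
    obtain ⟨b, hb, b1⟩ := S.exists_fix β
    obtain ⟨t, -, t1, -, t2, -⟩ := S.exists_swap' ha hb a1 b1 e (hZ a ha) (hZ b hb)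
    exact ⟨t, t1, t2.symm⟩
  have cent : ∀ x : H, (∀ y ∈ J, x * y = y * x) → x = 1 := fun x e => hf x fun δ => by
    obtain ⟨a, ha, a1⟩ := S.exists_fix δ
    exact S.fix_of_comm ha a1 (e a (hZ a ha))
  obtain ⟨α, -⟩ := S.nontriv
  have hf' : ∀ g : J, (∀ δ : Δ, g • δ = δ) → g = 1 := fun g e => Subtype.ext (hf g e)
  have S' := S.red (f := MonoidHom.id J) (j := id) ⟨Function.surjective_id, Function.injective_id,
    fun _ _ => rfl, ⟨α, rfl⟩, tr α, hf'⟩ (fun e => by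
      obtain ⟨β, hβ⟩ := S.exists_ne α
      obtain ⟨m, hm, rfl⟩ := tr α β
      exact hβ (e hm)) (by
      obtain ⟨a, ha, b, hb, h1, h2, h3⟩ := S.f4 α
      exact ⟨a, ha, b, hb, ⟨hZ a ha, h1⟩, ⟨hZ b hb, h2⟩, h3⟩)
  obtain ⟨h1, h2⟩ := exists_zt hna h S' hf'
  have h3 : ∀ u ∈ J, IsInv u → u ∈ Z := fun u hu e => by
    obtain ⟨x, hx, e'⟩ := h1 ⟨u, hu⟩ ⟨Subtype.ext e.1, fun e' => e.2 (congrArg Subtype.val e')⟩
    obtain rfl : x = ⟨u, hu⟩ := e'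
    exact hx
  refine ⟨h3, fun δ => ?_⟩
  obtain ⟨Q, t, T⟩ := h2 δ
  have R := T.toRO
  have r2 := T.rank2
  obtain ⟨s, r, hs⟩ := R.exists_dist
  have mem : ∀ x, x ∈ Q.map J.subtype ↔ x ∈ J ∧ x • δ = δ ∧ IsPGroup 2 (zpowers x) := fun x =>
    ⟨by
      rintro ⟨x, hx, rfl⟩
      exact ⟨x.2, R.le hx, isPGroup_zpowers_coe.2 (isPGroup_zpowers_of_mem T.isPGroup hx)⟩,
    fun ⟨a, b, c⟩ => ⟨⟨x, a⟩, mem_Q_of_two R b (isPGroup_zpowers_coe.1 c), rfl⟩⟩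
  have pts : ∀ ε, ε ≠ δ → ∃ y ∈ Q, ε = y • t • δ := fun ε e => by
    obtain ⟨m, hm, rfl⟩ := tr δ ε
    obtain ⟨a, ha, y, hy, e'⟩ := R.canon (⟨m, hm⟩ : J)⁻¹ fun e' => e (inv_mem_iff.1 e')
    refine ⟨y⁻¹, inv_mem hy, ?_⟩
    have e1 : (⟨m, hm⟩ : J) = y⁻¹ * t * a⁻¹ := by rw [← inv_inv (⟨m, hm⟩ : J), e']; simp [R.t_inv, mul_assoc]
    change (⟨m, hm⟩ : J) • δ = _
    rw [e1, mul_smul, mul_smul, show a⁻¹ • δ = δ from inv_mem ha]
  have cen : ∀ a ∈ Q.map J.subtype, a * a = 1 → ∀ x ∈ Q.map J.subtype, a * x = x * a := by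
    rintro _ ⟨a, ha, rfl⟩ e _ ⟨x, hx, rfl⟩
    exact congrArg Subtype.val (R.invol_central r2 ha (Subtype.ext e) hx)
  have fix : ∀ x : H, (∀ a ∈ Q.map J.subtype, a * a = 1 → x * a = a * x) → x • δ = δ :=
    fun x e => S.fix_of_comm (h3 s s.2 ⟨congrArg Subtype.val hs.ss,
      fun e => hs.s_ne (Subtype.ext e)⟩) (R.le hs.s_mem)
      (e s ⟨s, hs.s_mem, rfl⟩ (congrArg Subtype.val hs.ss))
  have el : (∀ x ∈ Q, x * x = 1) → ∀ x : H, (∀ a ∈ Q.map J.subtype, a * a = 1 → x * a = a * x) →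
      x ∈ Q.map J.subtype := fun hQ x e => by
    have sq : ∀ y ∈ Q, (y : H) * y = 1 := fun y hy => congrArg Subtype.val (hQ y hy)
    obtain ⟨y, hy, e1⟩ := pts (x • t • δ) fun e1 => R.t_notMem
      (smul_left_cancel x (e1.trans (fix x e).symm))
    have h4 : (y : H)⁻¹ * x = 1 := hf _ fun ε => by
      by_cases e2 : ε = δ
      · rw [e2, mul_smul, fix x e]
        exact inv_mem (R.le hy)
      obtain ⟨z, hz, rfl⟩ := pts ε e2
      change ((y : H)⁻¹ * x) • (z : H) • t • δ = (z : H) • t • δ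
      rw [← mul_smul, mul_assoc, e z ⟨z, hz, rfl⟩ (sq z hz), ← mul_assoc,
        ← cen z ⟨z, hz, rfl⟩ (sq z hz) (y : H)⁻¹ ⟨y⁻¹, inv_mem hy, rfl⟩, mul_smul, mul_smul, e1]
      exact congrArg _ (inv_smul_smul (y : H) _)
    rw [inv_mul_eq_one] at h4
    exact ⟨y, hy, h4⟩
  have inner : (¬ ∀ x ∈ Q, x * x = 1) → ∀ x : H, IsPGroup 2 (zpowers x) → x ∈ J := fun hQ x hx => by
    obtain ⟨n, hn⟩ := hx ⟨x, mem_zpowers x⟩
    obtain ⟨k, hk⟩ := SzT.inner ⟨_, Q, t, T, hQ⟩ n (MulAut.conjNormal x) (g := 1) (by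
      rw [← map_pow, show x ^ 2 ^ n = 1 from congrArg Subtype.val hn, map_one, map_one])
    have h4 := cent ((k : H)⁻¹ * x) fun y hy => by
      have h5 : x * y * x⁻¹ = k * y * (k : H)⁻¹ :=
        (congrArg Subtype.val (DFunLike.congr_fun hk ⟨y, hy⟩) :)
      calc (k : H)⁻¹ * x * y = (k : H)⁻¹ * (x * y * x⁻¹) * x := by group
        _ = _ := by rw [h5]; group
    rw [inv_mul_eq_one] at h4
    exact h4 ▸ k.2
  refine ⟨Q.map J.subtype, T.isPGroup.map _, mem, ?_, ?_, cen, fun x a b c => ?_, fun x a b => ?_,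
    ?_, ?_⟩
  · rintro _ ⟨x, hx, rfl⟩ ε e1 e2
    obtain ⟨y, hy, rfl⟩ := pts ε e1
    have h4 := R.inf _ (R.norm y (R.le hy) x hx) (by
      change (t * (y⁻¹ * x * y) * t) • δ = δ
      rw [mul_smul, mul_smul, mul_smul, mul_smul, show x • y • t • δ = y • t • δ from e2,
        inv_smul_smul, ← mul_smul, R.tt, one_smul])
    exact congrArg Subtype.val (show x = 1 by simpa [mul_assoc, inv_mul_eq_one] using h4)
  · rw [S'.card_eq (α := δ), R.index_H, card_map_of_injective J.subtype_injective]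
  · by_cases hQ : ∀ x ∈ Q, x * x = 1
    · exact el hQ x c
    · exact (mem x).2 ⟨inner hQ x a, b, a⟩
  · by_cases hQ : ∀ x ∈ Q, x * x = 1
    · exact eq_one_of_odd_pow ((mem x).1 (el hQ x b)).2.2 a (pow_orderOf_eq_one x)
    have h4 := fun y => ((szP_of_zt T hQ).map J.subtype_injective).cent_of_odd (x := y)
      (fun y hy => by
        obtain ⟨y1, y2, y3⟩ := (mem y).1 hy
        refine (mem _).2 ⟨hJ.conj_mem y y1 x, ?_, ?_⟩
        · simpa [fix x b] using conj_smul_eq (g := x) y2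
        · have := y3.map (MulAut.conj x).toMonoidHom
          rwa [MonoidHom.map_zpowers] at this) a b
    have h5 := aut_eq_one T (MulAut.conjNormal x) (a.of_dvd_nat (orderOf_map_dvd _ x))
      fun y hy => Subtype.ext (mul_inv_eq_iff_eq_mul.2 (h4 y ⟨y, hy, rfl⟩))
    exact cent x fun y hy =>
      mul_inv_eq_iff_eq_mul.1 (congrArg Subtype.val (DFunLike.congr_fun h5 ⟨y, hy⟩) :)
  · obtain ⟨k, hk⟩ := R.exists_K_eq_zpowers r2
    refine ⟨k, k.2, Dg_le ((hk k).2 (mem_zpowers k)).1, ?_, fun g hg e => ?_⟩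
    · rintro _ ⟨a, ha, rfl⟩ _ ⟨b, hb, rfl⟩ h4 h5
      obtain ⟨x, hx, rfl⟩ := R.exists_K_conj hs ha (fun e => h4.2 (congrArg Subtype.val e))
        (Subtype.ext h4.1)
      obtain ⟨y, hy, rfl⟩ := R.exists_K_conj hs hb (fun e => h5.2 (congrArg Subtype.val e))
        (Subtype.ext h5.1)
      obtain ⟨i, hi⟩ := mem_powers_iff_mem_zpowers.2
        (mul_mem (inv_mem ((hk y).1 hy)) ((hk x).1 hx))
      refine ⟨i, congrArg Subtype.val (show k ^ i * (x⁻¹ * s * x) * (k ^ i)⁻¹ = y⁻¹ * s * y from ?_)⟩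
      rw [show k ^ i = y⁻¹ * x from hi]; group
    · obtain ⟨y, hy, d, hd, e1⟩ := R.dec ⟨g, hg⟩ e
      obtain ⟨i, rfl⟩ := mem_powers_iff_mem_zpowers.2 ((hk d).1 (T.mem_K hd))
      refine ⟨i, ?_⟩
      rintro _ ⟨a, ha, rfl⟩ e2
      have h4 := R.invol_central r2 (R.norm' (Dg_le hd) ha)
        (by rw [conj_mul, show a * a = 1 from Subtype.ext e2]; simp) hy
      refine congrArg Subtype.val (show (⟨g, hg⟩ : J) * a * (⟨g, hg⟩ : J)⁻¹ =
        k ^ i * a * (k ^ i)⁻¹ from ?_)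
      rw [e1, show y * k ^ i * a * (y * k ^ i)⁻¹ = y * (k ^ i * a * (k ^ i)⁻¹) * y⁻¹ by group, ← h4,
        mul_inv_cancel_right]
  · by_cases hQ : ∀ x ∈ Q, x * x = 1
    · refine Or.inl ?_
      rintro _ ⟨x, hx, rfl⟩
      exact congrArg Subtype.val (hQ x hx)
    · exact Or.inr ⟨(szP_of_zt T hQ).map J.subtype_injective, inner hQ⟩

end CfsgLib.HI
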