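import Cfsg.Agent.Lib.HI.Core

/-!
# Fusion and the normalizer of `zs Zs S`
-/

set_option autoImplicit false

namespace CfsgLib.HI

open Subgroup Cfsg CfsgLib.FT CfsgLib.FT.BGN CfsgLib.Cop CfsgLib.GW CfsgLib.Wal CfsgLib.GO
open CfsgLib.H1 (AbTwo)
open CfsgLib.FT.U4 (mem_cent1 mem_cent1' mem_cent mem_cent1_comm cent1_conj
  eq_one_of_mem_inf eq_bot_of_forall conj_mem_conj_iff orderOf_conj norm_le_norm_cent)
open scoped commutatorElement

universe u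

variable {G : Type u} [Group G]

/-- The preimage of `O(N(A) / C(A))`. -/
def NO (A : Subgroup G) : Subgroup G :=
  ((Od A.normalizerMonoidHom.range).comap A.normalizerMonoidHom).map (𝐍(A)).subtype

/-- The group of automorphisms induced on `A`. -/
def au (A K : Subgroup G) : Subgroup (MulAut A) :=
  (K.subgroupOf 𝐍(A)).map A.normalizerMonoidHom

variable {Zs : Set G} {S A V X K : Subgroup G}

theorem alpha_iff : Alpha A V ↔ NO A ≤ 𝐂(V) :=
  ⟨by rintro h _ ⟨n, hn, rfl⟩; exact h n hn, fun h n hn => h ⟨n, hn, rfl⟩⟩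

theorem NO_le : NO A ≤ 𝐍(A) := map_subtype_le _

theorem au_norm : au A 𝐍(A) = A.normalizerMonoidHom.range := by
  rw [au, subgroupOf_self, MonoidHom.range_eq_map]

theorem au_mono {L : Subgroup G} (h : K ≤ L) : au A K ≤ au A L := map_mono (comap_mono h)

theorem au_le_norm {L : Subgroup G} (h : K ≤ 𝐍(L)) : au A K ≤ 𝐍(au A L) :=
  map_le_normalizer_map (sgOf_le_normalizer h _) _

theorem card_au (h : K ≤ 𝐍(A)) : Nat.card (au A K) = (𝐂(A)).relIndex K := by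
  rw [au, ← relIndex_ker, normalizerMonoidHom_ker, relIndex_subgroupOf h]

theorem le_NO_iff (h : K ≤ 𝐍(A)) : K ≤ NO A ↔ au A K ≤ Od (au A 𝐍(A)) := by
  rw [au_norm, au, map_le_iff_le_comap, NO]
  exact ⟨fun h1 x hx => (mem_map_iff_mem (subtype_injective _)).1 (h1 hx),
    fun h1 x hx => ⟨⟨x, h hx⟩, h1 hx, rfl⟩⟩

theorem cent_le_NO : 𝐂(A) ≤ NO A := (le_NO_iff (cent_le_norm A)).2 (by
  rw [au, ← normalizerMonoidHom_ker]; exact ((Subgroup.map_eq_bot_iff _).2 le_rfl).le.trans bot_le)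

variable [Finite G]

theorem le_norm_NO : 𝐍(A) ≤ 𝐍(NO A) := fun g hg => mem_normalizer_of_conj_mem (by
  rintro _ ⟨n, hn, rfl⟩
  refine ⟨⟨g, hg⟩ * n * ⟨g, hg⟩⁻¹, ?_, rfl⟩
  rw [SetLike.mem_coe, mem_comap, map_mul, map_mul, map_inv]
  exact conj_mem_of_mem_normalizer (le_norm_Od _ ⟨_, rfl⟩) hn)

theorem odd_NO : Odd ((𝐂(A)).relIndex (NO A)) :=
  card_au (A := A) NO_le ▸ odd_card_of_le (odd_Od _) ((le_NO_iff NO_le).1 le_rfl)

theorem le_NO (h1 : K ≤ 𝐍(A)) (h2 : 𝐍(A) ≤ 𝐍(K)) (h3 : Odd ((𝐂(A)).relIndex K)) : K ≤ NO A :=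
  (le_NO_iff h1).2 (le_Od (au_mono h1) (au_le_norm h2) (by rwa [card_au h1]))

theorem odd_relIndex_of_two {C : Subgroup G}
    (h : ∀ x ∈ K, IsPGroup 2 (zpowers x) → x ∈ C) : Odd (C.relIndex K) := by
  have := Fact.mk Nat.prime_two
  obtain ⟨T, hT⟩ := IsSylowIn.exists_in (p := 2) K
  exact odd_relIndex_of_sylow hT (fun x hx => h x (hT.le hx)
    (isPGroup_zpowers_of_mem hT.isPGroup hx)) hT.le le_rfl

theorem mem_cent_of_odd (h1 : K ≤ 𝐍(A)) (h3 : Odd ((𝐂(A)).relIndex K)) {x : G} (hx : x ∈ K)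
    (h2 : IsPGroup 2 (zpowers x)) : x ∈ 𝐂(A) := by
  obtain ⟨k, hk⟩ := h2 ⟨x, mem_zpowers x⟩
  replace hk : x ^ 2 ^ k = 1 := congrArg Subtype.val hk
  have h4 : A.normalizerMonoidHom ⟨x, h1 hx⟩ ∈ au A K := ⟨_, hx, rfl⟩
  have h5 := mem_of_pow_odd (H := ⊥) (n := k) (by
    rw [← map_pow, show (⟨x, h1 hx⟩ : 𝐍(A)) ^ 2 ^ k = 1 from Subtype.ext hk,
      map_one]; exact one_mem _) (odd_orderOf_of_mem (card_au h1 ▸ h3) h4)
    (mem_bot.2 (pow_orderOf_eq_one _))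
  rwa [mem_bot, ← MonoidHom.mem_ker, normalizerMonoidHom_ker] at h5

theorem mem_of_mod {O M : Subgroup G} {o n : G} (hO : O ≤ M) (ho : o ∈ O) (hn : n ∈ 𝐍(O))
    (h1 : Odd (orderOf n)) (h2 : ∀ x ∈ zpowers (o * n), Odd (orderOf x) → x ∈ M) : n ∈ M := by
  obtain ⟨k, hk⟩ := PRes.exists_pow_pow_coprime Nat.prime_two (o * n)
  have h3 : ∀ j : ℕ, (o * n) ^ j * (n ^ j)⁻¹ ∈ O := fun j => by
    induction j with
    | zero => simp
    | succ j ih =>
      convert mul_mem ho (conj_mem_of_mem_normalizer hn ih) using 1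
      rw [pow_succ', pow_succ]; group
  refine mem_of_pow_odd (n := k) ?_ h1 (pow_orderOf_eq_one n ▸ one_mem M)
  simpa using mul_mem (inv_mem (hO (h3 (2 ^ k))))
    (h2 _ (pow_mem (mem_zpowers _) _) (Nat.coprime_two_right.1 hk))

/-- The normalizer of a strongly closed elementary abelian subgroup controls strong fusion. -/
theorem sca_of_sc (hS : IsSylowIn 2 S ⊤) (h1 : A ≤ S) (h2 : El A) (h0 : A ≠ ⊥)
    (h3 : ∀ g : G, ∀ a ∈ A, g * a * g⁻¹ ∈ S → g * a * g⁻¹ ∈ A) : SCA S A := by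
  have := Fact.mk Nat.prime_two
  have h4 : S ≤ 𝐍(A) := fun s hs => mem_normalizer_of_conj_mem fun a ha =>
    h3 s a ha (mul_mem (mul_mem hs (h1 ha)) (inv_mem hs))
  refine ⟨hS, h1, H1.isElementaryAbelian_two_of_sq fun x hx => by rw [sq, h2 x hx], h0, h3,
    alperin hS fun U hU hFN hb => ?_⟩
  have h5 : 𝐍(U) ≤ 𝐍(A ⊓ U) := fun g hg => mem_normalizer_of_conj_mem fun a ha =>
    have := conj_mem_of_mem_normalizer hg ha.2
    ⟨h3 g a ha.1 (hU this), this⟩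
  by_cases e : A ≤ U
  · exact fun y hy => Con.of_mem (by simpa only [inf_of_le_left e] using h5 hy)
  have h6 : 𝐍(U) ≤ 𝐍(𝐍(U) ⊓ (𝐂(A ⊓ U) ⊓ H1.centMod U (A ⊓ U))) :=
    H1.le_normalizer_inf le_normalizer (H1.le_normalizer_inf (H1.le_normalizer_centralizer h5)
      (le_normalizer_centMod le_rfl h5))
  refine con_of_frattini hU hFN hb inf_le_left h6 (fun k hk => (con_of_pow
    (hFN.inf_of_le_normalizer inf_le_left (inf_le_right.trans h6)) inf_le_left (fun y hy hc => ?_)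
      hk).mono' (inf_le_left.trans (inf_le_left.trans h4))) fun h7 => ?_
  · rw [← Nat.card_zpowers] at hc
    obtain ⟨k, hk⟩ := (hS.isPGroup.to_le hU).exists_card_eq
    refine zpowers_le.1 ?_
    rw [← le_centralizer_iff, ← comm_eq_bot_iff]
    refine commutator_eq_bot_of_commutator_commutator_eq_bot (zpowers_le.2 hy.1)
      (hk ▸ hc.pow_right k) (comm_eq_bot_iff.2 (le_trans (commutator_le.2 fun f hf z hz => ?_)
        (le_centralizer_iff.1 (zpowers_le.2 hy.2.1))))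
    exact (zpowers_le.2 hy.2.2 hz).2 f hf
  · obtain ⟨x, hx, h8⟩ := SetLike.exists_of_lt (lt_inf_normalizer_of_isPGroup
      (hS.isPGroup.to_le (sup_le h1 hU)) (right_lt_sup.2 e))
    obtain ⟨a, ha, u, hu, rfl⟩ := mem_sup_norm (hU.trans h4) hx.1
    have h9 : a ∈ 𝐍(U) := (mul_mem_cancel_right (le_normalizer hu)).1 hx.2
    exact h8 (mul_mem (h7 ⟨h1 ha, h9, h2.le_cent' le_rfl inf_le_left ha, h5 h9, fun f hf =>
      ⟨comm_mem_right (h4 (hU hf)) ha, comm_mem_left hf h9⟩⟩) hu)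

theorem zc_el (h : ZC Zs) {P : Subgroup G} (hP : IsPGroup 2 P) : El (zs Zs P) :=
  fun _ hx => h.zs_sq hP hx

theorem zc_sc (h : ZC Zs) {P : Subgroup G} (hP : IsPGroup 2 P) (g : G) :
    ∀ a ∈ zs Zs P, g * a * g⁻¹ ∈ P → g * a * g⁻¹ ∈ zs Zs P := fun a ha h1 =>
  (h.mem_zs hP).2 (((h.mem_zs hP).1 ha).imp (fun e => by simp [e]) fun e => ⟨h.conj a e.1 g, h1⟩)

/-- Elements of `Zs` in a `2`-group containing `A` lie in `A`. -/
theorem mem_zs_of_le (h : ZC Zs) (hS : IsSylowIn 2 S ⊤) {P : Subgroup G} (hP : IsPGroup 2 P)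
    (h1 : zs Zs S ≤ P) {z : G} (hz : z ∈ Zs) (h2 : z ∈ P) : z ∈ zs Zs S := by
  have := Fact.mk Nat.prime_two
  obtain ⟨x, -, hx⟩ := hS.exists_conj_le hP le_top
  have h3 : x ∈ 𝐍(zs Zs S) := mem_normalizer_of_conj_mem fun b hb =>
    zc_sc h hS.isPGroup x b hb (hx (conj_mem_map_conj (h1 hb)))
  simpa [mul_assoc] using conj_mem_of_mem_normalizer' h3
    (mem_zs_of (h.conj z hz x) (hx (conj_mem_map_conj h2)))

theorem mem_zs_of_N (h : ZC Zs) (hS : IsSylowIn 2 S ⊤) {z : G} (hz : z ∈ Zs)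
    (h2 : z ∈ 𝐍(zs Zs S)) : z ∈ zs Zs S :=
  haveI := Fact.mk Nat.prime_two
  mem_zs_of_le h hS (isPGroup_sup' (zpowers_le.2 h2) (zc_el h hS.isPGroup).isPGroup
    (el_zpowers (h.sq hz)).isPGroup) le_sup_left hz (mem_sup_right (mem_zpowers z))

theorem PC.nilp2_cent (h : PC Zs) (hS : IsSylowIn 2 S ⊤) : Nilp2 𝐂(zs Zs S) :=
  nilp2_of_hnpc (h.hnpc fun _ h1 hz =>
    le_centralizer_iff.1 le_rfl (mem_zs_of_N h.toZC hS hz (cent_le_norm _ h1)))

theorem solv_of_nilp2 (h : Nilp2 X) : Group.IsSolvable X := by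
  have := Fact.mk Nat.prime_two
  obtain ⟨T, hT⟩ := IsSylowIn.exists_in (p := 2) X
  rw [← h.sup_sylow hT, sup_comm]
  exact isSolvable_sup (hT.le.trans (le_norm_Od X)) (isSolvable_of_isPGroup hT.isPGroup)
    (solvable_Od X)

namespace MH

variable (h : MH G Zs)
include h

theorem sca (hS : IsSylowIn 2 S ⊤) : SCA S (zs Zs S) := by
  have := Fact.mk Nat.prime_two
  have := h.simple
  refine sca_of_sc hS (zs_le _ _) (zc_el h.pc.toZC hS.isPGroup) (fun e => ?_)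
    (zc_sc h.pc.toZC hS.isPGroup)
  obtain ⟨z, hz⟩ := h.pc.nonempty h.nonab
  obtain ⟨x, -, hx⟩ := hS.exists_conj_le (el_zpowers (h.pc.sq hz)).isPGroup le_top
  exact h.pc.ne_one (h.pc.conj z hz x) (mem_bot.1 (e.le
    (mem_zs_of (h.pc.conj z hz x) (hx (conj_mem_map_conj (mem_zpowers z))))))

theorem le_of_fus (hA : SCA S A) {N : Subgroup G}
    (h1 : ∀ m ∈ 𝐍(A), ∀ x ∈ S, m * x * m⁻¹ ∈ S → ⁅m, x⁆ ∈ N) : S ≤ N := by
  have := Fact.mk Nat.prime_two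
  have := h.simple
  obtain ⟨P, rfl⟩ := IsSylowIn.top_iff.1 hA.syl
  have h2 : commutator G = ⊤ := (inferInstance : (commutator G).Normal).eq_bot_or_eq_top.resolve_left
    fun e => h.nonab ⟨⟨fun a b => commutatorElement_eq_one_iff_mul_comm.1
      (mem_bot.1 (e.le (commutator_mem_commutator (mem_top a) (mem_top b))))⟩⟩
  refine le_trans (by rw [h2, top_inf_eq]) (Fusion.commutator_inf_sylow_le P fun x hx g hg => ?_)
  obtain ⟨m, -, hm, e⟩ := hA.ctl g (mem_top g)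
  rw [← e x hx hg]
  exact h1 m hm x hx (e x hx hg ▸ hg)

/-- `N(A) = O²(N(A))`. -/
theorem le_of_odd (hA : SCA S A) {M : Subgroup G}
    (h1 : ∀ n ∈ 𝐍(A), Odd (orderOf n) → n ∈ M) : 𝐍(A) ≤ M := by
  have := Fact.mk Nat.prime_two
  obtain ⟨P, hP⟩ := (hA.syl.mono hA.le_norm le_top).exists_sylow
  have h2 := Fusion.pResidual_eq_top_of_sylow_le_commutator P (by
    rw [hP]
    exact fun x hx => (mem_map_iff_mem (subtype_injective _)).1 (h.le_of_comm hA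
      (N := (commutator 𝐍(A)).map (𝐍(A)).subtype) (fun m hm n hn =>
        ⟨⁅⟨m, hm⟩, ⟨n, hn⟩⁆, commutator_mem_commutator (mem_top _) (mem_top _), rfl⟩) hx))
  refine le_trans ?_ (H1.pResidualOf_le_iff.2 fun g hg hc => h1 g hg (Nat.coprime_two_right.1 hc))
  unfold pResidualOf
  rw [h2, ← MonoidHom.range_eq_map, range_subtype]

end MH

end CfsgLib.HI
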