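import Cfsg.Agent.Lib.HI.Basic

/-!
# The choice of the strongly closed subgroup
-/

set_option autoImplicit false

namespace CfsgLib.HI

open Subgroup Cfsg CfsgLib.FT CfsgLib.FT.BGN CfsgLib.Cop CfsgLib.GW CfsgLib.Wal CfsgLib.GO
open CfsgLib.H1 (AbTwo)
open CfsgLib.FT.U4 (mem_cent1 mem_cent1' mem_cent mem_cent1_comm cent1_conj
  eq_one_of_mem_inf eq_bot_of_forall conj_mem_conj_iff orderOf_conj norm_le_norm_cent)
open scoped commutatorElement

universe u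

variable {G : Type u} [Group G] [Finite G] {Zs : Set G} {S : Subgroup G}

theorem exists_min_inv {N B : Subgroup G} (h0 : B ≠ ⊥) (h1 : N ≤ 𝐍(B)) :
    ∃ V ≤ B, V ≠ ⊥ ∧ N ≤ 𝐍(V) ∧ ∀ C ≤ V, N ≤ 𝐍(C) → C = ⊥ ∨ C = V := by
  obtain ⟨V, h2, h3⟩ := exists_minimal_le_of_wellFoundedLT
    (fun V : Subgroup G => V ≠ ⊥ ∧ N ≤ 𝐍(V)) B ⟨h0, h1⟩
  exact ⟨V, h2, h3.1.1, h3.1.2, fun C hC hn => or_iff_not_imp_left.2 fun e =>
    le_antisymm hC (h3.2 ⟨e, hn⟩ hC)⟩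

theorem norm_closure_sq : 𝐍(S) ≤ 𝐍(closure {y | ∃ x ∈ S, x * x = y}) := fun g hg =>
  mem_normalizer_of_conj_mem fun y hy => by
    refine (?_ : (closure {y | ∃ x ∈ S, x * x = y}).map (MulAut.conj g).toMonoidHom ≤ _)
      (conj_mem_map_conj hy)
    rw [MonoidHom.map_closure]
    refine closure_mono ?_
    rintro _ ⟨_, ⟨x, hx, rfl⟩, rfl⟩
    exact ⟨_, conj_mem_of_mem_normalizer hg hx, by simp [mul_assoc]⟩

namespace MH

variable (h : MH G Zs) (hS : IsSylowIn 2 S ⊤)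
include h hS

/-- Involutions of `S` are central in `N(A)` modulo `NO A`. -/
theorem comm_mem_NO {x g : G} (hx : x ∈ S) (xx : x * x = 1) (hg : g ∈ 𝐍(zs Zs S)) :
    g * x * g⁻¹ * x⁻¹ ∈ NO (zs Zs S) := by
  have := Fact.mk Nat.prime_two
  have := h.simple
  have hA := h.sca hS
  set A := zs Zs S
  have hx' := hA.le_norm hx
  let f := QuotientGroup.mk' (A.subgroupOf 𝐍(A))
  have hk : f.ker = A.subgroupOf 𝐍(A) := QuotientGroup.ker_mk' _
  have h1 : ∀ y : 𝐍(A), f y = 1 ↔ (y : G) ∈ A := fun y => by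
    rw [← MonoidHom.mem_ker, hk, mem_subgroupOf]
  have h2 : f ⟨x, hx'⟩ * f ⟨x, hx'⟩ = 1 := by
    rw [← map_mul, h1, coe_mul, xx]; exact one_mem _
  by_cases e : f ⟨x, hx'⟩ = 1
  · exact cent_le_NO (hA.el.le_cent (comm_mem_right hg ((h1 _).1 e)))
  have h3 := Blk.glauberman_zstar _ _ (inv_of_mul_self h2 e) (fun y hy => by
    obtain ⟨y, rfl⟩ := QuotientGroup.mk'_surjective _ y
    have h4 := (((el_zpowers h2).sup (el_zpowers (Invol.conj_mul_self h2 _)) (zpowers_le.2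
      ((cent_zpowers _).ge (mem_cent1'.2 hy)))).isPGroup.comap_of_ker_isPGroup f
        (by rw [hk]; exact hA.el.isPGroup.comap_subtype)).map (𝐍(A)).subtype
    have h5 : (y * ⟨x, hx'⟩ * y⁻¹ : 𝐍(A)) ∈ comap f (zpowers (f ⟨x, hx'⟩) ⊔
        zpowers (f y * f ⟨x, hx'⟩ * (f y)⁻¹)) := mem_sup_right (by simp)
    have h6 : (⟨x, hx'⟩ : 𝐍(A)) ∈ comap f (zpowers (f ⟨x, hx'⟩) ⊔
        zpowers (f y * f ⟨x, hx'⟩ * (f y)⁻¹)) := mem_sup_left (mem_zpowers _)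
    have h7 : (y : G) * x * (y : G)⁻¹ * x ∈ A :=
      (h.pc.p1' h.nonab h4 ⟨_, h6, rfl⟩ xx ⟨_, h5, rfl⟩).elim (fun e => e ▸ one_mem A) fun e =>
        mem_zs_of_le h.pc.toZC hS h4 (fun a ha => ⟨⟨a, le_normalizer ha⟩, by
          rw [SetLike.mem_coe, mem_comap, (h1 ⟨a, _⟩).2 ha]; exact one_mem _, rfl⟩) e
          ⟨_, mul_mem h5 h6, rfl⟩
    have h8 := (h1 (y * ⟨x, hx'⟩ * y⁻¹ * ⟨x, hx'⟩)).2 h7
    rw [map_mul, map_mul, map_mul, map_inv] at h8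
    exact (eq_inv_of_mul_eq_one_left h8).trans (inv_eq_of_mul_eq_one_right h2)) (f ⟨g, hg⟩)
  refine le_NO (K := ((pPrimeCore 2 _).comap f).map (𝐍(A)).subtype) (map_subtype_le _)
    (fun n hn => (mem_normalizer_map_subtype (x := ⟨n, hn⟩)).2
      ((normalizer_eq_top _).ge (mem_top _))) (odd_relIndex_of_two ?_)
    ⟨⟨g, hg⟩ * ⟨x, hx'⟩ * ⟨g, hg⟩⁻¹ * ⟨x, hx'⟩⁻¹, by
      simpa only [SetLike.mem_coe, mem_comap, map_mul, map_inv] using h3, rfl⟩
  rintro _ ⟨y, hy, rfl⟩ hp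
  obtain ⟨k, hk⟩ := hp ⟨_, mem_zpowers _⟩
  replace hk : (y : G) ^ 2 ^ k = 1 := congrArg Subtype.val hk
  refine hA.el.le_cent ((h1 y).1 (mem_bot.1 (mem_of_pow_odd (n := k) ?_ (odd_orderOf_of_mem
    (Nat.coprime_two_right.1 (pPrimeCore_coprime 2)) hy) (mem_bot.2 (pow_orderOf_eq_one _)))))
  rw [← map_pow, show y ^ 2 ^ k = 1 from Subtype.ext hk, map_one]; exact one_mem _

theorem le_cent_of_NO (h0 : zs Zs S ⊓ 𝐂(NO (zs Zs S)) = ⊥) : S ≤ 𝐂(zs Zs S) := by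
  have hA := h.sca hS
  set A := zs Zs S
  have h1 : Group.IsSolvable (NO A) := by
    have := solv_of_nilp2 (h.pc.nilp2_cent hS)
    have := solvable_Od A.normalizerMonoidHom.range
    refine solvable_of_ker_le_range (inclusion (cent_le_NO (A := A)))
      ((A.normalizerMonoidHom.comp (inclusion NO_le)).codRestrict
        (Od A.normalizerMonoidHom.range) fun x =>
          au_norm (A := A) ▸ (le_NO_iff NO_le).1 le_rfl ⟨_, x.2, rfl⟩) fun x hx => ?_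
    rw [MonoidHom.ker_codRestrict, MonoidHom.mem_ker, MonoidHom.comp_apply, ← MonoidHom.mem_ker,
      normalizerMonoidHom_ker] at hx
    exact ⟨⟨x, hx⟩, rfl⟩
  obtain ⟨W, hW⟩ := Hall.exists_isPiHallOf h1 {2}ᶜ
  have h2 : 𝐂(A) ⊔ W = NO A := by
    refine le_antisymm (sup_le cent_le_NO hW.1) (relIndex_eq_one.1
      (Nat.eq_one_iff_not_exists_prime_dvd.2 fun p hp hd => hW.2.2 p hp ?_
        (hd.trans (relIndex_dvd_of_le_left _ le_sup_right))))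
    rintro rfl
    exact odd_NO.not_two_dvd_nat (hd.trans (relIndex_dvd_of_le_left _ le_sup_left))
  have h3 : Odd (Nat.card W) := Nat.odd_iff.2 (Nat.two_dvd_ne_zero.1 fun e =>
    hW.2.1 2 Nat.prime_two e rfl)
  have h4 : W ≤ 𝐍(A) := hW.1.trans NO_le
  have h5 : Nilp2 (𝐍(A) ⊓ 𝐍(W)) := nilp2_of_hnpc (h.pc.hnpc fun z hz hz' => by
    have h6 := mem_zs_of_N h.pc.toZC hS hz' hz.1
    refine absurd (mem_bot.1 (h0.le ⟨h6, ?_⟩)) (h.pc.ne_one hz')
    rw [← h2]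
    refine zpowers_le.1 (le_centralizer_iff.1 (sup_le (centralizer_le (zpowers_le.2 h6))
      fun w hw => (cent_zpowers z).ge (mem_cent1.2 (commutatorElement_eq_one_iff_mul_comm.1 ?_))))
    exact eq_one_of_odd_of_mul_self (odd_orderOf_of_mem h3 (comm_mem_left hw hz.2))
      (hA.el _ (comm_mem_right (h4 hw) h6)))
  have h6 := h.le_of_odd hA (M := 𝐂(A) ⊔ Od (𝐍(A) ⊓ 𝐍(W))) fun n hn ho => by
    obtain ⟨g, hg, e⟩ := Hall.conj_hallOf h1 (Hall.isPiHallOf_map_conj hW (le_norm_NO hn)) hW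
    obtain ⟨w, hw, c, hc, rfl⟩ := (mem_sup_iff_of_le_normalizer (h4.trans (norm_le_norm_cent A))).1
      (sup_comm 𝐂(A) W ▸ h2.ge hg)
    refine mem_of_mod le_sup_left hc (norm_le_norm_cent A hn) ho fun x hx ho' =>
      mem_sup_right (h5 x (zpowers_le.2 (mem_inf.2 ⟨mul_mem (cent_le_norm A hc) hn, ?_⟩) hx) ho')
    rw [← map_conj_mul] at e
    simpa [mul_assoc] using mul_mem (inv_mem (le_normalizer hw))
      (mem_normalizer_of_map_conj_eq e.symm)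
  have h7 : Od (𝐍(A) ⊓ 𝐍(W)) ≤ 𝐍(A) := (Od_le _).trans inf_le_left
  refine fun s hs => mem_cent_of_odd (sup_le (cent_le_norm A) h7) ?_ (h6 (hA.le_norm hs))
    (isPGroup_zpowers_of_mem hS.isPGroup hs)
  rw [sup_comm, relIndex_sup_of_le_normalizer (h7.trans (norm_le_norm_cent A))]
  exact (odd_Od _).of_dvd_nat (relIndex_dvd_card _ _)

theorem inf_sq_ne (hn : ¬ AbTwo G) (hc : S ≤ 𝐂(zs Zs S)) :
    zs Zs S ⊓ closure {y | ∃ x ∈ S, x * x = y} ≠ ⊥ := fun h0 => by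
  have := Fact.mk Nat.prime_two
  have hA := h.sca hS
  set A := zs Zs S
  have h1 := hS.mono hc le_top
  have h2 : 𝐍(A) ≤ 𝐍(Od 𝐂(A)) := (norm_le_norm_cent A).trans (norm_le_norm_Od _)
  have h3 : closure {y | ∃ x ∈ S, x * x = y} ≤ S := (closure_le _).2 (by
    rintro _ ⟨x, hx, rfl⟩; exact mul_mem hx hx)
  have h4 := h.le_of_odd hA (M := Od 𝐂(A) ⊔ 𝐍(S) ⊓ H1.centMod S A) fun n hn ho => by
    obtain ⟨k, hk, e⟩ := h1.frattini_elem (norm_le_norm_cent A hn)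
    obtain ⟨s, hs, o, ho', rfl⟩ := (mem_sup_iff_of_le_normalizer (hA.le_norm.trans h2)).1
      (sup_comm (Od 𝐂(A)) S ▸ ((h.pc.nilp2_cent hS).sup_sylow h1).ge hk)
    refine mem_of_mod le_sup_left ho' (h2 hn) ho fun w hw hw' => mem_sup_right ?_
    have h5 : w ∈ 𝐍(S) := zpowers_le.2 (by
      simpa [mul_assoc] using mul_mem (inv_mem (le_normalizer hs)) e) hw
    have h6 := h.pc.cent_of_odd (hS.isPGroup.to_le h3) hw' (norm_closure_sq h5) fun u hu hz =>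
      absurd (mem_bot.1 (h0.le ⟨mem_zs_of hz (h3 hu), hu⟩)) (h.pc.ne_one hz)
    refine ⟨h5, h.pc.norm_zs S h5, fun x hx => ?_⟩
    have h7 := conj_mem_of_mem_normalizer h5 hx
    rw [← commutatorElement_inv]
    exact inv_mem ((h.pc.mem_zs hS.isPGroup).2 ((h.pc.p1 S hS.isPGroup x hx w (subset_closure
      ⟨hw', (mem_cent.1 h6 _ (subset_closure ⟨x, hx, rfl⟩)).symm⟩) h7).imp id
        fun e => ⟨e, mul_mem h7 (inv_mem hx)⟩))
  have h5 : S ≤ A := h.le_of_fus hA fun m hm x hx h6 => by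
    obtain ⟨o, ho, c, hc, rfl⟩ := mem_sup_norm (U := 𝐍(S) ⊓ H1.centMod S A)
      (fun _ e => h2 e.2.1) (h4 hm)
    have h7 := conj_mem_of_mem_normalizer hc.1 hx
    have h8 : ⁅o, c * x * c⁻¹⁆ = 1 := Invol.eq_one_of_odd_of_mem hS.isPGroup
      (by convert mul_mem h6 (inv_mem h7) using 1; rw [commutatorElement_def]; group)
      (odd_of_mem_Od (comm_mem_left ho (h2 (hA.le_norm h7))))
    have h9 := inv_mem (hc.2.2 x hx)
    rw [commutatorElement_inv] at h9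
    convert h9 using 1
    calc _ = ⁅o, c * x * c⁻¹⁆ * ⁅c, x⁆ := by simp only [commutatorElement_def]; group
      _ = _ := by rw [h8, one_mul]
  exact hn (abTwo_of_el hS (hc.trans (centralizer_le h5)))

end MH

theorem MH.exists_cv (h : MH G Zs) (hn : ¬ AbTwo G) : ∃ S V, CV Zs S V := by
  have := Fact.mk Nat.prime_two
  obtain ⟨S, hS⟩ := IsSylowIn.exists_in (p := 2) (⊤ : Subgroup G)
  have hA := h.sca hS
  by_cases h0 : zs Zs S ⊓ 𝐂(NO (zs Zs S)) = ⊥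
  · have hc := h.le_cent_of_NO hS h0
    obtain ⟨V, h1, h2, h3, h4⟩ := exists_min_inv (N := 𝐍(zs Zs S)) (h.inf_sq_ne hS hn hc)
      fun n hn => mem_normalizer_of_conj_mem fun a ha => by
        obtain ⟨k, hk, e⟩ := (hS.mono hc le_top).frattini_elem (norm_le_norm_cent _ hn)
        have h5 := conj_mem_of_mem_normalizer hn ha.1
        refine mem_inf.2 ⟨h5, ?_⟩
        convert conj_mem_of_mem_normalizer (norm_closure_sq e) ha.2 using 1
        calc _ = n * a * n⁻¹ * k * k⁻¹ := by group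
          _ = _ := by rw [mem_cent.1 hk _ h5]; group
    have h5 := h1.trans inf_le_left
    refine ⟨S, V, h, hA, hA.of_le h5 h2 h3, h5, h3, h4, fun x hx _ => centralizer_le h5 (hc hx),
      Or.inr ⟨hc, fun C hC e => h1.trans (inf_le_right.trans ((closure_le _).2 ?_))⟩⟩
    rintro _ ⟨x, hx, rfl⟩
    obtain ⟨a, ha, c, hc', rfl⟩ := mem_sup_norm (hC.trans hA.le_norm) (e hx)
    rw [show a * c * (a * c) = a * (c * a) * c by group, ← mem_cent.1 (hc (hC hc')) a ha,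
      ← mul_assoc a, hA.el a ha, one_mul]
    exact mul_mem hc' hc'
  · obtain ⟨V, h1, h2, h3, h4⟩ := exists_min_inv (N := 𝐍(zs Zs S)) h0
      (H1.le_normalizer_inf le_rfl (H1.le_normalizer_centralizer le_norm_NO))
    have h5 := h1.trans inf_le_left
    have h6 := le_centralizer_iff.1 (h1.trans inf_le_right)
    have hV := hA.of_le h5 h2 h3
    refine ⟨S, V, h, hA, hV, h5, h3, h4, fun x hx xx => ?_, Or.inl (alpha_iff.2 h6)⟩
    obtain ⟨z, hz, z1, h7⟩ := hV.exists_cent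
    refine mem_cent.2 fun v hv => mem_cent1.1 (((h4 (V ⊓ 𝐂[x]) inf_le_left fun g hg =>
      mem_normalizer_of_conj_mem fun a ha => ⟨conj_mem_of_mem_normalizer (h3 hg) ha.1,
        mem_cent1.2 ?_⟩).resolve_left fun e => z1 (mem_bot.1 (e.le
          ⟨hz, mem_cent1'.2 (mem_cent.1 h7 x hx)⟩))).ge hv).2
    have h8 := mem_cent.1 (h6 (h.comm_mem_NO hS hx xx (inv_mem hg))) a ha.1
    calc _ = g * (a * (g⁻¹ * x * g⁻¹⁻¹ * x⁻¹)) * x * g⁻¹ := by group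
      _ = g * (g⁻¹ * x * g⁻¹⁻¹ * x⁻¹) * (a * x) * g⁻¹ := by rw [h8]; group
      _ = _ := by rw [mem_cent1.1 ha.2]; group

end CfsgLib.HI
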