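import Cfsg.Agent.Lib.WApp.List
import Cfsg.Agent.Lib.Wal.Main
import Cfsg.Agent.Lib.SEB.Main
import Cfsg.Agent.Lib.H5Real
import Cfsg.Agent.Lib.GO.Defs

/-!
# Groups without real elements of order `4`: basic facts and the endgame
-/

set_option autoImplicit false

namespace CfsgLib.HI

open Subgroup Cfsg

universe u

/-- No element of order `4` is real. -/
def NR (G : Type*) [Group G] : Prop :=
  ∀ x g : G, x ^ 4 = 1 → g * x * g⁻¹ = x⁻¹ → x * x = 1

section Basic

variable {G H : Type*} [Group G] [Group H]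

theorem NR.of_injective (h : NR G) (f : H →* G) (hf : Function.Injective f) : NR H :=
  fun x g h1 h2 => hf (by
    rw [map_mul, map_one]
    exact h (f x) (f g) (by rw [← map_pow, h1, map_one]) (by
      rw [← map_inv, ← map_mul, ← map_mul, h2, map_inv]))

theorem NR.subgroup (h : NR G) (K : Subgroup G) : NR K :=
  h.of_injective K.subtype K.subtype_injective

theorem NR.of_equiv (h : NR G) (e : G ≃* H) : NR H :=
  h.of_injective e.symm.toMonoidHom e.symm.injective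

/-- A real `2`-element has order at most `2`. -/
theorem NR.two (h : NR G) {x g : G} {k : ℕ} (hx : x ^ 2 ^ k = 1) (hg : g * x * g⁻¹ = x⁻¹) :
    x * x = 1 := by
  induction k generalizing x with
  | zero => rw [pow_zero, pow_one] at hx; rw [hx, mul_one]
  | succ k ih =>
    have h1 : x * x * (x * x) = 1 := ih (by rw [← pow_two, ← pow_mul, ← pow_succ', hx]) (by
      rw [mul_inv_rev, ← hg]; group)
    exact h x g (by rw [← h1]; simp only [pow_succ, pow_zero, one_mul, mul_assoc]) hg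

theorem NR.two' (h : NR G) {E : Subgroup G} (hE : IsPGroup 2 E) {x g : G} (hx : x ∈ E)
    (hg : g * x * g⁻¹ = x⁻¹) : x * x = 1 := by
  obtain ⟨k, hk⟩ := hE ⟨x, hx⟩
  exact h.two (congrArg Subtype.val hk) hg

/-- Trick (b): if `x² = y²` then `y` inverts `x y⁻¹`. -/
theorem inv_of_sq_eq {x y : G} (h : x * x = y * y) : y * (x * y⁻¹) * y⁻¹ = (x * y⁻¹)⁻¹ := by
  calc y * (x * y⁻¹) * y⁻¹ = y * x * (y * y)⁻¹ := by group
    _ = _ := by rw [← h]; group

theorem NR.sq_mul_inv (h : NR G) {E : Subgroup G} (hE : IsPGroup 2 E) {x y : G} (hx : x ∈ E)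
    (hy : y ∈ E) (e : x * x = y * y) : x * y⁻¹ * (x * y⁻¹) = 1 :=
  h.two' hE (mul_mem hx (inv_mem hy)) (inv_of_sq_eq e)

/-- Involutions of a `2`-subgroup commute. -/
theorem NR.comm (h : NR G) {E : Subgroup G} (hE : IsPGroup 2 E) {a b : G} (ha : a ∈ E)
    (hb : b ∈ E) (a2 : a * a = 1) (b2 : b * b = 1) : a * b = b * a := by
  have h1 := h.sq_mul_inv hE ha hb (a2.trans b2.symm)
  rw [inv_eq_of_mul_eq_one_right b2] at h1
  rw [eq_inv_of_mul_eq_one_left h1, mul_inv_rev, inv_eq_of_mul_eq_one_right a2,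
    inv_eq_of_mul_eq_one_right b2]

/-- Trick (a): an element of odd order normalizing a `2`-subgroup `E` and centralizing its
involutions centralizes `E`. -/
theorem NR.cent_of_odd [Finite G] (h : NR G) {E : Subgroup G} (hE : IsPGroup 2 E) {w : G}
    (hw : Odd (orderOf w)) (hn : ∀ x ∈ E, w * x * w⁻¹ ∈ E)
    (hc : ∀ u ∈ E, u * u = 1 → u * w = w * u) {x : G} (hx : x ∈ E) : x * w = w * x := by
  obtain ⟨k, hk⟩ := hE ⟨x, hx⟩
  replace hk : x ^ 2 ^ k = 1 := congrArg Subtype.val hk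
  induction k generalizing x with
  | zero => rw [pow_zero, pow_one] at hk; rw [hk, mul_one, one_mul]
  | succ k ih =>
    have h1 := ih (mul_mem hx hx) (by rw [← pow_two, ← pow_mul, ← pow_succ', hk])
    have h2 : w * x * w⁻¹ * (w * x * w⁻¹) = x * x := by
      calc _ = w * (x * x) * w⁻¹ := by group
        _ = _ := by rw [← h1]; group
    have h3 := h.sq_mul_inv hE (hn x hx) hx h2
    have h4 := hc _ (mul_mem (hn x hx) (inv_mem hx)) h3
    have h5 : w ^ 2 ∈ centralizer ({x} : Set G) := by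
      rw [mem_centralizer_singleton_iff]
      calc w ^ 2 * x = w * (w * x * w⁻¹ * x⁻¹) * x * w := by rw [pow_two]; group
        _ = (w * x * w⁻¹ * x⁻¹) * (w * x * w⁻¹ * x⁻¹) * x * w * w := by rw [← h4]; group
        _ = x * w ^ 2 := by rw [h3, pow_two]; group
    exact (mem_centralizer_singleton_iff.1
      (H5.mem_of_sq_mem_of_odd (Nat.coprime_two_right.2 hw) h5)).symm

theorem nr_of_sylow [Finite G] {S : Subgroup G} (hS : IsSylowIn 2 S ⊤) (h : NR S) : NR G :=
  fun x g h1 h2 => by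
    have := Fact.mk Nat.prime_two
    obtain ⟨u, ⟨k, hk⟩, hu⟩ := H5.exists_two_element_inverts (isConj_iff.2 ⟨g, h2⟩)
    obtain ⟨j, -, hj⟩ := (Nat.dvd_prime_pow Nat.prime_two (m := 2)).1 (orderOf_dvd_of_pow_eq_one h1)
    have h3 : IsPGroup 2 (zpowers u ⊔ zpowers x : Subgroup G) :=
      (isPGroup_zpowers_iff.2 ⟨k, hk⟩).to_sup_of_normal_right' (isPGroup_zpowers_iff.2 ⟨j, hj⟩)
        (zpowers_le.2 (H5.mem_normalizer_zpowers_of_conj_mem (hu ▸ inv_mem (mem_zpowers x))))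
    obtain ⟨c, -, hc⟩ := hS.exists_conj_le h3 le_top
    have h4 := h ⟨_, hc (conj_mem_map_conj (mem_sup_right (mem_zpowers x)))⟩
      ⟨_, hc (conj_mem_map_conj (mem_sup_left (mem_zpowers u)))⟩
      (Subtype.ext (by simp only [SubmonoidClass.coe_pow, conj_pow, h1]; simp))
      (Subtype.ext (by
        change c * u * c⁻¹ * (c * x * c⁻¹) * (c * u * c⁻¹)⁻¹ = (c * x * c⁻¹)⁻¹
        rw [conj_inv, conj_inv, conj_mul, conj_mul, hu]))
    have h5 : c * x * c⁻¹ * (c * x * c⁻¹) = 1 := congrArg Subtype.val h4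
    rwa [conj_mul, conj_eq_one_iff] at h5

/-- Quotients by normal subgroups of odd order. -/
theorem NR.of_surjective [Finite G] (h : NR G) (f : G →* H) (hf : Function.Surjective f)
    (hk : Odd (Nat.card f.ker)) : NR H := by
  have := Fact.mk Nat.prime_two
  have := Finite.of_surjective f hf
  obtain ⟨S⟩ : Nonempty (Sylow 2 G) := inferInstance
  refine nr_of_sylow (IsSylowIn.sylow_top (S.mapSurjective hf)) fun x g h1 h2 => ?_
  have inj : ∀ y ∈ (S : Subgroup G), f y = 1 → y = 1 := fun y hy e => by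
    obtain ⟨k, hk'⟩ := S.isPGroup' ⟨y, hy⟩
    exact orderOf_eq_one_iff.1 (Nat.eq_one_of_dvd_coprimes
      ((Nat.coprime_two_right.2 hk).pow_right k) (orderOf_dvd_natCard _ e)
      (orderOf_dvd_of_pow_eq_one (congrArg Subtype.val hk')))
  obtain ⟨_, x, hx, rfl⟩ := x
  obtain ⟨_, g, hg, rfl⟩ := g
  have h3 : f x ^ 4 = 1 := congrArg Subtype.val h1
  have h4 : f g * f x * (f g)⁻¹ = (f x)⁻¹ := congrArg Subtype.val h2
  refine Subtype.ext (?_ : f x * f x = 1)
  rw [← map_mul, h x g (inj _ (pow_mem hx 4) (by rw [map_pow, h3])) (eq_inv_of_mul_eq_one_left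
    (inj _ (mul_mem (mul_mem (mul_mem hg hx) (inv_mem hg)) hx) (by
      rw [map_mul, map_mul, map_mul, map_inv, h4, inv_mul_cancel]))), map_one]

theorem NR.quot [Finite G] (h : NR G) (N : Subgroup G) [N.Normal] (hN : Odd (Nat.card N)) :
    NR (G ⧸ N) :=
  h.of_surjective (QuotientGroup.mk' N) (QuotientGroup.mk'_surjective N)
    (by rwa [QuotientGroup.ker_mk'])

theorem nr_of_irr (hirr : ∀ x : G, (∀ r : ℕ, r.Prime → r ∣ orderOf x → r = 2) →
    normalizer ((zpowers x : Subgroup G) : Set G) ≤ centralizer {x}) [Finite G] : NR G :=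
  fun x g h1 h2 => by
    have h3 := hirr x (fun r hr hd => (Nat.prime_dvd_prime_iff_eq hr Nat.prime_two).1
      (hr.dvd_of_dvd_pow (n := 2) (hd.trans (orderOf_dvd_of_pow_eq_one h1))))
      (H5.mem_normalizer_zpowers_of_conj_mem (g := g) (h2 ▸ inv_mem (mem_zpowers x)))
    rw [← pow_two]
    exact H5.sq_eq_one_of_inverts_of_centralizes h2 h3

end Basic

/-- The conclusion of the classification. -/
def Fin4030 (G : Type*) [Group G] : Prop :=
  (∃ (F : Type) (_ : Field F) (_ : Fintype F), 4 ≤ Fintype.card F ∧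
    (Fintype.card F % 8 = 0 ∨ Fintype.card F % 8 = 3 ∨ Fintype.card F % 8 = 5) ∧
    Nonempty (G ≃* Matrix.ProjectiveSpecialLinearGroup (Fin 2) F)) ∨
  IsSuzuki G ∨ IsRee G ∨ IsJ1 G

variable {G : Type u} [Group G] [Finite G] [IsSimpleGroup G]

theorem fin_of_sl2 (hna : ¬ IsMulCommutative G) {n : ℕ} (hn : 2 ≤ n)
    (e : G ≃* Matrix.SpecialLinearGroup (Fin 2) (GaloisField 2 n)) : Fin4030 G := by
  have := Fact.mk Nat.prime_two
  rcases hn.eq_or_lt with rfl | hn
  · obtain ⟨S⟩ : Nonempty (Sylow 2 G) := inferInstance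
    obtain ⟨F, _, _, h1, h2, h3⟩ := GW.gw_four G hna S
      (WApp.card_sylow_sl2 S le_top le_rfl (topEquiv.trans e))
    exact Or.inl ⟨F, inferInstance, inferInstance, by omega, Or.inr h2, h3⟩
  · have := Fintype.ofFinite (GaloisField 2 n)
    have h1 : Fintype.card (GaloisField 2 n) = 2 ^ n := by
      rw [← Nat.card_eq_fintype_card, GaloisField.card 2 n (by omega)]
    obtain ⟨m, rfl⟩ := Nat.exists_eq_add_of_lt hn
    refine Or.inl ⟨_, inferInstance, this, ?_, Or.inl ?_, Suz.nonempty_psl_of_sl ⟨e⟩⟩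
    · rw [h1, pow_succ, pow_add]
      have := Nat.pos_of_ne_zero (pow_ne_zero m two_ne_zero)
      omega
    · rw [h1, pow_succ, pow_add]
      omega

theorem fin_of_abTwo (hna : ¬ IsMulCommutative G) (hab : H1.AbTwo G) : Fin4030 G := by
  rcases Wal.walter G hna hab with ⟨n, hn, ⟨e⟩⟩ | ⟨F, _, _, h1, h2, h3⟩ | ⟨t, L, q, h⟩
  · exact fin_of_sl2 hna hn e
  · exact Or.inl ⟨F, inferInstance, inferInstance, by omega, Or.inr h2, h3⟩
  · rcases h.card with ⟨-, h1⟩ | ⟨n, h1, h2, h3⟩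
    · exact Or.inr (Or.inr (Or.inr ⟨inferInstance, h1⟩))
    · exact Or.inr (Or.inr (Or.inl ⟨inferInstance, n, h1, h2 ▸ h3⟩))

/-- A split rank one BN-pair without real elements of order `4` is not of unitary type. -/
theorem NR.ro (h : NR G) {H Q : Subgroup G} {t : G} (R : Suz.RO H Q t) (h2 : Suz.Rank2 Q) :
    Suz.ZT H Q t := by
  obtain ⟨s, r, hs⟩ := R.exists_dist
  obtain ⟨hp, h1 | ⟨hna, hc, hr⟩ | ⟨-, -, -, w, hw, h3, x, hx, h4⟩⟩ := R.suzuki h2 hs
  · exact { R with inv := (R.simple_of_sq h2 h1).1, ne := R.D_ne_bot h2 }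
  · exact { R with inv := R.inv_of_closed h2 (R.typeA_K h2 hp hna hc hs hr), ne := R.D_ne_bot h2 }
  · refine absurd (h.cent_of_odd hp (R.odd.of_dvd_nat (orderOf_dvd_natCard _ hw))
      (fun y hy => ?_) h3 hx) h4
    simpa using R.norm w⁻¹ (inv_mem (Suz.Dg_le hw)) y hy

theorem NR.zt_of_se (h : NR G) (hna : ¬ IsMulCommutative G) {M : Subgroup G}
    (hM : IsStronglyEmbedded M) : ∃ Q t, Suz.ZT M Q t := by
  obtain ⟨u, hu, -⟩ := (SE.sea_of_isStronglyEmbedded hM).exists_inv ((1 : G) : G ⧸ M)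
  obtain ⟨Q, t, R, h2⟩ := SEB.bender hM (SE.normalCore_eq_bot_of_simple hM.1)
    (SEG.rk2_of_simple hna hu)
  exact ⟨Q, t, h.ro R h2⟩

theorem fin_of_zt (hna : ¬ IsMulCommutative G) {H Q : Subgroup G} {t : G} (Z : Suz.ZT H Q t) :
    Fin4030 G := by
  by_cases hQ : ∀ x ∈ Q, x * x = 1
  · obtain ⟨n, hn, -, -, ⟨e⟩, -⟩ := Z.sl2 hQ
    exact fin_of_sl2 hna hn e
  · exact Or.inr (Or.inl (GO.SzT.isSuzuki ⟨H, Q, t, Z, hQ⟩))

theorem NR.fin (h : NR G) (hna : ¬ IsMulCommutative G)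
    (h' : H1.AbTwo G ∨ ∃ M : Subgroup G, IsStronglyEmbedded M) : Fin4030 G := by
  rcases h' with h' | ⟨M, hM⟩
  · exact fin_of_abTwo hna h'
  · obtain ⟨Q, t, Z⟩ := h.zt_of_se hna hM
    exact fin_of_zt hna Z

end CfsgLib.HI
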