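import Cfsg.Agent.Lib.Gol.R2b
import Cfsg.Agent.Lib.GOB.ZS

/-!
# A lemma on `2`-groups with an automorphism of odd order
-/

set_option autoImplicit false

namespace CfsgLib.HI

open Subgroup Cfsg CfsgLib.FT CfsgLib.FT.BGN CfsgLib.Cop CfsgLib.GW CfsgLib.Wal CfsgLib.GO
open CfsgLib.FT.U4 (mem_cent1 mem_cent1' mem_cent mem_cent1_comm cent1_conj
  eq_one_of_mem_inf eq_bot_of_forall conj_mem_conj_iff orderOf_conj norm_le_norm_cent)
open scoped commutatorElement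

theorem q8_lemma {Y : Type*} [Group Y] [Finite Y] {P E : Subgroup Y} [E.Normal] {k u : Y}
    (hP : IsPGroup 2 P) (hE : El E) (h4 : Nat.card E = 4) (hc : P ≤ 𝐂(E)) (ko : Odd (orderOf k))
    (kP : k ∈ 𝐍(P)) (kf : E ⊓ 𝐂[k] = ⊥) (hk : ⁅P, zpowers k⁆ = P) (uP : u ∈ P) (uE : u ∉ E)
    (uk : u ∈ 𝐂[k]) (h1 : ∀ s ∈ P, ⁅s, u⁆ ∈ E) (h2 : ¬ P ≤ 𝐂[u])
    (h3 : ∀ y ∈ P ⊓ 𝐂[u], ∃ v ∈ E, v⁻¹ * y ∈ P ⊓ 𝐂[k]) : False := by
  set f := QuotientGroup.mk' E with hf
  have f1 : ∀ {v}, f v = 1 ↔ v ∈ E := QuotientGroup.eq_one_iff _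
  have cu : ∀ {x}, x ∈ 𝐂[u] ↔ ⁅x, u⁆ = 1 := by
    intro x; rw [mem_cent1, commutatorElement_eq_one_iff_mul_comm]
  have hom : ∀ x ∈ P, ∀ y ∈ P, ⁅x * y, u⁆ = ⁅y, u⁆ * ⁅x, u⁆ := fun x hx y hy => by
    calc _ = x * ⁅y, u⁆ * x⁻¹ * ⁅x, u⁆ := by simp only [commutatorElement_def]; group
      _ = _ := by rw [← mem_cent.1 (hc hx) _ (h1 y hy), mul_inv_cancel_right]
  have sq : ∀ x ∈ P, x * x ∈ P ⊓ 𝐂[u] := fun x hx =>
    ⟨mul_mem hx hx, cu.2 (by rw [hom x hx x hx, hE _ (h1 x hx)])⟩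
  have cn : P ≤ 𝐍(P ⊓ 𝐂[u]) := fun x hx => mem_normalizer_of_conj_mem fun y hy =>
    mem_inf.2 ⟨mul_mem (mul_mem hx hy.1) (inv_mem hx), cu.2 (by
      rw [hom _ (mul_mem hx hy.1) _ (inv_mem hx), hom x hx y hy.1, cu.1 hy.2, one_mul,
        ← hom x hx _ (inv_mem hx), mul_inv_cancel, commutatorElement_one_left])⟩
  have cen : P.map f ≤ 𝐂((P ⊓ 𝐂[u]).map f) := by
    refine (map_mono hk.ge).trans ?_
    rw [map_commutator, commutator_comm]
    refine (commutator_mono (?_ : _ ≤ 𝐂((P ⊓ 𝐂[u]).map f)) le_rfl).trans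
      (commutator_le_left_of_le_normalizer (((map_mono cn).trans
        (le_normalizer_map f)).trans (norm_le_norm_cent _)))
    rw [MonoidHom.map_zpowers, zpowers_le, mem_cent]
    rintro _ ⟨y, hy, rfl⟩
    obtain ⟨v, hv, e⟩ := h3 y hy
    have := congrArg f (mem_cent1.1 e.2)
    simpa only [map_mul, map_inv, f1.2 hv, inv_one, one_mul] using this
  obtain ⟨s, hs, s1⟩ := SetLike.not_le_iff_exists.1 h2
  have s2 := h1 s hs
  obtain ⟨hF, hV, -⟩ := four_of_fpf h4 (le_normalizer_of_normal (mem_top k)) kf s2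
    (hE.ord s2 fun e => s1 (cu.2 e))
  have ht := conj_mem_of_mem_normalizer kP hs
  set t := k * s * k⁻¹ with htd
  have t2 : ⁅t, u⁆ = k * ⁅s, u⁆ * k⁻¹ := by
    rw [conjugate_commutatorElement, ← mem_cent1.1 uk, mul_inv_cancel_right]
  rw [← t2] at hF hV
  clear_value t
  have hz : ⁅s, t⁆ ∈ P ⊓ 𝐂[u] := ⟨comm_mem_left hs (le_normalizer ht), cu.2 (by
    rw [commutatorElement_def s t, hom _ (mul_mem (mul_mem hs ht) (inv_mem hs)) _ (inv_mem ht),
      hom _ (mul_mem hs ht) _ (inv_mem hs), hom s hs t ht,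
      hE.comm (h1 t ht) s2, ← mul_assoc ⁅s⁻¹, u⁆, ← hom s hs _ (inv_mem hs), mul_inv_cancel,
      commutatorElement_one_left, one_mul, ← hom t ht _ (inv_mem ht), mul_inv_cancel,
      commutatorElement_one_left])⟩
  have cc : ∀ x ∈ P, ∀ y ∈ P ⊓ 𝐂[u], f y * f x = f x * f y := fun x hx y hy =>
    mem_cent.1 (cen ⟨x, hx, rfl⟩) _ ⟨y, hy, rfl⟩
  have z2 : f ⁅s, t⁆ * f ⁅s, t⁆ = 1 := by
    have e := cc t ht _ (sq s hs)
    rw [← commutatorElement_eq_one_iff_mul_comm, map_mul] at e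
    calc _ = f s * f ⁅s, t⁆ * (f s)⁻¹ * f ⁅s, t⁆ := by rw [← cc s hs _ hz, mul_inv_cancel_right]
      _ = ⁅f s * f s, f t⁆ := by simp only [commutatorElement_def, map_mul, map_inv]; group
      _ = 1 := e
  have gen : P.map f ≤ closure (((P ⊓ 𝐂[u]).map f : Set (Y ⧸ E)) ∪ {f s, f t}) := by
    rintro _ ⟨x, hx, rfl⟩
    have a1 : ∀ y ∈ P ⊓ 𝐂[u], f y ∈ closure (((P ⊓ 𝐂[u]).map f : Set (Y ⧸ E)) ∪ {f s, f t}) :=
      fun y hy => subset_closure (Or.inl ⟨y, hy, rfl⟩)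
    have a2 : f s ∈ closure (((P ⊓ 𝐂[u]).map f : Set (Y ⧸ E)) ∪ {f s, f t}) :=
      subset_closure (Or.inr (Or.inl rfl))
    have a3 : f t ∈ closure (((P ⊓ 𝐂[u]).map f : Set (Y ⧸ E)) ∪ {f s, f t}) :=
      subset_closure (Or.inr (Or.inr rfl))
    rcases hF.mem_V.1 (hV.ge (h1 x hx)) with e | e | e | e
    · exact a1 x ⟨hx, cu.2 e⟩
    · have := a1 (s * x) ⟨mul_mem hs hx, cu.2 (by rw [hom s hs x hx, e, hF.tt])⟩
      rwa [map_mul, Subgroup.mul_mem_cancel_left _ a2] at this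
    · have := a1 (t * x) ⟨mul_mem ht hx, cu.2 (by rw [hom t ht x hx, e, hF.ss])⟩
      rwa [map_mul, Subgroup.mul_mem_cancel_left _ a3] at this
    · have := a1 (t * s * x) ⟨mul_mem (mul_mem ht hs) hx, cu.2 (by
        rw [hom _ (mul_mem ht hs) x hx, hom t ht s hs, e]; exact hE _ (e ▸ h1 x hx))⟩
      rwa [map_mul, map_mul, Subgroup.mul_mem_cancel_left _ (mul_mem a3 a2)] at this
  have gen' : closure (((P ⊓ 𝐂[u]).map f : Set (Y ⧸ E)) ∪ {f s, f t}) ≤ P.map f := by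
    rw [closure_le]
    rintro y (hy | rfl | rfl)
    exacts [map_mono inf_le_left hy, ⟨s, hs, rfl⟩, ⟨t, ht, rfl⟩]
  have zn : ∀ x ∈ P.map f, ∀ w ∈ zpowers (f ⁅s, t⁆), x * w * x⁻¹ = w := fun x hx w hw => by
    rw [← mem_cent.1 (cen hx) w (zpowers_le.2 (mem_map_of_mem f hz) hw), mul_inv_cancel_right]
  have der : ∀ x ∈ ⁅P, P⁆, f x ∈ zpowers (f ⁅s, t⁆) := by
    refine fun x hx => (?_ : ⁅P, P⁆.map f ≤ _) ⟨x, hx, rfl⟩
    rw [map_commutator, commutator_le]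
    intro x hx y hy
    replace hx := gen hx
    replace hy := gen hy
    induction hx, hy using closure_induction₂ with
    | mem x y hx hy =>
      rcases hx with hx | hx
      · rw [commutatorElement_eq_one_iff_mul_comm.2
          (mem_cent.1 (cen (gen' (subset_closure hy))) x hx)]
        exact one_mem _
      rcases hy with hy | hy
      · rw [commutatorElement_eq_one_iff_mul_comm.2
          (mem_cent.1 (cen (gen' (subset_closure (Or.inr hx)))) y hy).symm]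
        exact one_mem _
      rcases hx with rfl | rfl <;> rcases hy with rfl | rfl
      · simp
      · rw [← map_commutatorElement]; exact mem_zpowers _
      · rw [← commutatorElement_inv (f s), ← map_commutatorElement]; exact inv_mem (mem_zpowers _)
      · simp
    | one_left x hx => simp
    | one_right x hx => simp
    | mul_left x y w hx hy hw a b =>
      rw [show ⁅x * y, w⁆ = x * ⁅y, w⁆ * x⁻¹ * ⁅x, w⁆ by simp only [commutatorElement_def]; group,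
        zn x (gen' hx) _ b]
      exact mul_mem b a
    | mul_right y w x hy hw hx a b =>
      rw [show ⁅x, y * w⁆ = ⁅x, y⁆ * (y * ⁅x, w⁆ * y⁻¹) by simp only [commutatorElement_def]; group,
        zn y (gen' hy) _ b]
      exact mul_mem a b
    | inv_left x y hx hy a =>
      rw [show ⁅x⁻¹, y⁆ = x⁻¹ * ⁅x, y⁆⁻¹ * x⁻¹⁻¹ by simp only [commutatorElement_def]; group,
        zn _ (inv_mem (gen' hx)) _ (inv_mem a)]
      exact inv_mem a
    | inv_right x y hx hy a =>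
      rw [show ⁅x, y⁻¹⁆ = y⁻¹ * ⁅x, y⁆⁻¹ * y⁻¹⁻¹ by simp only [commutatorElement_def]; group,
        zn _ (inv_mem (gen' hy)) _ (inv_mem a)]
      exact inv_mem a
  have cd : P ⊓ 𝐂[k] ≤ ⁅P, P⁆ := by
    obtain ⟨n, hn⟩ := hP.exists_card_eq
    rw [← cent_zpowers]
    exact inf_centralizer_le_commutator_of_eq (zpowers_le.2 kP) (by
      rw [Nat.card_zpowers, hn]; exact (Nat.coprime_two_right.2 ko).pow_right n) hk
  have cz : ∀ y ∈ P ⊓ 𝐂[u], f y = 1 ∨ f y = f ⁅s, t⁆ := fun y hy => by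
    obtain ⟨v, hv, e⟩ := h3 y hy
    have := (el_zpowers z2).mem_zp (mem_zpowers _) (der _ (cd e))
    rwa [map_mul, map_inv, f1.2 hv, inv_one, one_mul] at this
  have u1 := (cz u ⟨uP, U4.self_mem_cent1 u⟩).resolve_left fun e => uE (f1.1 e)
  have sq1 : ∀ x ∈ P, f x * f x = 1 := fun x hx => by
    rw [← map_mul]
    refine (cz _ (sq x hx)).elim id fun e => ?_
    have a1 : u⁻¹ * (x * x) ∈ E := f1.1 (by rw [map_mul, map_inv, e, u1, inv_mul_cancel])
    have a2 : x ∈ 𝐂[u] := by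
      have a3 := mem_cent.1 (hc hx) _ a1
      rw [mem_cent1]
      calc x * u = u * (u⁻¹ * (x * x) * x) * (x * x)⁻¹ * u := by group
        _ = _ := by rw [a3]; group
    rw [map_mul]
    rcases cz x ⟨hx, a2⟩ with e | e <;> rw [e]
    exacts [mul_one _, z2]
  refine uE (f1.1 (u1.trans ?_))
  rw [map_commutatorElement, commutatorElement_eq_one_iff_mul_comm]
  exact comm_of_sq (sq1 s hs) (sq1 t ht) (by rw [← map_mul]; exact sq1 _ (mul_mem hs ht))

end CfsgLib.HI
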