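import Cfsg.Agent.Lib.HI.R2a
import Cfsg.Agent.Lib.HI.R2q
import Cfsg.Agent.Lib.Gol.T1

/-!
# Strongly closed four-groups
-/

set_option autoImplicit false

namespace CfsgLib.HI

open Subgroup Cfsg CfsgLib.FT CfsgLib.FT.BGN CfsgLib.Cop CfsgLib.GW CfsgLib.Wal CfsgLib.GO
open CfsgLib.H1 (AbTwo)
open CfsgLib.FT.U4 (mem_cent1 mem_cent1' mem_cent mem_cent1_comm cent1_conj
  eq_one_of_mem_inf eq_bot_of_forall conj_mem_conj_iff orderOf_conj norm_le_norm_cent)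
open scoped commutatorElement

universe u

variable {G : Type u} [Group G] [Finite G] {Zs : Set G} {S A V : Subgroup G}

theorem eq_one_of_od {X P : Subgroup G} (hP : IsPGroup 2 P) {x : G} (h1 : x ∈ P) (h2 : x ∈ Od X) :
    x = 1 :=
  eq_one_of_odd_pow (isPGroup_zpowers_of_mem hP h1) (odd_orderOf_of_mem (odd_Od X) h2)
    (pow_orderOf_eq_one x)

theorem rigid4 (hA : El A) {s k : G} (hs : s ∈ centMod A V) (hc : s ∈ 𝐂(V))
    (hk : ∀ a ∈ A, ∃ v ∈ V, v⁻¹ * a ∈ A ⊓ 𝐂[k]) (kn : k ∈ 𝐍(A)) (kf : V ⊓ 𝐂[k] = ⊥)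
    (hVA : V ≤ A) (h : ⁅k, s⁆ ∈ 𝐂(A)) : s ∈ 𝐂(A) := mem_cent.2 fun a ha => by
  obtain ⟨v, hv, c1, c2⟩ := hk a ha
  set c := v⁻¹ * a with hc'
  have h1 := hs.2 c c1
  have h2 : s * c * s⁻¹ ∈ A := by simpa using mul_mem (hVA h1) c1
  have h3 : k * c * k⁻¹ = c := mul_inv_eq_iff_eq_mul.2 (mem_cent1'.1 c2)
  have h4 : s * c * s⁻¹ * c⁻¹ = 1 := eq_one_of_mem_inf kf h1 (mem_cent1'.2
    (mul_inv_eq_iff_eq_mul.1 (by
      calc _ = ⁅k, s⁆ * (s * (k * c * k⁻¹) * s⁻¹) * ⁅k, s⁆⁻¹ * (k * c * k⁻¹)⁻¹ := by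
            simp only [commutatorElement_def]; group
        _ = _ := by rw [h3, ← mem_cent.1 h _ h2, mul_inv_cancel_right])))
  rw [mul_inv_eq_one, mul_inv_eq_iff_eq_mul] at h4
  rw [show a = v * c by rw [hc', mul_inv_cancel_left], mul_assoc, ← h4, ← mul_assoc,
    mem_cent.1 hc v hv, mul_assoc]

omit [Finite G] in
theorem sq_mem_cent (hV : El V) {s : G} (hs : s ∈ centMod A V) (hc : s ∈ 𝐂(V)) :
    s * s ∈ 𝐂(A) := mem_cent.2 fun a ha => by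
  have h1 := hs.2 a ha
  refine (mul_inv_eq_iff_eq_mul.1 ?_).symm
  calc _ = s * (s * a * s⁻¹ * a⁻¹) * s⁻¹ * (s * a * s⁻¹ * a⁻¹) * a := by group
    _ = a := by rw [← mem_cent.1 hc _ h1, mul_inv_cancel_right, hV _ h1, one_mul]

/-- The torus of a bad involution `u`. -/
structure Tk (A V : Subgroup G) (u k : G) : Prop where
  kn : k ∈ 𝐍(A)
  ku : k ∈ 𝐂[u]
  odd : Odd (orderOf k)
  kf : V ⊓ 𝐂[k] = ⊥
  dec : ∀ y ∈ 𝐍(A), y ∈ 𝐂[u] → y ∈ 𝐂(V) → IsPGroup 2 (zpowers y) →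
    ∃ v ∈ V, ⁅v⁻¹ * y, k⁆ ∈ Od 𝐍(A)
  bad : ∀ d ∈ A, d ≠ 1 → d ∈ 𝐂[k] → ¬ Gb V 𝐂[d]

namespace CV
variable (h : CV Zs S V)
include h

theorem mem_zs4 {P : Subgroup G} (hP : IsPGroup 2 P) (h1 : zs Zs S ≤ P) {z : G} (hz : z ∈ Zs)
    (h2 : z ∈ P) : z ∈ zs Zs S := by
  have := Fact.mk Nat.prime_two
  obtain ⟨x, -, hx⟩ := h.sa.syl.exists_conj_le hP le_top
  have h3 : x ∈ 𝐍(zs Zs S) := mem_normalizer_of_conj_mem fun b hb =>
    h.sa.sc x b hb (hx (conj_mem_map_conj (h1 hb)))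
  simpa [mul_assoc] using conj_mem_of_mem_normalizer' h3
    (mem_zs_of (h.pc.conj z hz x) (hx (conj_mem_map_conj h2)))

theorem mem_zs4' {z : G} (hz : z ∈ Zs) (h2 : z ∈ 𝐍(zs Zs S)) : z ∈ zs Zs S :=
  h.mem_zs4 (isPGroup_sup' (zpowers_le.2 h2) h.sa.el.isPGroup (el_zpowers (h.pc.sq hz)).isPGroup)
    le_sup_left hz (mem_sup_right (mem_zpowers z))

theorem odd_mem4 {w : G} (hw : w ∈ 𝐂(zs Zs S)) (ho : Odd (orderOf w)) : w ∈ Od 𝐍(zs Zs S) :=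
  Od_le_Od (cent_le_norm _) (norm_le_norm_cent _) (nilp2_of_hnpc (h.pc.hnpc fun z hz hz' =>
    le_centralizer_iff.1 le_rfl (h.mem_zs4' hz' (cent_le_norm _ hz))) w hw ho)

theorem od_cent4 {X : Subgroup G} (hX : zs Zs S ≤ X) {w : G} (h1 : w ∈ Od X)
    (h2 : w ∈ 𝐍(zs Zs S)) : w ∈ 𝐂(zs Zs S) := mem_cent.2 fun a ha =>
  commutatorElement_eq_one_iff_mul_comm.1 (eq_one_of_od h.sa.el.isPGroup (comm_mem_left ha h2)
    (comm_mem_right (le_norm_Od X (hX ha)) h1))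

theorem zbar4 {y : Bar 𝐍(zs Zs S)}
    (hy : y = 1 ∨ y ∈ pr 𝐍(zs Zs S) '' ((𝐍(zs Zs S)).subtype ⁻¹' Zs) \ {1}) :
    y ∈ im 𝐍(zs Zs S) (zs Zs S) := by
  rcases hy with rfl | ⟨⟨z, hz, rfl⟩, -⟩
  · exact one_mem _
  · exact br_of_mem z.2 ▸ br_mem_im (h.mem_zs4' hz z.2) z.2

variable (h4 : Nat.card V = 4)
include h4

theorem r4 : R4 Zs S V := ⟨h.toMH, h.sv, h4, fun C h1 h2 => h.irr C h1 (h.nv.trans h2)⟩

theorem exists_tk {u : G} (u1 : u ≠ 1) (hu : u ∈ 𝐂(zs Zs S)) (hg : ¬ Gb V 𝐂[u]) :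
    ∃ k, Tk (zs Zs S) V u k := by
  have h1 := le_cent1_iff.2 hu
  obtain ⟨k, k1, k2, k3, k4, k5⟩ := (h.r4 h4).exists_torus (h.cent1_ne u1) (h.le.trans h1) hg h.sa
    h.le h1
  refine ⟨k, k1.2, k1.1, k2, (h.r4 h4).fpf (h.nv k1.2) k3, fun y y1 y2 y3 y4 => ?_,
    fun d hd => k5 d ⟨h1 hd, h.sa.el.le_cent' le_rfl h.le hd⟩ (h.sa.el d hd)⟩
  obtain ⟨v, hv, e⟩ := k4 y ⟨y2, y3⟩ y4
  exact ⟨v, hv, h.odd_mem4 (h.od_cent4 h1 e (comm_mem_left
    (mul_mem (inv_mem (le_normalizer (h.le hv))) y1) (le_normalizer k1.2)))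
    (odd_orderOf_of_mem (odd_Od _) e)⟩

theorem tk_dec {u k : G} (hu : u ∈ 𝐂(zs Zs S)) (t : Tk (zs Zs S) V u k) {a : G}
    (ha : a ∈ zs Zs S) : ∃ v ∈ V, v⁻¹ * a ∈ zs Zs S ⊓ 𝐂[k] := by
  obtain ⟨v, hv, e⟩ := t.dec a (le_normalizer ha) (le_cent1_iff.2 hu ha)
    (h.sa.el.le_cent' le_rfl h.le ha) (isPGroup_zpowers_of_mem h.sa.el.isPGroup ha)
  have h1 := mul_mem (inv_mem (h.le hv)) ha
  exact ⟨v, hv, h1, mem_cent1.2 (commutatorElement_eq_one_iff_mul_comm.1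
    (eq_one_of_od h.sa.el.isPGroup (comm_mem_left h1 t.kn) e))⟩

theorem perf4 {u k : G} (t : Tk (zs Zs S) V u k)
    (hi : ∀ w ∈ 𝐍(zs Zs S) ⊓ 𝐂(V), Odd (orderOf w) → w ∈ 𝐂(zs Zs S)) :
    (im 𝐍(zs Zs S) S).Normal ∧
      ⁅im 𝐍(zs Zs S) S, zpowers (br 𝐍(zs Zs S) k)⁆ = im 𝐍(zs Zs S) S := by
  have := Fact.mk Nat.prime_two
  have r := h.r4 h4
  set N := 𝐍(zs Zs S) with hN
  have hS : IsSylowIn 2 (im N S) ⊤ := H5.JB.sylow_im (h.sa.syl.mono h.sa.le_norm le_top)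
  have h1 : im N (N ⊓ 𝐂(V)) = im N S := hS.eq_of_le (H5.isPGroup_of_forall_coprime fun x hx e => by
    obtain ⟨w, w1, w2, rfl⟩ := mem_im.1 hx
    have o : Odd (orderOf w) := by
      have := odd_of_map (f := pr N) (x := ⟨w, w2⟩) (by rw [QuotientGroup.ker_mk']; exact odd_ker)
        (br_of_mem w2 ▸ Nat.coprime_two_right.1 e)
      rwa [← Subgroup.orderOf_coe] at this
    exact (br_eq_one w2).2 (h.odd_mem4 (hi w w1 o) o))
    (im_mono (le_inf h.sa.le_norm r.le_cent)) le_top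
  have h2 : (im N S).Normal := by
    rw [← h1, ← normalizer_eq_top_iff, eq_top_iff, ← im_self]
    exact im_norm (H1.le_normalizer_inf le_normalizer (h.nv.trans (norm_le_norm_cent V)))
  have h3 : ⊤ ≤ im N S ⊔ zpowers (br N k) := fun y _ => by
    obtain ⟨n, hn, rfl⟩ := br_surj y
    obtain ⟨a, ha, a1, -⟩ := h.sv.exists_cent
    obtain ⟨hF, hV, e0⟩ := four_of_fpf h4 (h.nv t.kn) t.kf ha (r.el.ord ha a1)
    obtain ⟨j, hj, e⟩ : ∃ j ∈ zpowers k, j * a * j⁻¹ = n⁻¹ * a * n := by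
      rcases hF.mem_V.1 (hV.ge (conj_mem_of_mem_normalizer' (h.nv hn) ha)) with e | e | e | e
      · exact absurd (by simpa [mul_assoc] using congrArg (fun x => n * x * n⁻¹) e) a1
      · exact ⟨1, one_mem _, by simpa using e.symm⟩
      · exact ⟨k, mem_zpowers k, e.symm⟩
      · exact ⟨k * k, mul_mem (mem_zpowers k) (mem_zpowers k), by rw [e, ← e0]; group⟩
    have j1 : j ∈ N := zpowers_le.2 t.kn hj
    have h5 : n * j ∈ N ⊓ 𝐂(V) := ⟨mul_mem hn j1, r.fix ha a1 (h.nv (mul_mem hn j1))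
      (mem_cent1.2 (by rw [show n * j * a = n * (j * a * j⁻¹) * j by group, e]; group))⟩
    have h6 := mul_mem (mem_sup_left (h1.le (br_mem_im h5 h5.1)))
      (inv_mem (mem_sup_right (T := zpowers (br N k)) (im_zpowers t.kn ▸ br_mem_im hj j1)))
    rwa [br_mul hn j1, mul_inv_cancel_right] at h6
  refine ⟨h2, le_antisymm (commutator_le_left _ _) (P9.le_of_le_sup_commutator
    hS.isPGroup.isNilpotent (commutator_le_left _ _) ?_)⟩
  have h5 : S ≤ pre N ⁅⊤, ⊤⁆ := h.le_of_comm h.sa fun m hm n hn =>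
    mem_pre.2 ⟨comm_mem_left hm (le_normalizer hn), br_comm hm hn ▸
      commutator_mem_commutator (mem_top _) (mem_top _)⟩
  refine ((le_pre h.sa.le_norm).1 h5).trans ((commutator_mono h3 h3).trans
    ((commutator_sup_sup_le le_normalizer_of_normal).trans (sup_le (by rw [sup_comm]) ?_)))
  rw [comm_eq_bot_iff.2 ((zpowers_le.2 (U4.self_mem_cent1 _)).trans (cent_zpowers _).ge)]
  exact bot_le

theorem fin4 (hn : ¬ AbTwo G) {u k : G} (t : Tk (zs Zs S) V u k) (uS : u ∈ S) (uV : u ∉ V)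
    (hk : ⁅im 𝐍(zs Zs S) S, zpowers (br 𝐍(zs Zs S) k)⁆ = im 𝐍(zs Zs S) S)
    (hP : (im 𝐍(zs Zs S) S).Normal)
    (h1 : ∀ s ∈ im 𝐍(zs Zs S) S, ⁅s, br 𝐍(zs Zs S) u⁆ ∈ im 𝐍(zs Zs S) V) : False := by
  have r := h.r4 h4
  set N := 𝐍(zs Zs S) with hN
  have SN : S ≤ N := h.sa.le_norm
  have VN : V ≤ N := h.sv.le.trans SN
  have hE : (im N V).Normal := by
    rw [← normalizer_eq_top_iff, eq_top_iff, ← im_self]
    exact im_norm h.nv
  have inj : ∀ s ∈ S, br N s ∈ im N V → s ∈ V := fun s hs e => by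
    obtain ⟨v, v1, v2, e⟩ := mem_im.1 e
    have := eq_one_of_od h.sa.syl.isPGroup (mul_mem (inv_mem (h.sv.le v1)) hs) ((br_eq_one
      (mul_mem (inv_mem v2) (SN hs))).1 (by rw [br_mul (inv_mem v2) (SN hs), br_inv v2, e,
        inv_mul_cancel]))
    rwa [← inv_mul_eq_one.1 this]
  have h3 : ∀ y ∈ im N S ⊓ 𝐂[br N u], ∃ v ∈ im N V, v⁻¹ * y ∈ im N S ⊓ 𝐂[br N k] := by
    rintro y ⟨y1, y2⟩
    obtain ⟨s, s1, s2, rfl⟩ := mem_im.1 y1
    obtain ⟨v, hv, e⟩ := t.dec s s2 (mem_cent1.2 (commutatorElement_eq_one_iff_mul_comm.1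
      (eq_one_of_od h.sa.syl.isPGroup (comm_mem_left s1 (le_normalizer uS))
        ((br_eq_one (comm_mem_left s2 (le_normalizer (SN uS)))).1 (by
          rw [br_comm s2 (SN uS), commutatorElement_eq_one_iff_mul_comm]
          exact mem_cent1.1 y2))))) (r.le_cent s1) (isPGroup_zpowers_of_mem h.sa.syl.isPGroup s1)
    have h5 := mul_mem (inv_mem (VN hv)) s2
    refine ⟨br N v, br_mem_im hv (VN hv), mem_inf.2 ⟨mul_mem (inv_mem (br_mem_im (h.sv.le hv)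
      (VN hv))) y1, mem_cent1.2 ?_⟩⟩
    rw [← commutatorElement_eq_one_iff_mul_comm, ← br_inv (VN hv), ← br_mul (inv_mem (VN hv)) s2,
      ← br_comm h5 t.kn]
    exact (br_eq_one (comm_mem_left h5 (le_normalizer t.kn))).2 e
  refine q8_lemma (pgroup_im h.sa.syl.isPGroup) r.el.im (by rw [card_im r.el VN, h4])
    (im_cent r.le_cent) (t.odd.of_dvd_nat (br_of_mem t.kn ▸ (orderOf_map_dvd _ _).trans
      (Subgroup.orderOf_coe (⟨k, t.kn⟩ : N)).symm.dvd)) (le_normalizer_of_normal (mem_top _))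
    (eq_bot_of_forall fun y hy => ?_) hk (br_mem_im uS (SN uS)) (fun e => uV (inj u uS e))
    (br_mem_cent1 (SN uS) t.kn (mem_cent1_comm.1 t.ku)) h1 (fun e => ?_) h3
  · obtain ⟨v, v1, v2, rfl⟩ := mem_im.1 hy.1
    rw [eq_one_of_mem_inf t.kf v1 (mem_cent1.2 (commutatorElement_eq_one_iff_mul_comm.1
      (eq_one_of_od r.el.isPGroup (comm_mem_left v1 (h.nv t.kn)) ((br_eq_one
        (comm_mem_left v2 (le_normalizer t.kn))).1 (by
          rw [br_comm v2 t.kn, commutatorElement_eq_one_iff_mul_comm]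
          exact mem_cent1.1 hy.2))))), br_one]
  · have h5 : im N S ≤ im N V := hk.ge.trans (commutator_le.2 fun x hx g hg => by
      obtain ⟨v, hv, e⟩ := h3 x ⟨hx, e hx⟩
      have h6 := mem_cent.1 ((cent_zpowers _).ge e.2) g hg
      rw [show ⁅x, g⁆ = v * ((v⁻¹ * x) * g) * (v⁻¹ * x)⁻¹ * v⁻¹ * g⁻¹ by
        simp only [commutatorElement_def]; group, ← h6,
        show v * (g * (v⁻¹ * x)) * (v⁻¹ * x)⁻¹ * v⁻¹ * g⁻¹ = v * (g * v⁻¹ * g⁻¹) by group]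
      exact mul_mem hv (hE.conj_mem _ (inv_mem hv) g))
    have h6 : S ≤ V := fun s hs => inj s hs (h5 (br_mem_im hs (SN hs)))
    exact hn (abTwo_of_el h.sa.syl (h6.trans (le_centralizer_iff.1 r.le_cent)))

theorem omega4 (hn : ¬ AbTwo G) (h1 : ∀ x ∈ S, x * x = 1 → x ∈ V) : False := by
  have := Fact.mk Nat.prime_two
  have := h.simple
  have r := h.r4 h4
  refine false_of_omega_four h.sv.syl h4 (fun x => ⟨fun hx => ⟨h.sv.le hx, r.el x hx⟩,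
    fun hx => h1 x hx.1 hx.2⟩) r.le_cent (fun e => hn (abTwo_of_el h.sv.syl fun x hx =>
      mem_cent.2 fun y hy => congrArg Subtype.val (e.is_comm.comm (⟨y, hy⟩ : S) ⟨x, hx⟩)))
    (fun e => ?_) fun a ha a1 => ?_
  · obtain ⟨ρ, r1, -, r3⟩ := r.exists_rho
    exact h.sv.ne (r3 ▸ (inf_of_le_left (le_cent1_iff.2 (e r1.2))).symm)
  have hA := r.el.le_cent1 ha
  have h2 := (r.gb_le (h.cent1_ne a1) hA (r.gdc ha a1)).trans (sup_le_sup_left
    (show 𝐂[a] ⊓ 𝐍(V) ≤ 𝐂(V) from fun n hn => r.fix ha a1 hn.2 hn.1) _)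
  have h3 : ⊤ ≤ 𝐂(im 𝐂[a] V) := by
    rw [← im_self]
    exact ((im_le_im le_rfl (cent_le_cent1 ha)).2 h2).trans (im_cent le_rfl)
  refine PCompl.hnpc_of_quotient_coprime _ (pPrimeCore_coprime 2) (PCompl.hnpc_top_iff.1
    ((h.pc.bar 𝐂[a]).hnpc ?_))
  rintro _ - ⟨⟨⟨z, z1⟩, z2, rfl⟩, -⟩
  obtain ⟨c, hc, e⟩ := (h.sv.syl.mono (r.le_cent.trans (cent_le_cent1 ha)) le_top).exists_conj_le
    (el_zpowers (h.pc.sq z2)).isPGroup (zpowers_le.2 z1)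
  have h5 := h1 _ (e (conj_mem_map_conj (mem_zpowers z))) (h.pc.sq (h.pc.conj z z2 c))
  have h6 := le_centralizer_iff.1 h3 (br_mem_im h5 (hA h5))
  rw [br_conj hc z1] at h6
  rw [← br_of_mem z1]
  simpa [mul_assoc] using (normal_centralizer (H := (⊤ : Subgroup (Bar 𝐂[a])))).conj_mem _ h6
    (br 𝐂[a] c)⁻¹

theorem eq4 (hn : ¬ AbTwo G) (hA : zs Zs S ≤ V) {u : G} (uS : u ∈ S) (u2 : u * u = 1)
    (uV : u ∉ V) (hg : ¬ Gb V 𝐂[u]) : False := by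
  obtain ⟨k, t⟩ := h.exists_tk h4 (fun e : u = 1 => uV (e ▸ one_mem _))
    (centralizer_le hA ((h.r4 h4).le_cent uS)) hg
  obtain ⟨h1, h2⟩ := h.perf4 h4 t fun w hw _ => centralizer_le hA hw.2
  refine h.fin4 h4 hn t uS uV h2 h1 ?_
  set N := 𝐍(zs Zs S) with hN
  intro s hs
  have hE : (im N V).Normal := by
    rw [← normalizer_eq_top_iff, eq_top_iff, ← im_self]
    exact im_norm h.nv
  set f := QuotientGroup.mk' (im N V) with hf
  have hI : (Subgroup.closure {x | x ∈ im N S ∧ x * x = 1}).Normal := ⟨fun x hx g => by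
    refine (?_ : (Subgroup.closure {x | x ∈ im N S ∧ x * x = 1}).map (MulAut.conj g).toMonoidHom ≤ _) (conj_mem_map_conj hx)
    rw [MonoidHom.map_closure]
    refine Subgroup.closure_mono ?_
    rintro _ ⟨w, hw, rfl⟩
    exact ⟨h1.conj_mem w hw.1 g, Invol.conj_mul_self hw.2 g⟩⟩
  have hI' := hI.map f (QuotientGroup.mk'_surjective _)
  have ko : Odd (orderOf (br N k)) := t.odd.of_dvd_nat (br_of_mem t.kn ▸
    (orderOf_map_dvd _ _).trans (Subgroup.orderOf_coe (⟨k, t.kn⟩ : N)).symm.dvd)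
  have h3 : f (br N k) ∈ 𝐂((Subgroup.closure {x | x ∈ im N S ∧ x * x = 1}).map f) := by
    rw [MonoidHom.map_closure, centralizer_closure, mem_centralizer_iff]
    rintro _ ⟨x, hx, rfl⟩
    have h5 := im_mono hA (h.zbar4 ((h.pc.bar N).p1 _ (pgroup_im h.sa.syl.isPGroup) x hx.1
      (br N k) (subset_closure ⟨ko, by rw [hx.2, mul_one, one_mul]⟩) (h1.conj_mem x hx.1 _)))
    rw [← QuotientGroup.eq_one_iff, ← QuotientGroup.mk'_apply, ← hf] at h5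
    simp only [map_mul, map_inv] at h5
    exact (mul_inv_eq_iff_eq_mul.1 (mul_inv_eq_one.1 h5)).symm
  have h5 : (im N S).map f ≤ 𝐂((Subgroup.closure {x | x ∈ im N S ∧ x * x = 1}).map f) := by
    refine (map_mono h2.ge).trans ?_
    rw [map_commutator, MonoidHom.map_zpowers]
    exact (commutator_mono le_rfl (zpowers_le.2 h3)).trans (commutator_le_right _ _)
  have uN := h.sa.le_norm uS
  rw [← QuotientGroup.eq_one_iff, ← QuotientGroup.mk'_apply, ← hf, map_commutatorElement,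
    commutatorElement_eq_one_iff_mul_comm]
  exact (mem_cent.1 (h5 ⟨s, hs, rfl⟩) _ ⟨_, subset_closure ⟨br_mem_im uS uN, by
    rw [← br_mul uN uN, u2, br_one]⟩, rfl⟩).symm

theorem beta4 (hb : Beta S (zs Zs S) V) {u k : G} (hu : u ∈ zs Zs S)
    (t : Tk (zs Zs S) V u k) : False := by
  set N := 𝐍(zs Zs S) with hN
  have SN : S ≤ N := h.sa.le_norm
  have key : ∀ {x}, x ∈ N → (br N x ∈ 𝐂[br N k] ↔ ⁅x, k⁆ ∈ Od N) := fun hx => by
    rw [mem_cent1, ← commutatorElement_eq_one_iff_mul_comm, ← br_comm hx t.kn,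
      br_eq_one (comm_mem_left hx (le_normalizer t.kn))]
  have h1 := hb.2 (S ⊓ pre N 𝐂[br N k]) inf_le_left fun y hy => by
    obtain ⟨v, hv, e⟩ := t.dec y (SN hy) (cent_le_cent1 hu (hb.1 hy)) ((h.r4 h4).le_cent hy)
      (isPGroup_zpowers_of_mem h.sa.syl.isPGroup hy)
    have h2 := mul_mem (inv_mem (h.sv.le hv)) hy
    simpa using mul_mem (mem_sup_left (h.le hv)) (mem_sup_right
      (mem_inf.2 ⟨h2, mem_pre.2 ⟨SN h2, (key (SN h2)).2 e⟩⟩))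
  refine h.sv.ne (t.kf ▸ (inf_of_le_left fun v hv => ?_).symm)
  exact mem_cent1.2 (commutatorElement_eq_one_iff_mul_comm.1 (eq_one_of_od h.sv.el.isPGroup
    (comm_mem_left hv (h.nv t.kn)) ((key (SN (h.sv.le hv))).1 (mem_pre.1 (h1 hv).2).2)))

theorem alpha4 (hn : ¬ AbTwo G) (ha : Alpha (zs Zs S) V) {u k : G} (hu : u ∈ zs Zs S)
    (uV : u ∉ V) (t : Tk (zs Zs S) V u k) : False := by
  have := Fact.mk Nat.prime_two
  have r := h.r4 h4
  have hA := h.sa.el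
  set A := zs Zs S with hAd
  have cn : centMod A V ≤ 𝐍(A) := fun g hg => mem_normalizer_of_conj_mem fun a ha => by
    simpa using mul_mem (h.le (hg.2 a ha)) ha
  have nc : 𝐍(A) ≤ 𝐍(centMod A V) := P9.le_normalizer_centMod le_rfl h.nv
  have ac : A ≤ centMod A V := fun a ha => ⟨h.nv (le_normalizer ha), fun b hb => by
    rw [hA.comm ha hb, mul_inv_cancel_right, mul_inv_cancel]; exact one_mem _⟩
  have oc : ∀ w ∈ centMod A V ⊓ 𝐂(V), Odd (orderOf w) → w ∈ 𝐂(A) := fun w hw o =>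
    H5.mem_of_sq_mem_of_odd (Nat.coprime_two_right.2 o) (pow_two w ▸ sq_mem_cent r.el hw.1 hw.2)
  have odc : Od 𝐍(A) ≤ 𝐂(A) := fun w hw => h.od_cent4 le_normalizer hw (Od_le _ hw)
  have rig : ∀ {d j s : G}, d ∈ A → Tk A V d j → s ∈ centMod A V → s ∈ 𝐂(V) → ⁅j, s⁆ ∈ 𝐂(A) →
      s ∈ 𝐂(A) := fun hd t h1 h2 h3 =>
    rigid4 hA h1 h2 (fun a ha => h.tk_dec h4 (hA.le_cent hd) t ha) t.kn t.kf h.le h3
  obtain ⟨s, ⟨s1, s2⟩, s3⟩ : ∃ s ∈ S ⊓ centMod A V, s ∉ 𝐂(A) := by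
    by_contra! e
    have kc : k ∈ centMod A V := ⟨h.nv t.kn, fun a ha => by
      obtain ⟨v, hv, c1, c2⟩ := h.tk_dec h4 (hA.le_cent hu) t ha
      have h1 : k * (v⁻¹ * a) * k⁻¹ = v⁻¹ * a := mul_inv_eq_iff_eq_mul.2 (mem_cent1'.1 c2)
      rw [show k * a * k⁻¹ * a⁻¹ = k * v * k⁻¹ * (k * (v⁻¹ * a) * k⁻¹) * a⁻¹ by group, h1,
        mul_assoc, mul_inv_cancel_right]
      exact mul_mem (conj_mem_of_mem_normalizer (h.nv t.kn) hv) (inv_mem hv)⟩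
    have h1 := ((h.sa.syl.inf_of_le_normalizer (K := centMod A V) le_top
      (h.sa.le_norm.trans nc)).subgroupOf cn).map A.normalizerMonoidHom
    rw [(Subgroup.map_eq_bot_iff _).2 (by
      rw [normalizerMonoidHom_ker]; exact fun x hx => e x hx), IsSylowIn.bot_iff] at h1
    have h2 := ha ⟨k, t.kn⟩ (le_Od (map_le_range _ _) ?_
      (Nat.not_even_iff_odd.1 (by rwa [even_iff_two_dvd])) ⟨⟨k, t.kn⟩, kc, rfl⟩)
    · exact h.sv.ne (t.kf ▸ (inf_of_le_left (le_cent1_iff.2 h2)).symm)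
    · rw [MonoidHom.range_eq_map]
      refine (map_mono fun n _ => ?_).trans (le_normalizer_map _)
      rw [← subgroupOf_normalizer_eq cn]
      exact nc n.2
  have sV := r.le_cent s1
  have sp := isPGroup_zpowers_of_mem h.sa.syl.isPGroup s1
  have inj : ∀ d ∈ A ⊓ 𝐂[k], d ≠ 1 → s * d * s⁻¹ * d⁻¹ ≠ 1 := fun d hd d1 e => by
    obtain ⟨j, tj⟩ := h.exists_tk h4 d1 (hA.le_cent hd.1) (t.bad d hd.1 d1 hd.2)
    obtain ⟨v, hv, e⟩ := tj.dec s (cn s2) (mem_cent1.2 (mul_inv_eq_iff_eq_mul.1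
      (mul_inv_eq_one.1 e))) sV sp
    have h1 := rig hd.1 tj (mul_mem (inv_mem (ac (h.le hv))) s2)
      (mul_mem (inv_mem (r.el.le_cent hv)) sV) (commutatorElement_inv _ j ▸ inv_mem (odc e))
    exact s3 (by simpa using mul_mem (hA.le_cent (h.le hv)) h1)
  obtain ⟨v, hv, e⟩ := t.dec (s * s) (cn (mul_mem s2 s2))
    (cent_le_cent1 hu (sq_mem_cent r.el s2 sV)) (mul_mem sV sV)
    (isPGroup_zpowers_of_mem h.sa.syl.isPGroup (mul_mem s1 s1))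
  have nv : ∀ d ∈ A ⊓ 𝐂[k], s * d * s⁻¹ * d⁻¹ ≠ v⁻¹ := fun d hd e' => by
    have x1 : d * s ∈ centMod A V ⊓ 𝐂(V) :=
      ⟨mul_mem (ac hd.1) s2, mul_mem (hA.le_cent' le_rfl h.le hd.1) sV⟩
    have x2 := cn x1.1
    have x3 : d * s * (d * s) = v⁻¹ * (s * s) := by
      calc _ = d * (s * d * s⁻¹ * d⁻¹) * d * (s * s) := by group
        _ = _ := by
          rw [e', hA.comm hd.1 (inv_mem (h.le hv)), mul_assoc v⁻¹, hA d hd.1, mul_one]
    have hU : IsPGroup 2 (im 𝐍(A) (centMod A V ⊓ 𝐂(V))) :=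
      H5.isPGroup_of_forall_coprime fun x hx e => by
        obtain ⟨w, w1, w2, rfl⟩ := mem_im.1 hx
        have o : Odd (orderOf w) := by
          have := odd_of_map (f := pr 𝐍(A)) (x := ⟨w, w2⟩)
            (by rw [QuotientGroup.ker_mk']; exact odd_ker) (br_of_mem w2 ▸ Nat.coprime_two_right.1 e)
          rwa [← Subgroup.orderOf_coe] at this
        exact (br_eq_one w2).2 (h.odd_mem4 (oc w w1 o) o)
    have x4 : k * (d * s) * k⁻¹ ∈ centMod A V ⊓ 𝐂(V) :=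
      ⟨conj_mem_of_mem_normalizer (nc t.kn) x1.1,
        conj_mem_of_mem_normalizer (norm_le_norm_cent V (h.nv t.kn)) x1.2⟩
    have x5 := mul_mem x2 x2
    have h5 := h.zbar4 ((h.pc.bar 𝐍(A)).p1 _ hU _ (br_mem_im x1 x2) (br 𝐍(A) k) (subset_closure
      ⟨t.odd.of_dvd_nat (br_of_mem t.kn ▸ (orderOf_map_dvd _ _).trans
        (Subgroup.orderOf_coe (⟨k, t.kn⟩ : 𝐍(A))).symm.dvd), by
        rw [← br_mul x2 x2, eq_comm, ← commutatorElement_eq_one_iff_mul_comm, ← br_comm x5 t.kn,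
          br_eq_one (comm_mem_left x5 (le_normalizer t.kn)), x3]
        exact e⟩) (br_conj t.kn x2 ▸ br_mem_im x4 (cn x4.1)))
    rw [← commutatorElement_def, ← br_comm t.kn x2, ← zpowers_le,
      ← im_zpowers (comm_mem_left t.kn (le_normalizer x2)),
      im_le_im (zpowers_le.2 (comm_mem_left t.kn (le_normalizer x2))) le_normalizer] at h5
    have h6 := rig hu t x1.1 x1.2 (sup_le odc hA.le_cent (h5 (mem_zpowers _)))
    exact s3 (by simpa using mul_mem (inv_mem (hA.le_cent hd.1)) h6)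
  have uD : u ∈ A ⊓ 𝐂[k] := ⟨hu, mem_cent1_comm.1 t.ku⟩
  have u1 : u ≠ 1 := fun e => uV (e ▸ one_mem _)
  have hD : ∀ d ∈ A ⊓ 𝐂[k], d = 1 ∨ d = u := fun d hd => by
    by_contra! e'
    have m1 : s * (u * d) * s⁻¹ * (u * d)⁻¹ = s * u * s⁻¹ * u⁻¹ * (s * d * s⁻¹ * d⁻¹) := by
      calc _ = s * u * s⁻¹ * u⁻¹ * (u * (s * d * s⁻¹ * d⁻¹) * u⁻¹) := by group
        _ = _ := by rw [hA.comm hu (h.le (s2.2 d hd.1)), mul_inv_cancel_right]
    have m2 := mul_mem uD hd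
    rcases mem_four r.el h4 (s2.2 u hu) (s2.2 d hd.1) (inj u uD u1) (inj d hd e'.1) (fun e => by
      refine inj _ m2 (fun e => e'.2 ?_) (by rw [m1, e]; exact r.el _ (s2.2 d hd.1))
      rw [eq_inv_of_mul_eq_one_right e, hA.inv hu]) (inv_mem hv)
      (fun e => nv 1 (one_mem _) (by rw [e]; simp)) with e | e | e
    exacts [nv u uD e.symm, nv d hd e.symm, nv _ m2 (m1.trans e.symm)]
  have dec : ∀ a ∈ A, a ∈ V ∨ a * u⁻¹ ∈ V := fun a ha => by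
    obtain ⟨w, hw, c⟩ := h.tk_dec h4 (hA.le_cent hu) t ha
    rcases hD _ c with e | e
    · exact Or.inl (inv_mul_eq_one.1 e ▸ hw)
    · exact Or.inr (by rw [← e]; simpa using hw)
  have all : 𝐍(A) ≤ centMod A V := fun n hn => ⟨h.nv hn, fun a ha => by
    rcases dec a ha with e | e
    · exact mul_mem (conj_mem_of_mem_normalizer (h.nv hn) e) (inv_mem e)
    rcases dec _ (conj_mem_of_mem_normalizer hn ha) with e' | e'
    · have h1 : a ∈ V := by simpa [mul_assoc] using conj_mem_of_mem_normalizer' (h.nv hn) e'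
      exact mul_mem e' (inv_mem h1)
    · simpa [mul_assoc] using mul_mem e' (inv_mem e)⟩
  obtain ⟨h1, h2⟩ := h.perf4 h4 t fun w hw => oc w ⟨all hw.1, hw.2⟩
  refine h.fin4 h4 hn t (h.sa.le hu) uV h2 h1 fun y hy => ?_
  obtain ⟨y, y1, y2, rfl⟩ := mem_im.1 hy
  rw [← br_comm y2 (le_normalizer hu)]
  have h3 := (all y2).2 u hu
  exact br_mem_im h3 (le_normalizer (h.le h3))

end CV

theorem CV.zd_four (h : CV Zs S V) (hn : ¬ AbTwo G) (h4 : Nat.card V = 4) : ∃ M, ZD V M := by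
  have r := h.r4 h4
  by_contra hz
  have key : ∀ u ∈ 𝐂(V), u * u = 1 → u ∉ V → ∃ v ∈ V, ¬ Gb V 𝐂[u * v] := fun u hu u2 u1 => by
    by_contra! e
    exact hz (r.exists_zd hu u2 u1 (fun a ha a1 => r.gdc ha a1) e)
  by_cases hA : zs Zs S ≤ V
  · refine h.omega4 h4 hn fun x hx x2 => by_contra fun x1 => ?_
    obtain ⟨v, hv, e⟩ := key x (r.le_cent hx) x2 x1
    exact h.eq4 h4 hn hA (mul_mem hx (h.sv.le hv))
      (sq_of_comm x2 (r.el v hv) (mem_cent.1 (r.le_cent hx) v hv).symm)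
      (fun e => x1 (by simpa using mul_mem e (inv_mem hv))) e
  obtain ⟨x, hx, x1⟩ := SetLike.not_le_iff_exists.1 hA
  obtain ⟨v, hv, e⟩ := key x (h.sa.el.le_cent' le_rfl h.le hx) (h.sa.el x hx) x1
  have h1 := mul_mem hx (h.le hv)
  have h2 : x * v ∉ V := fun e => x1 (by simpa using mul_mem e (inv_mem hv))
  obtain ⟨k, t⟩ := h.exists_tk h4 (fun e : x * v = 1 => h2 (by rw [e]; exact one_mem _)) (h.sa.el.le_cent h1) e
  exact h.ab.elim (fun a => h.alpha4 h4 hn a h1 h2 t) fun b => h.beta4 h4 b h1 t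

end CfsgLib.HI
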