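import Cfsg.Agent.Lib.HI.Choice
import Cfsg.Agent.Lib.HI.Rank2
import Cfsg.Agent.Lib.HI.B1
import Cfsg.Agent.Lib.HI.B2

/-!
# Simple groups without real elements of order `4`
-/

set_option autoImplicit false

namespace CfsgLib.HI

open Subgroup Cfsg CfsgLib.FT CfsgLib.FT.BGN CfsgLib.Cop CfsgLib.GW CfsgLib.Wal CfsgLib.GO
open CfsgLib.H1 (AbTwo)
open CfsgLib.FT.U4 (mem_cent1 mem_cent1' mem_cent mem_cent1_comm cent1_conj
  eq_one_of_mem_inf eq_bot_of_forall conj_mem_conj_iff orderOf_conj norm_le_norm_cent)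
open scoped commutatorElement

universe u

theorem MH.main (G : Type u) [Group G] [Finite G] (Zs : Set G) (h : MH G Zs) :
    AbTwo G ∨ ∃ M : Subgroup G, IsStronglyEmbedded M := by
  refine or_iff_not_imp_left.2 fun hn => ?_
  obtain ⟨S, V, c⟩ := h.exists_cv hn
  obtain ⟨M, hM⟩ : ∃ M, ZD V M := by
    by_cases h4 : Nat.card V = 4
    · exact c.zd_four hn h4
    have h8 := eight_le c.sv.el c.four_le h4
    exact c.ab.elim (fun e => c.zd_of_noMv h8 (c.noMv e)) (c.zd_of_beta h8)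
  exact c.se_of_zd hM

theorem NR.fin4030 {G : Type u} [Group G] [Finite G] [IsSimpleGroup G] (h : NR G)
    (hna : ¬ IsMulCommutative G) : Fin4030 G := h.fin_of MH.main hna

end CfsgLib.HI
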