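import Cfsg.Agent.Lib.HI.Core
import Cfsg.Agent.Lib.Gol.R2b

/-!
# Strongly closed four-groups in minimal counterexamples: basic facts
-/

set_option autoImplicit false

namespace CfsgLib.HI

open Subgroup Cfsg CfsgLib.FT CfsgLib.FT.BGN CfsgLib.Cop CfsgLib.GW CfsgLib.Wal CfsgLib.GO
open CfsgLib.H1 (AbTwo CharIn layerIn genFitIn dSub)
open CfsgLib.FT.U4 (mem_cent1 mem_cent1' mem_cent mem_cent1_comm cent1_conj
  eq_one_of_mem_inf eq_bot_of_forall conj_mem_conj_iff orderOf_conj norm_le_norm_cent)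
open scoped commutatorElement

universe u

variable {G : Type u} [Group G] [Finite G] {Zs : Set G} {S A X : Subgroup G}

/-- A strongly closed four-group. -/
structure R4 (Zs : Set G) (S A : Subgroup G) : Prop where
  mc : MH G Zs
  sca : SCA S A
  card : Nat.card A = 4
  irr : GO.Irr A

/-- The component of a bad subgroup. -/
structure BA (A X : Subgroup G) (J : Subgroup (Bar X)) : Prop where
  tc : TC ⊤ J
  ab : AbTwo (Zq J)
  zb : J ⊓ 𝐂(J) = ⊥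
  syl : IsSylowIn 2 (im X A) J
  nrm : ∀ g, g ∈ 𝐍(J)
  inn : ∀ g ∈ 𝐂(im X A), ∀ n : ℕ, g ^ 2 ^ n = 1 → ∃ l ∈ im X A, l⁻¹ * g ∈ 𝐂(J)

theorem BA.simple {J : Subgroup (Bar X)} (h : BA A X J) : IsSimpleGroup J :=
  have := zq_simple h.tc.2
  ((QuotientGroup.quotientMulEquivOfEq (M := ⊥) (by
    rw [eq_comm, subgroupOf_eq_bot, disjoint_iff, inf_comm, h.zb])).symm.trans
    QuotientGroup.quotientBot).symm.isSimpleGroup

namespace R4
variable (h : R4 Zs S A)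
include h

theorem el : El A := h.sca.el

theorem simple : IsSimpleGroup G := h.mc.simple

theorem four {a b : G} (ha : a ∈ A) (hb : b ∈ A) (a1 : a ≠ 1) (b1 : b ≠ 1) (e : a ≠ b) :
    Four a b := h.el.four ha hb a1 b1 e

theorem V_eq {a b : G} (h4 : Four a b) (ha : a ∈ A) (hb : b ∈ A) : V a b = A :=
  eq_of_le_of_card_ge (V_le ha hb) (by rw [h.card, h4.card_V])

theorem exists_four {a : G} (ha : a ∈ A) (a1 : a ≠ 1) : ∃ b ∈ A, Four a b :=
  h.el.exists_four h.card.ge ha a1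

theorem trans {u v : G} (hu : u ∈ A) (hv : v ∈ A) (u1 : u ≠ 1) (v1 : v ≠ 1) :
    ∃ n ∈ 𝐍(A), n * u * n⁻¹ = v := h.irr.trans4 h.el h.card hu hv u1 v1

/-- `N(A) / C(A)` has order three. -/
theorem fix {a n : G} (ha : a ∈ A) (a1 : a ≠ 1) (hn : n ∈ 𝐍(A)) (hc : n ∈ 𝐂[a]) :
    n ∈ 𝐂(A) := by
  classical
  have := Fintype.ofFinite A
  obtain ⟨b, hb, hF⟩ := h.exists_four ha a1
  have hV := h.V_eq hF ha hb
  have xa : n * a * n⁻¹ = a := mul_inv_eq_iff_eq_mul.2 (mem_cent1.1 hc)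
  by_contra h6
  have xb : n * b * n⁻¹ = a * b := by
    rcases hF.mem_V.1 (hV.ge (conj_mem_of_mem_normalizer hn hb)) with e | e | e | e
    · exact absurd (by simpa using e) hF.s1
    · rw [← xa] at e
      exact absurd (by simpa using e.symm) hF.ne
    · refine absurd ?_ h6
      rw [← hV, cent_V]
      exact ⟨hc, mem_cent1.2 (mul_inv_eq_iff_eq_mul.1 e)⟩
    · exact e
  have xab : n * (a * b) * n⁻¹ = b := by
    rw [← _root_.conj_mul, xa, xb, ← mul_assoc, hF.tt, one_mul]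
  let f : 𝐍(A) →* ℤˣ := Equiv.Perm.sign.comp ((MulAut.toPerm A).comp A.normalizerMonoidHom)
  obtain ⟨y, hy, e⟩ := h.mc.le_of_two h.sca (N := f.ker.map (𝐍(A)).subtype)
    (fun m hm n hn h1 h2 => ⟨⟨m, hm⟩ * ⟨n, hn⟩, by
      rw [SetLike.mem_coe, MonoidHom.mem_ker, map_mul,
        (Int.units_eq_one_or (f ⟨m, hm⟩)).resolve_left fun e => h1 ⟨_, e, rfl⟩,
        (Int.units_eq_one_or (f ⟨n, hn⟩)).resolve_left fun e => h2 ⟨_, e, rfl⟩]
      simp, rfl⟩) hn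
  obtain rfl : y = ⟨n, hn⟩ := Subtype.ext e
  have h1 : (⟨b, hb⟩ : A) ≠ ⟨a * b, mul_mem ha hb⟩ := fun e =>
    a1 (by simpa using congrArg Subtype.val e)
  have h2 : (MulAut.toPerm A) (A.normalizerMonoidHom ⟨n, hn⟩) =
      Equiv.swap ⟨b, hb⟩ ⟨a * b, mul_mem ha hb⟩ := by
    ext ⟨x, hx⟩
    change n * x * n⁻¹ = _
    rcases hF.mem_V.1 (hV.ge hx) with rfl | rfl | rfl | rfl
    · rw [Equiv.swap_apply_of_ne_of_ne (fun e => hF.s1 (congrArg Subtype.val e).symm)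
        fun e => hF.ts1 (congrArg Subtype.val e).symm]
      simp
    · rw [Equiv.swap_apply_of_ne_of_ne (fun e => hF.ne (congrArg Subtype.val e))
        fun e => hF.s1 (by simpa using congrArg Subtype.val e), xa]
    · rw [Equiv.swap_apply_left, xb]
    · rw [Equiv.swap_apply_right, xab]
  have h3 : f ⟨n, hn⟩ = -1 := by
    change Equiv.Perm.sign ((MulAut.toPerm A) (A.normalizerMonoidHom ⟨n, hn⟩)) = -1
    rw [h2, Equiv.Perm.sign_swap h1]
  rw [SetLike.mem_coe, MonoidHom.mem_ker, h3] at hy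
  exact absurd hy (by decide)

theorem two_le_cent {P : Subgroup G} (hP : IsPGroup 2 P) (hn : P ≤ 𝐍(A)) : P ≤ 𝐂(A) :=
  let ⟨_, ha, a1, e⟩ := exists_cent_of_two h.el.isPGroup h.sca.ne hP hn
  fun x hx => h.fix ha a1 (hn hx) (mem_cent1.2 (mem_cent.1 e x hx))

theorem two_le_cent' {P : Subgroup G} (hP : IsPGroup 2 P) (hn : A ≤ 𝐍(P)) : P ≤ 𝐂(A) :=
  h.two_le_cent hP ((h.sca.scin le_top).le_norm' hP hn le_top)

theorem le_cent : S ≤ 𝐂(A) := h.two_le_cent h.sca.syl.isPGroup h.sca.le_norm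

theorem fpf {n : G} (hn : n ∈ 𝐍(A)) (h1 : n ∉ 𝐂(A)) : A ⊓ 𝐂[n] = ⊥ :=
  eq_bot_of_forall fun _ ha => by_contra fun a1 => h1 (h.fix ha.1 a1 hn (mem_cent1_comm.1 ha.2))

theorem cube {n : G} (hn : n ∈ 𝐍(A)) : n ^ 3 ∈ 𝐂(A) := by
  by_cases h1 : n ∈ 𝐂(A)
  · exact pow_mem h1 3
  obtain ⟨x, hx, x1, -⟩ := h.sca.exists_cent
  obtain ⟨a, -, b⟩ := four_of_fpf h.card hn (h.fpf hn h1) hx (h.el.ord hx x1)
  refine h.fix hx x1 (pow_mem hn 3) (mem_cent1.2 (mul_inv_eq_iff_eq_mul.1 ?_))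
  calc _ = n * (n * (n * x * n⁻¹) * n⁻¹) * n⁻¹ := by rw [pow_succ, sq]; group
    _ = x := by rw [b, ← _root_.conj_mul, b, ← mul_assoc, ← a.comm, mul_assoc x, a.ss, mul_one]

/-- A `3`-element normalizing `S` and permuting the involutions of `A`. -/
theorem exists_rho : ∃ ρ ∈ 𝐍(A) ⊓ 𝐍(S), (∃ k, ρ ^ 3 ^ k = 1) ∧ A ⊓ 𝐂[ρ] = ⊥ := by
  have := Fact.mk Nat.prime_two
  obtain ⟨ρ, r1, -, r3⟩ := h.irr.exists_fpf h.el h.card
  obtain ⟨c, hc, e⟩ := (h.sca.syl.mono h.le_cent le_top).frattini_elem (norm_le_norm_cent _ r1)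
  have h1 : c * ρ ∈ 𝐍(A) ⊓ 𝐍(S) := ⟨mul_mem (cent_le_norm _ hc) r1, e⟩
  obtain ⟨u, hu, v, hv, e1, -, ⟨j, hj⟩, ov⟩ := exists_p_part Nat.prime_three (c * ρ)
  have h2 := zpowers_le.2 h1 hu
  refine ⟨u, h2, ⟨j, hj ▸ pow_orderOf_eq_one u⟩, h.fpf h2.1 fun h3 => h.sca.ne ?_⟩
  have h4 : v ∈ 𝐂(A) := zpowers_le.2 (h.cube (zpowers_le.2 h1 hv).1)
    (mem_zpowers_pow_iff.2 ov.symm)
  have h5 : ρ ∈ 𝐂(A) := by simpa using mul_mem (inv_mem hc) (e1.symm ▸ mul_mem h3 h4 : c * ρ ∈ _)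
  exact r3 ▸ (inf_of_le_left (le_cent1_iff.2 h5)).symm

variable (hX : X ≠ ⊤) (hA : A ≤ X)
include hX hA

theorem gb_norm (hg : Gb A X) (g : Bar X) : g ∈ 𝐍(im X A) := by
  have l := h.mc.lo_bar hX
  have sc := (h.sca.scin hA).bar
  refine sc.norm (H1.pCoreOf_isPGroup ⊤) (fun b hb => l.mem_pc sc hb fun J hJ => ?_) le_top trivial
    (H1.le_normalizer_pCoreOf ⊤ trivial)
  by_contra e
  obtain ⟨Q, K, T, m, s⟩ := l.exists_smov sc hJ (fun e' => e (e' hb)) (hg J hJ fun e' => e (e' hb))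
  have := (s.eight T m.tQ m.cov).trans (card_le_of_le m.tA)
  rw [card_im h.el hA, h.card] at this
  omega

theorem gb_le (hg : Gb A X) : X ≤ Od X ⊔ X ⊓ 𝐍(A) := by
  rw [← im_le_im le_rfl inf_le_left, ← norm_im h.el.isPGroup hA]
  exact fun g _ => h.gb_norm hX hA hg g

theorem gb_comm (hg : Gb A X) {U : Subgroup G} (hU : U ≤ X) (ho : Odd (Nat.card U))
    (hn : A ≤ 𝐍(U)) : ⁅U, A⁆ ≤ Od X := by
  rw [← im_le_cent hU hA]
  exact LD.le_cent_of_comm le_rfl (im_norm hn) le_rfl (fun g _ => h.gb_norm hX hA hg g)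
    (eq_bot_of_odd_of_two (odd_card_of_le (odd_im ho) inf_le_left) h.el.im.isPGroup inf_le_right)

theorem exists_ba (hg : ¬ Gb A X) : ∃ J, BA A X J := by
  have := Fact.mk Nat.prime_two
  have l := h.mc.lo_bar hX
  have sc := (h.sca.scin hA).bar
  simp only [Good, not_forall] at hg
  obtain ⟨J, hJ, hm, hs⟩ := hg
  have h3 := (l.kn J hJ).resolve_right hs
  obtain ⟨Q, K, T, m, -⟩ := l.exists_mov' sc hJ hm
  obtain rfl : T = im X A :=
    eq_of_le_of_card_ge m.tA (by rw [card_im h.el hA, h.card]; exact m.four)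
  have zb := mov_zbot m sc.el h3
  have nrm : ∀ g, g ∈ 𝐍(J) := fun g => by
    obtain ⟨t, ht, t1⟩ := m.exists_ne
    rcases (hJ.cj' (g := g) (le_normalizer (mem_top g))).eq_or hJ with e | e
    · exact mem_normalizer_of_map_conj_eq e
    have h4 := (map_mono m.tL).trans e
    have h5 := sc.sc _ (sc.el.sup (sc.el.cj g) (h4.trans (centralizer_le m.tL))).isPGroup
      le_sup_left le_top g trivial t ht (mem_sup_right (conj_mem_map_conj ht))
    exact absurd (eq_one_of_mem_inf zb (m.tL h5) (h4 (conj_mem_map_conj ht))) (by simpa using t1)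
  exact ⟨J, hJ, h3, zb, (mov_eq m sc.el h3).symm ▸ m.syl, nrm, fun g hg n hn =>
    mov_dec m sc.el h3 (nrm g) hg (n := n) (hn ▸ one_mem _)⟩

/-- Pump-up. -/
theorem bad_of_cent {J : Subgroup (Bar X)} (b : BA A X J) {d : G} (hd : d ∈ X ⊓ 𝐂(A))
    (d2 : d * d = 1) (d1 : d ≠ 1) (h1 : br X d ∈ 𝐂(J)) : ¬ Gb A 𝐂[d] := fun hg => by
  have hA' : A ≤ 𝐂[d] := le_cent1_iff.2 hd.2
  have h2 : 𝐂[d] ≤ 𝐍(Od 𝐂[d] ⊔ A) := (h.gb_le (h.mc.cent1_ne d1) hA' hg).trans (sup_le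
    (le_sup_left.trans le_normalizer) (H1.le_normalizer_sup (inf_le_left.trans (le_norm_Od _))
      inf_le_right))
  have h3 : Group.IsSolvable ↥(Od 𝐂[d] ⊔ A) := sup_comm A _ ▸ isSolvable_sup
    (hA'.trans (le_norm_Od _)) h.el.solv (solvable_of_odd (odd_Od _))
  have h4 : J ≤ 𝐍(im X (Od 𝐂[d] ⊔ A)) := fun y hy =>
    im_norm (inf_le_right.trans h2) ((cent1_br d2 hd.1).le (mem_cent1.2 (mem_cent.1 h1 y hy)))
  obtain ⟨a, ha, a1, -⟩ := h.sca.exists_cent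
  rcases eq_bot_or_eq_of_simple b.simple (inf_le_left (b := im X (Od 𝐂[d] ⊔ A)))
    (H1.le_normalizer_inf le_normalizer h4) with e | e
  · exact br_ne_one (h.el a ha) (hA ha) a1 (eq_one_of_mem_inf e
      (b.syl.le (br_mem_im ha (hA ha))) (br_mem_im (mem_sup_right ha) (hA ha)))
  · have := b.simple
    have h5 : Group.IsSolvable J := isSolvable_of_le (solv_im h3) (inf_eq_left.1 e)
    exact b.tc.not_le_cent fun x hx => mem_cent.2 fun y hy => congrArg Subtype.val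
      (IsSimpleGroup.comm_iff_isSolvable.2 h5 ⟨y, hy⟩ ⟨x, hx⟩)

/-- The torus of a bad subgroup. -/
theorem exists_torus (hg : ¬ Gb A X) {B : Subgroup G} (hB : SCA S B) (h1 : A ≤ B) (h2 : B ≤ X) :
    ∃ k ∈ X ⊓ 𝐍(B), Odd (orderOf k) ∧ k ∉ 𝐂(A) ∧ (∀ y ∈ X ⊓ 𝐂(A), IsPGroup 2 (zpowers y) →
      ∃ v ∈ A, ⁅v⁻¹ * y, k⁆ ∈ Od X) ∧
      ∀ d ∈ X ⊓ 𝐂(A), d * d = 1 → d ≠ 1 → d ∈ 𝐂[k] → ¬ Gb A 𝐂[d] := by
  have := Fact.mk Nat.prime_two
  obtain ⟨J, b⟩ := h.exists_ba hX hA hg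
  have l := h.mc.lo_bar hX
  have sc := (hB.scin h2).bar
  obtain ⟨a, ha, a1, -⟩ := h.sca.exists_cent
  obtain ⟨c, hc, h4⟩ := h.exists_four ha a1
  have a2 := br_mem_im ha (hA ha)
  have a3 := br_ne_one (h.el a ha) (hA ha) a1
  obtain ⟨Q, K, T, m, -⟩ := l.exists_mov' sc b.tc fun e =>
    a3 (eq_one_of_mem_inf b.zb (b.syl.le a2) (e (im_mono h1 a2)))
  have h3 : im X A ≤ T := (le_inf (im_mono h1) b.syl.le).trans (mov_inf m sc.el b.ab).le
  obtain ⟨k, hk, e⟩ := m.trt _ (h3 a2) _ (h3 (br_mem_im hc (hA hc))) a3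
    (br_ne_one (h.el c hc) (hA hc) h4.s1)
  obtain ⟨k, k1, k2, rfl⟩ := mem_im.1 ((norm_im hB.el.isPGroup h2).le (m.kn hk))
  have k3 : k ∉ 𝐂(A) := fun k3 => h4.ne (eq_of_br h.el hA ha hc (by
    rw [← e, ← br_conj k2 (hA ha), ← mem_cent.1 k3 a ha, mul_inv_cancel_right]))
  refine ⟨k, k1, ?_, k3, fun y hy y2 => ?_, fun d hd d2 d1 dk => h.bad_of_cent hX hA b hd d2 d1 ?_⟩
  · exact odd_of_map (f := pr X) (x := ⟨k, k2⟩) (by rw [QuotientGroup.ker_mk']; exact odd_ker)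
      (br_of_mem k2 ▸ odd_orderOf_of_mem m.odd hk) |> fun e => by rwa [← Subgroup.orderOf_coe] at e
  · obtain ⟨n, hn⟩ := y2 ⟨y, mem_zpowers y⟩
    obtain ⟨v, hv, h5⟩ := b.inn (br X y) (im_cent (zpowers_le.2 hy.2) (br_mem_im (mem_zpowers y) hy.1))
      n (by rw [← br_pow hy.1, show y ^ 2 ^ n = 1 from congrArg Subtype.val hn, br_one])
    obtain ⟨v, v1, v2, rfl⟩ := mem_im.1 hv
    have h6 := mul_mem (inv_mem v2) hy.1
    refine ⟨v, v1, (br_eq_one (comm_mem_left h6 (le_normalizer k2))).1 ?_⟩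
    rw [br_comm h6 k2, br_mul (inv_mem v2) hy.1, br_inv v2, commutatorElement_eq_one_iff_mul_comm]
    exact (mem_cent.1 h5 _ (m.le hk)).symm
  · obtain ⟨v, hv, h5⟩ := b.inn (br X d) (im_cent (zpowers_le.2 hd.2) (br_mem_im (mem_zpowers d) hd.1))
      1 (by rw [pow_one, pow_two, ← br_mul hd.1 hd.1, d2, br_one])
    obtain ⟨v, v1, v2, rfl⟩ := mem_im.1 hv
    have h6 : Commute (br X k) ((br X v)⁻¹ * br X d) := mem_cent.1 h5 _ (m.le hk)
    have h7 : Commute (br X k) (br X d) := mem_cent1'.1 (br_mem_cent1 hd.1 k2 dk)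
    have h8 : Commute (br X k) (br X v) := by simpa using (h7.mul_right h6.inv_right)
    have kn : k ∈ 𝐍(A) := mem_normalizer_of_conj_mem fun x hx =>
      h.sca.sc k x hx (hB.le (conj_mem_of_mem_normalizer k1.2 (h1 hx)))
    have h9 : k * v * k⁻¹ = v := eq_of_br h.el hA (conj_mem_of_mem_normalizer kn v1) v1 (by
      rw [br_conj k2 v2, h8.eq, mul_inv_cancel_right])
    rwa [eq_one_of_mem_inf (h.fpf kn k3) v1 (mem_cent1'.2 (mul_inv_eq_iff_eq_mul.1 h9)), br_one,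
      inv_one, one_mul] at h5

omit hX hA in
/-- The involutions of `A` are good. -/
theorem gdc {a : G} (ha : a ∈ A) (a1 : a ≠ 1) : Gb A 𝐂[a] := by
  by_contra hg
  have h1 := h.el.le_cent1 ha
  obtain ⟨J, b⟩ := h.exists_ba (h.mc.cent1_ne a1) h1 hg
  refine br_ne_one (h.el a ha) (h1 ha) a1 (eq_one_of_mem_inf b.zb (b.syl.le (br_mem_im ha (h1 ha)))
    (mem_cent.2 fun y _ => ?_))
  obtain ⟨y, hy, rfl⟩ := br_surj y
  exact mem_cent1.1 (br_mem_cent1 hy (h1 ha) hy)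

end R4

theorem R4.theta (h : R4 Zs S A) (hg : ∀ a ∈ A, a ≠ 1 → Gb A 𝐂[a]) (V : Subgroup G) :
    Odd (Nat.card V) → A ≤ 𝐍(V) → ⁅V, A⁆ = V → V ⊓ 𝐂(A) ≤ Od 𝐂(A) := by
  induction V using WellFoundedLT.induction with | ind V ih =>
  intro ho hn hV
  by_cases h0 : V = ⊥
  · exact inf_le_left.trans (h0.le.trans bot_le)
  obtain ⟨x, hx, x1, e⟩ : ∃ x ∈ A, x ≠ 1 ∧ ⁅V, zpowers x⁆ ≠ V := by
    by_contra! e
    exact (der_lt_of_solvable (solvable_of_odd ho) h0).not_ge (gen_pt h.el h.card.ge ho hn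
      fun x hx x1 => cent_zpowers x ▸ inf_centralizer_le_commutator_of_eq
        ((zpowers_le.2 hx).trans hn) ((h.el.mono (zpowers_le.2 hx)).coprime ho) (e x hx x1))
  have x2 := zpowers_le.2 hx
  have eX := h.el.mono x2
  have u1 := commutator_le_left_of_le_normalizer (x2.trans hn)
  have u2 : A ≤ 𝐍(⁅V, zpowers x⁆) := le_normalizer_commutator hn (h.el.le_norm x2)
  have u3 : V ≤ 𝐍(⁅V, zpowers x⁆) := normalizer_commutator_ge_left _ _
  have c1 : A ≤ 𝐍(V ⊓ 𝐂[x]) := H1.le_normalizer_inf hn ((h.el.le_cent1 hx).trans le_normalizer)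
  have y1 := (commutator_le_left_of_le_normalizer c1).trans inf_le_left
  have h1 : V ≤ ⁅V, zpowers x⁆ ⊔ ⁅V ⊓ 𝐂[x], A⁆ := hV.ge.trans (commutator_le.2 fun v hv a ha => by
    obtain ⟨u, hu, c, hc, rfl⟩ := mem_sup_norm (inf_le_left.trans u3)
      ((comm_sup_cent eX ho (x2.trans hn)).ge hv)
    rw [show ⁅u * c, a⁆ = u * ⁅c, a⁆ * (a * u⁻¹ * a⁻¹) by
      simp only [commutatorElement_def]; group]
    exact mul_mem (mul_mem (mem_sup_left hu) (mem_sup_right (commutator_mem_commutator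
      (cent_zpowers x ▸ hc) ha))) (mem_sup_left (conj_mem_of_mem_normalizer (u2 ha) (inv_mem hu))))
  refine (inf_le_inf_right _ h1).trans ((cent_sup_of_cop u2 (normalizer_commutator_ge_right _ _)
    (y1.trans u3) (h.el.coprime (odd_card_of_le ho (inf_le_left.trans u1)))
    (Or.inl h.el.solv)).le.trans (sup_le (ih _ (lt_of_le_of_ne u1 e) (odd_card_of_le ho u1) u2
      (le_antisymm (commutator_le_left_of_le_normalizer u2) ((comm_comm eX ho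
        (x2.trans hn)).ge.trans (commutator_mono le_rfl x2)))) ?_))
  exact (inf_le_inf_right _ (h.gb_comm (h.mc.cent1_ne x1) (h.el.le_cent1 hx) (hg x hx x1)
    inf_le_right (odd_card_of_le ho inf_le_left) c1)).trans (Od_inf_le (cent_le_cent1 hx))

theorem R4.exists_zd (h : R4 Zs S A) {u : G} (hu : u ∈ 𝐂(A)) (u2 : u * u = 1) (h1 : u ∉ A)
    (hg : ∀ a ∈ A, a ≠ 1 → Gb A 𝐂[a]) (hg' : ∀ a ∈ A, Gb A 𝐂[u * a]) : ∃ M, ZD A M := by
  have hE := h.el.sup (el_zpowers u2) (zpowers_le.2 hu)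
  have hc : A ⊔ zpowers u ≤ 𝐂(A) := hE.le_cent' le_rfl le_sup_left
  have h8 : 8 ≤ Nat.card ↥(A ⊔ zpowers u) := eight_le hE (h.card ▸ card_le_of_le le_sup_left)
    fun e => h1 ((eq_of_le_of_card_ge le_sup_left (e.trans h.card.symm).le).ge
      (mem_sup_right (mem_zpowers u)))
  have g : ∀ e ∈ A ⊔ zpowers u, e ≠ 1 → Gb A 𝐂[e] := fun e he e1 => by
    obtain ⟨a, ha, z, hz, rfl⟩ := hE.mem_sup le_sup_left le_sup_right he
    rcases hE.mem_zp (mem_sup_right (mem_zpowers u)) hz with rfl | rfl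
    · exact hg _ (by simpa using ha) e1
    · exact mem_cent.1 hu a ha ▸ hg' a ha
  have n1 : ∀ e ∈ A ⊔ zpowers u, A ⊔ zpowers u ≤ 𝐍(Od 𝐂[e]) := fun e he =>
    (hE.le_cent1 he).trans (le_norm_Od _)
  have k1 : ∀ e ∈ A ⊔ zpowers u, Kk A e ≤ Od 𝐂[e] := fun e he =>
    commutator_le_left_of_le_normalizer (le_sup_left.trans (n1 e he))
  have k2 : ∀ e, 𝐂(A) ⊓ 𝐂[e] ≤ 𝐍(Kk A e) := fun e => le_normalizer_commutator
    (inf_le_right.trans (le_norm_Od _)) (inf_le_left.trans (cent_le_norm A))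
  have k3 : ∀ e, 𝐂(A) ⊓ 𝐂[e] ≤ 𝐍(Od 𝐂(A) ⊓ 𝐂[e]) := fun e => H1.le_normalizer_inf
    (inf_le_left.trans (le_norm_Od _)) (inf_le_right.trans le_normalizer)
  have k4 : ∀ e, Od 𝐂(A) ⊓ 𝐂[e] ≤ 𝐍(Kk A e) := fun e => (inf_le_inf_right _ (Od_le _)).trans (k2 e)
  have n2 : ∀ e ∈ A ⊔ zpowers u, A ⊔ zpowers u ≤ 𝐍(Kk A e ⊔ Od 𝐂(A) ⊓ 𝐂[e]) := fun e he =>
    (le_inf hc (hE.le_cent1 he)).trans (H1.le_normalizer_sup (k2 e) (k3 e))
  have o : ∀ e ∈ A ⊔ zpowers u, Odd (Nat.card ↥(Kk A e ⊔ Od 𝐂(A) ⊓ 𝐂[e])) := fun e he =>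
    LD.odd_sup (k4 e) (odd_card_of_le (odd_Od _) inf_le_left) (odd_card_of_le (odd_Od _) (k1 e he))
  obtain ⟨W, w1, w2, w3, w4⟩ := sig hE h8 (fun e => Kk A e ⊔ Od 𝐂(A) ⊓ 𝐂[e])
    (fun e he _ => sup_le ((k1 e he).trans (Od_le _)) inf_le_right) (fun e he _ => n2 e he)
    (fun e he _ => o e he) fun e he e1 f hf f1 => by
      have fA := le_sup_left.trans (hE.le_cent1 hf)
      have eA := le_inf h.el.le_cent (le_sup_left.trans (hE.le_cent1 he))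
      have a1 := H1.le_normalizer_inf (le_sup_left.trans (n2 e he)) (fA.trans le_normalizer)
      have a2 := odd_card_of_le (o e he) (inf_le_left (b := 𝐂[f]))
      refine (comm_sup_cent h.el a2 a1).ge.trans (sup_le_sup ((comm_comm h.el a2 a1).ge.trans
        (commutator_mono (h.gb_comm (h.mc.cent1_ne f1) fA (g f hf f1) inf_le_right a2 a1) le_rfl))
        (le_inf ((inf_le_inf_right _ inf_le_left).trans ((cent_sup_of_cop (eA.trans (k2 e))
          (eA.trans (k3 e)) (k4 e) (h.el.coprime (odd_card_of_le (odd_Od _)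
            (inf_le_left.trans (k1 e he)))) (Or.inl h.el.solv)).le.trans (sup_le ?_
          (inf_le_left.trans inf_le_left)))) (inf_le_left.trans inf_le_right)))
      exact h.theta hg _ (odd_card_of_le (odd_Od _) (k1 e he)) (eA.trans (k2 e))
        (comm_comm h.el (odd_Od _) (le_sup_left.trans (n1 e he)))
  have key : ∀ M, M ≠ ⊤ → 𝐍(A) ≤ M → W ≤ M → ZD A M := fun M a b c => ⟨a, b, fun x hx x1 =>
    (h.gb_le (h.mc.cent1_ne x1) (h.el.le_cent1 hx) (hg x hx x1)).trans (sup_le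
      ((comm_sup_cent h.el (odd_Od _) (le_sup_left.trans (n1 x (mem_sup_left hx)))).ge.trans
        ((sup_le_sup_left (le_inf (Od_inf_le (cent_le_cent1 hx)) (inf_le_left.trans (Od_le _)))
          _).trans ((w3 x (mem_sup_left hx) x1).trans c))) (inf_le_right.trans b))⟩
  by_cases h0 : W = ⊥
  · exact ⟨_, key _ (h.mc.norm_ne h.sca.ne h.el.solv) le_rfl (h0.le.trans bot_le)⟩
  refine ⟨_, key _ (h.mc.norm_odd_ne h0 w1) (fun n hn => mem_norm_of_le (cj_le_iff.2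
    (gen_pt h.el h.card.ge w1 (le_sup_left.trans w2) fun b hb b1 =>
      (w4 b (mem_sup_left hb) b1).trans (cj_le_iff.1 ?_)))) le_normalizer⟩
  have h2 := conj_mem_of_mem_normalizer hn hb
  refine le_trans ?_ (w3 _ (mem_sup_left h2) (by simpa using b1))
  rw [Subgroup.map_sup, Kk_cj hn, map_conj_inf, cj_cent1,
    map_conj_eq_of_mem_normalizer (norm_le_norm_Od _ (norm_le_norm_cent _ hn))]

end CfsgLib.HI
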