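import Cfsg.Agent.Lib.HI.Defs

/-!
# Conjugates of a flag in an irreducible module
-/

set_option autoImplicit false

namespace CfsgLib.HI

open Subgroup Cfsg CfsgLib.FT CfsgLib.FT.BGN CfsgLib.Cop CfsgLib.GW CfsgLib.Wal CfsgLib.GO
open CfsgLib.H1 (AbTwo)
open CfsgLib.FT.U4 (mem_cent1 mem_cent1' mem_cent mem_cent1_comm cent1_conj
  eq_one_of_mem_inf eq_bot_of_forall conj_mem_conj_iff orderOf_conj norm_le_norm_cent)
open scoped commutatorElement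

universe u

variable {G : Type u} [Group G] [Finite G] {V D T K N : Subgroup G}

/-- The conjugates of `D` under `N` are equal or orthogonal if they meet. -/
def Orth (N D T : Subgroup G) : Prop :=
  ∀ n ∈ N, D ⊓ n •ᶜ D ≠ ⊥ → n •ᶜ D = D ∨ (T ≤ n •ᶜ D ∧ n •ᶜ T ≤ D)

/-- The conjugates of `D` under `N` form a partition of `V`. -/
structure Spread (V N D : Subgroup G) : Prop where
  ti : ∀ n ∈ N, n •ᶜ D = D ∨ D ⊓ n •ᶜ D = ⊥
  cov : ∀ v ∈ V, ∃ n ∈ N, v ∈ n •ᶜ D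

/-- The standing hypotheses. -/
structure Sh (V N D T K : Subgroup G) : Prop extends Flag V D T K where
  nv : N ≤ 𝐍(V)
  kN : K ≤ N
  vN : V ≤ N
  irr : ∀ C ≤ V, N ≤ 𝐍(C) → C = ⊥ ∨ C = V
  two : ∀ H : Subgroup G, (∀ m ∈ N, ∀ n ∈ N, m ∉ H → n ∉ H → m * n ∈ H) → N ≤ H
  ne : D ≠ ⊥

/-- `x` lies in a conjugate of `D`. -/
def Oc (N D : Subgroup G) (x : G) : Prop := ∃ n ∈ N, x ∈ n •ᶜ D

omit [Finite G] in
theorem Oc.conj {x m : G} (h : Oc N D x) (hm : m ∈ N) : Oc N D (m * x * m⁻¹) :=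
  let ⟨n, hn, e⟩ := h
  ⟨m * n, mul_mem hm hn, by rw [← cj_cj]; exact conj_mem_map_conj e⟩

omit [Finite G] in
theorem Oc.of_conj {x m : G} (hm : m ∈ N) (h : Oc N D (m * x * m⁻¹)) : Oc N D x := by
  simpa [mul_assoc] using h.conj (inv_mem hm)

omit [Finite G] in
theorem cj_one' (D : Subgroup G) : (1 : G) •ᶜ D = D := cj_eq_of_mem (one_mem D)

omit [Finite G] in
theorem Oc.of_mem {x : G} (h : x ∈ D) : Oc N D x := ⟨1, one_mem _, by rwa [cj_one']⟩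

omit [Finite G] in
theorem ti_cj (ti : ∀ n ∈ N, n •ᶜ D = D ∨ D ⊓ n •ᶜ D = ⊥) {m n x : G} (hm : m ∈ N) (hn : n ∈ N)
    (h1 : x ∈ m •ᶜ D) (h2 : x ∈ n •ᶜ D) (x1 : x ≠ 1) : m •ᶜ D = n •ᶜ D := by
  rcases ti (m⁻¹ * n) (mul_mem (inv_mem hm) hn) with e | e
  · rw [← cj_cj, cj_eq_iff, inv_inv] at e; exact e.symm
  · refine absurd ?_ x1
    have : m⁻¹ * x * m⁻¹⁻¹ ∈ D ⊓ (m⁻¹ * n) •ᶜ D := by
      refine ⟨?_, by rw [← cj_cj]; exact conj_mem_map_conj h2⟩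
      rw [inv_inv]; exact mem_map_conj_iff.1 h1
    rw [e, mem_bot] at this
    exact conj_eq_one_iff.1 this

omit [Finite G] in
theorem ti_one (ti : ∀ n ∈ N, n •ᶜ D = D ∨ D ⊓ n •ᶜ D = ⊥) {n x : G} (hn : n ∈ N)
    (h1 : x ∈ D) (h2 : x ∈ n •ᶜ D) (x1 : x ≠ 1) : n •ᶜ D = D :=
  (ti n hn).resolve_right fun e => x1 (eq_one_of_mem_inf e h1 h2)

theorem mem_of_odd_idx {H : Subgroup G} (hH : H ≤ N) (ho : Odd (H.relIndex N)) {g : G}
    (hg : g ∈ N) (hn : g ∈ 𝐍(H)) (g2 : g * g ∈ H) : g ∈ H := by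
  have h1 : H ≤ 𝐍(H) ⊓ N := le_inf le_normalizer hH
  have : (H.subgroupOf (𝐍(H) ⊓ N)).Normal := (normal_subgroupOf_iff_le_normalizer h1).2 inf_le_left
  obtain ⟨k, hk⟩ : Odd (H.relIndex (𝐍(H) ⊓ N)) :=
    ho.of_dvd_nat ⟨_, (relIndex_mul_relIndex H _ N h1 inf_le_right).symm⟩
  have h2 : g ^ H.relIndex (𝐍(H) ⊓ N) ∈ H :=
    pow_index_mem (H.subgroupOf (𝐍(H) ⊓ N)) ⟨g, hn, hg⟩
  rwa [hk, pow_succ, pow_mul, sq, mul_mem_cancel_left (pow_mem g2 k)] at h2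

theorem odd_idx_of_sq {H : Subgroup G} (hH : N ≤ 𝐍(H))
    (h : ∀ g ∈ N, g * g ∈ H → g ∈ H) : Odd (H.relIndex N) := by
  have := Fact.mk Nat.prime_two
  have : (H.subgroupOf N).Normal := normal_subgroupOf_of_le_normalizer hH
  rw [← Nat.not_even_iff_odd, even_iff_two_dvd]
  intro e
  obtain ⟨x, hx⟩ := exists_prime_orderOf_dvd_card' (G := N ⧸ H.subgroupOf N) 2 e
  obtain ⟨g, rfl⟩ := QuotientGroup.mk_surjective x
  have h1 := pow_orderOf_eq_one (g : N ⧸ H.subgroupOf N)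
  rw [hx, sq, ← QuotientGroup.mk_mul, QuotientGroup.eq_one_iff] at h1
  rw [(QuotientGroup.eq_one_iff g).2 (h g g.2 h1), orderOf_one] at hx
  omega

open scoped IsMulCommutative in
theorem hupN {A : Subgroup G} (hA : El A) (hN : N ≤ 𝐍(A)) (ho : Odd ((𝐂(A)).relIndex N))
    (htr : ∀ u ∈ A, ∀ v ∈ A, u ≠ 1 → v ≠ 1 → ∃ n ∈ N, n * u * n⁻¹ = v) {d : G} (hd : d ∈ A)
    (h1 : d ≠ 1) {m : ℕ} (hm : Nat.card A = 2 ^ m) (h0 : 0 < m) {t : G} (ht : t ∈ A) :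
    ∃ f : ℕ → G, ∀ n ∈ N ⊓ 𝐂[d], ∃ j < m, n * t * n⁻¹ = f j := by
  classical
  have := Fact.mk Nat.prime_two
  have := hA.mulComm
  have : Nontrivial A := ⟨⟨⟨d, hd⟩, 1, fun h => h1 (congrArg Subtype.val h)⟩⟩
  have ho : Odd (Nat.card (A.normalizerMonoidHom.comp (inclusion hN)).range) := by
    rwa [← index_ker, ← MonoidHom.comap_ker, normalizerMonoidHom_ker, comap_inclusion_subgroupOf]
  obtain ⟨F, i1, i2, i3, e, a1, a2, a3⟩ := Suz.huppert_field (r := 2) (V := A)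
    (φ := (A.normalizerMonoidHom.comp (inclusion hN)).range.subtype) ho (solvable_of_odd ho)
    (fun v => Subtype.ext (by change (v : G) ^ 2 = 1; rw [sq]; exact hA v v.2))
    (Nat.coprime_two_right.2 ho) fun a b ha hb => by
      obtain ⟨n, hn, h⟩ := htr a a.2 b b.2 (fun h => ha (Subtype.ext h)) fun h => hb (Subtype.ext h)
      exact ⟨⟨_, ⟨n, hn⟩, rfl⟩, Subtype.ext h⟩
  have e1 : e 1 = 0 := by
    have := a2 1 1
    rw [mul_one] at this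
    exact left_eq_add.1 this
  have ed : e ⟨d, hd⟩ ≠ 0 := fun h => h1 (congrArg Subtype.val (a1.1 (h.trans e1.symm)))
  have hc : Fintype.card F = 2 ^ m := by
    rw [← hm, ← Nat.card_eq_fintype_card, Nat.card_eq_of_bijective e a1]
  have hp : ∀ (x : F) (k : ℕ), x ^ 2 ^ (m * k) = x := fun x k => by
    rw [pow_mul, ← hc, FiniteField.pow_card_pow]
  refine ⟨fun j => ((Function.invFun e ((e ⟨t, ht⟩ / e ⟨d, hd⟩) ^ 2 ^ j * e ⟨d, hd⟩) : A) : G),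
    fun n hn => ?_⟩
  obtain ⟨c, j, -, h⟩ := a3 ⟨_, ⟨n, hn.1⟩, rfl⟩
  have h2 : e ⟨d, hd⟩ = c * e ⟨d, hd⟩ ^ 2 ^ j := by
    rw [← h]; congr 1
    exact Subtype.ext (by
      change d = n * d * n⁻¹
      rw [mem_cent1.1 hn.2, mul_inv_cancel_right])
  have h3 : e ⟨n * t * n⁻¹, conj_mem_of_mem_normalizer (hN hn.1) ht⟩ = c * e ⟨t, ht⟩ ^ 2 ^ j :=
    h ⟨t, ht⟩
  have h4 : e ⟨n * t * n⁻¹, conj_mem_of_mem_normalizer (hN hn.1) ht⟩ / e ⟨d, hd⟩ =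
      (e ⟨t, ht⟩ / e ⟨d, hd⟩) ^ 2 ^ j := by
    rw [h3, div_pow, div_eq_div_iff ed (pow_ne_zero _ ed)]
    linear_combination (-e ⟨t, ht⟩ ^ 2 ^ j) * h2
  refine ⟨j % m, Nat.mod_lt _ h0, ?_⟩
  rw [← Nat.div_add_mod j m, pow_add, pow_mul, hp] at h4
  simp only
  rw [← h4, div_mul_cancel₀ _ ed, Function.leftInverse_invFun a1.1]

namespace Sh

variable (h : Sh V N D T K)
include h

omit [Finite G] in
theorem tle : T ≤ V := le_sup_left.trans h.sup.le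

omit [Finite G] in
theorem dle : D ≤ V := le_sup_right.trans h.sup.le

omit [Finite G] in
theorem dec {v : G} (hv : v ∈ V) : ∃ t ∈ T, ∃ a ∈ D, t * a = v :=
  mem_sup_norm (h.dle.trans (h.el.le_norm h.tle)) (h.sup.ge hv)

theorem card : Nat.card V = Nat.card T * Nat.card D := by
  have := h.el.card_sup h.tle h.dle
  rwa [h.sup, h.inf, card_bot, mul_one] at this

omit [Finite G] in
theorem cj_le {n : G} (hn : n ∈ N) {X : Subgroup G} (hX : X ≤ V) : n •ᶜ X ≤ V :=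
  cj_le_of_norm hX (h.nv hn)

omit [Finite G] in
theorem eq1 {x : G} (h1 : x ∈ T) (h2 : x ∈ D) : x = 1 := eq_one_of_mem_inf h.inf h1 h2

theorem tne : T ≠ ⊥ := fun e => by have := h.four; rw [e, card_bot] at this; omega

theorem tnV : T ≠ V := fun e => h.ne (eq_bot_of_forall fun x hx => h.eq1 (e.ge (h.dle hx)) hx)

theorem dnV : D ≠ V := fun e => h.tne (eq_bot_of_forall fun x hx => h.eq1 hx (e.ge (h.tle hx)))

theorem exists_ne : ∃ n ∈ N, n •ᶜ D ≠ D := by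
  by_contra! e
  exact (h.irr D h.dle fun n hn => map_conj_eq_iff_mem_normalizer.1 (e n hn)).elim h.ne h.dnV

omit [Finite G] in
theorem mov {a t t' : G} (ha : a ∈ D) (ht : t ∈ T) (ht' : t' ∈ T) (t1 : t ≠ 1) (t2 : t' ≠ 1) :
    ∃ k ∈ K, k * (t * a) * k⁻¹ = t' * a := by
  obtain ⟨k, hk, rfl⟩ := h.tr t ht t' ht' t1 t2
  refine ⟨k, hk, ?_⟩
  rw [← _root_.conj_mul, ← mem_cent.1 (h.kc hk) a ha, mul_inv_cancel_right]

omit [Finite G] in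
theorem oc_mov {a t t' : G} (ha : a ∈ D) (ht : t ∈ T) (ht' : t' ∈ T) (t1 : t ≠ 1)
    (ho : Oc N D (t * a)) : Oc N D (t' * a) := by
  by_cases t2 : t' = 1
  · rw [t2, one_mul]; exact .of_mem ha
  obtain ⟨k, hk, e⟩ := h.mov ha ht ht' t1 t2
  exact e ▸ ho.conj (h.kN hk)

/-- A conjugate of `D` meeting `T` trivially meets every coset of `T`. -/
theorem cmp {n : G} (hn : n ∈ N) (hT : n •ᶜ D ⊓ T = ⊥) {a : G} (ha : a ∈ V) :
    ∃ s ∈ T, s * a ∈ n •ᶜ D := by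
  have h1 := h.el.card_sup (h.cj_le hn h.dle) h.tle
  rw [hT, card_bot, mul_one, card_map_conj, mul_comm, ← h.card] at h1
  have h2 := eq_of_le_of_card_ge (sup_le (h.cj_le hn h.dle) h.tle) h1.ge
  obtain ⟨e, he, s, hs, rfl⟩ := mem_sup_norm (h.tle.trans (h.el.le_norm (h.cj_le hn h.dle)))
    (h2.ge ha)
  refine ⟨s, hs, ?_⟩
  rwa [h.el.comm (h.cj_le hn h.dle he) (h.tle hs), ← mul_assoc, h.el s (h.tle hs), one_mul]

theorem cmp' (ti : ∀ n ∈ N, n •ᶜ D = D ∨ D ⊓ n •ᶜ D = ⊥) {n : G} (hn : n ∈ N)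
    (hD : n •ᶜ D ≠ D) (hT : n •ᶜ D ⊓ T = ⊥) {a : G} (ha : a ∈ D) (a1 : a ≠ 1) :
    ∃ s ∈ T, s ≠ 1 ∧ s * a ∈ n •ᶜ D := by
  obtain ⟨s, hs, e⟩ := h.cmp hn hT (h.dle ha)
  refine ⟨s, hs, ?_, e⟩
  rintro rfl
  exact hD (ti_one ti hn ha (by simpa using e) a1)

theorem third (ti : ∀ n ∈ N, n •ᶜ D = D ∨ D ⊓ n •ᶜ D = ⊥) {n : G} (hn : n ∈ N)
    (hD : n •ᶜ D ≠ D) (hT : n •ᶜ D ⊓ T = ⊥) {v : G} (hv : v ∈ V) (hv' : v ∉ T) : Oc N D v := by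
  obtain ⟨t, ht, a, ha, rfl⟩ := h.dec hv
  obtain ⟨s, hs, s1, e⟩ := h.cmp' ti hn hD hT ha (by rintro rfl; exact hv' (by simpa using ht))
  exact h.oc_mov ha hs ht s1 ⟨n, hn, e⟩

theorem oc_T (ti : ∀ n ∈ N, n •ᶜ D = D ∨ D ⊓ n •ᶜ D = ⊥) {t : G} (ht : t ∈ T) : Oc N D t := by
  by_contra h0
  have h1 : ∀ s ∈ T, Oc N D s → s = 1 := fun s hs ho => by
    by_contra s1
    exact h0 (by simpa using h.oc_mov (one_mem D) hs ht s1 (by simpa using ho))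
  obtain ⟨n, hn, hD⟩ := h.exists_ne
  have hT : n •ᶜ D ⊓ T = ⊥ := eq_bot_of_forall fun x hx => h1 x hx.2 ⟨n, hn, hx.1⟩
  refine (h.irr T h.tle fun m hm => mem_normalizer_of_conj_mem fun s hs => ?_).elim h.tne h.tnV
  by_contra e
  have := h1 s hs (.of_conj hm (h.third ti hn hD hT
    (conj_mem_of_mem_normalizer (h.nv hm) (h.tle hs)) e))
  exact e (by simp [this])

omit [Finite G] in
theorem keyA {x s : G} (hx : x ∈ V) (ho : ¬ Oc N D x) (hs : s ∈ T) (h1 : Oc N D (x * s)) :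
    x * s ∈ D := by
  obtain ⟨t, ht, a, ha, rfl⟩ := h.dec hx
  have e : t * a * s = t * s * a := by
    rw [mul_assoc, h.el.comm (h.dle ha) (h.tle hs), mul_assoc]
  rw [e] at h1 ⊢
  by_cases e1 : t * s = 1
  · rwa [e1, one_mul]
  · exact absurd (h.oc_mov ha (mul_mem ht hs) ht e1 h1) ho

omit [Finite G] in
theorem keyB {n x s : G} (hn : n ∈ N) (hx : x ∈ V) (ho : ¬ Oc N D x) (hs : s ∈ n •ᶜ T)
    (h1 : Oc N D (x * s)) : x * s ∈ n •ᶜ D := by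
  have h2 := h.keyA (conj_mem_of_mem_normalizer (inv_mem (h.nv hn)) hx)
    (fun e => ho (.of_conj (inv_mem hn) e)) (mem_map_conj_iff.1 hs)
    (by convert h1.conj (inv_mem hn) using 1; group)
  rw [mem_map_conj_iff]
  convert h2 using 1; group

theorem exists_T (ti : ∀ n ∈ N, n •ᶜ D = D ∨ D ⊓ n •ᶜ D = ⊥) (hc : Nat.card D ≤ Nat.card T)
    {u : G} (hu : u ∈ V) (ho : ¬ Oc N D u) : ∃ m ∈ N, m •ᶜ D = T := by
  obtain ⟨t, ht, t1⟩ := exists_mem_ne_one h.tne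
  obtain ⟨n, hn, hnt⟩ := h.oc_T ti ht
  by_cases hT : T ≤ n •ᶜ D
  · exact ⟨n, hn, (eq_of_le_of_card_ge hT (by rwa [card_map_conj])).symm⟩
  obtain ⟨t0, ht0, a, ha, rfl⟩ := h.dec hu
  have hU : ∀ b ∈ D, ∀ r ∈ T, ∀ r' ∈ T, r' ≠ 1 → ¬ Oc N D (r * b) → ¬ Oc N D (r' * b) :=
    fun b hb r hr r' hr' r1 e e' => e (h.oc_mov hb hr' hr r1 e')
  have cm : ∀ x ∈ V, ∀ y ∈ V, x * y = y * x := fun x hx y hy => h.el.comm hx hy
  refine ⟨n⁻¹, inv_mem hn, (cj_eq_iff.1 (eq_of_le_of_card_ge (fun s hs => ?_)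
    (by rwa [card_map_conj]))).symm⟩
  have hsV := h.cj_le hn h.tle hs
  obtain ⟨r, hr, b, hb, rfl⟩ := h.dec hsV
  have e1 : ∀ r' ∈ T, r' * a * (r * b) = r' * r * (a * b) := fun r' hr' => by
    rw [mul_assoc, ← mul_assoc a, cm a (h.dle ha) r (h.tle hr)]; group
  by_cases r1 : r = 1
  · simpa [r1] using hb
  exfalso
  have h1 : ¬ Oc N D (r * (a * b)) := fun e => hT fun x hx => by
    have h2 : ∀ r' ∈ T, r' ≠ 1 → r' * a * (r * b) ∈ n •ᶜ D := fun r' hr' r2 =>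
      h.keyB hn (mul_mem (h.tle hr') (h.dle ha)) (hU a ha t0 ht0 r' hr' r2 ho) hs
        (by rw [e1 r' hr']; exact h.oc_mov (mul_mem ha hb) hr (mul_mem hr' hr) r1 e)
    by_cases x1 : x = 1
    · rw [x1]; exact one_mem _
    obtain ⟨c, hc, hF⟩ := (h.el.mono h.tle).exists_four h.four hx x1
    have := mul_mem (h2 _ (mul_mem hx hc) hF.ts1) (inv_mem (h2 c hc hF.s1))
    convert this using 1; group
  have h2 : r * (a * b) * (r * b) = a := by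
    rw [cm a (h.dle ha) b (h.dle hb), ← mul_assoc r b a, cm (r * b) hsV a (h.dle ha), mul_assoc,
      h.el _ hsV, mul_one]
  have h3 := h.keyB hn (mul_mem (h.tle hr) (h.dle (mul_mem ha hb))) h1 hs
    (by rw [h2]; exact .of_mem ha)
  rw [h2] at h3
  by_cases a1 : a = 1
  · exact ho (by simpa [a1] using h.oc_T ti ht0)
  · exact t1 (h.eq1 ht ((ti_one ti hn ha h3 a1).le hnt))

theorem cov (ti : ∀ n ∈ N, n •ᶜ D = D ∨ D ⊓ n •ᶜ D = ⊥) (hc : Nat.card D ≤ Nat.card T)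
    {u : G} (hu : u ∈ V) : Oc N D u := by
  by_contra ho
  obtain ⟨m, hm, e⟩ := h.exists_T ti hc hu ho
  have h1 : ∀ n ∈ N, n •ᶜ D ≠ D → n •ᶜ D = T := fun n hn hD => by
    by_contra hT
    refine ho (h.third ti hn hD (eq_bot_of_forall fun x hx => ?_) hu fun e' => ho (h.oc_T ti e'))
    by_contra x1
    exact hT ((ti_cj ti hn hm hx.1 (e.ge hx.2) x1).trans e)
  obtain ⟨n, hn, h2⟩ := h.exists_ne
  refine h2 (map_conj_eq_of_mem_normalizer (h.two 𝐍(D) (fun a ha b hb a1 b1 => ?_) hn))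
  rw [← map_conj_eq_iff_mem_normalizer] at a1 b1 ⊢
  by_contra h3
  have h4 := h1 _ (mul_mem ha hb) h3
  rw [← cj_cj, ← h1 a ha a1, cj_inj] at h4
  exact b1 h4

theorem shape1 (ho : Orth N D T) :
    (∀ n ∈ N, n •ᶜ D = D ∨ (T ≤ n •ᶜ D ∧ n •ᶜ T ≤ D)) ∨ Spread V N D := by
  rcases lt_or_ge (Nat.card T) (Nat.card D) with hc | hc
  · refine Or.inl fun n hn => ho n hn fun e => ?_
    have h1 := h.el.card_sup h.dle (h.cj_le hn h.dle)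
    have h2 := card_le_of_le (sup_le h.dle (h.cj_le hn h.dle))
    rw [e, card_bot, mul_one, card_map_conj] at h1
    rw [h1, h.card] at h2
    have : 0 < Nat.card D := Nat.card_pos
    nlinarith
  have ti : ∀ n ∈ N, n •ᶜ D = D ∨ D ⊓ n •ᶜ D = ⊥ := fun n hn => by
    by_cases e : D ⊓ n •ᶜ D = ⊥
    · exact Or.inr e
    refine Or.inl ((ho n hn e).resolve_right fun e' => e ?_)
    rw [← eq_of_le_of_card_ge e'.1 (by rwa [card_map_conj]), inf_comm, h.inf]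
  exact Or.inr ⟨ti, fun v hv => h.cov ti hc hv⟩

theorem idx_cent {t : G} (ht : t ∈ T) (t1 : t ≠ 1) : (𝐂[t]).relIndex K + 1 = Nat.card T := by
  rw [← Frob.ncard_conj_subgroup, show {y | ∃ x ∈ K, x * t * x⁻¹ = y} = (T : Set G) \ {1} from ?_]
  · exact Set.ncard_sdiff_singleton_add_one (one_mem T)
  · ext y
    exact ⟨fun ⟨x, hx, e⟩ => e ▸ ⟨conj_mem_of_mem_normalizer (h.kn hx) ht,
      fun e' => t1 (conj_eq_one_iff.1 e')⟩, fun hy => h.tr t ht y hy.1 t1 hy.2⟩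

theorem odd_cent {t : G} (ht : t ∈ T) (t1 : t ≠ 1) : Odd ((𝐂[t]).relIndex K) := by
  obtain ⟨m, hm⟩ := (h.el.mono h.tle).isPGroup.exists_card_eq
  have h1 := h.idx_cent ht t1
  have h2 := h.four
  rw [← Nat.not_even_iff_odd, ← Nat.even_add_one, h1, hm, Nat.even_pow]
  refine ⟨even_two, ?_⟩
  rintro rfl
  omega

omit [Finite G] in
theorem kd {k : G} (hk : k ∈ K) : k •ᶜ D = D := cj_eq_of_mem_cent (h.kc hk)

variable (hs : Spread V N D)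
include hs

theorem odd_norm : Odd ((𝐍(D)).relIndex N) := by
  have := Fact.mk Nat.prime_two
  obtain ⟨S, h1, hS⟩ := IsSylowIn.exists_ge h.el.isPGroup h.vN
  obtain ⟨z, hz, z1⟩ := exists_mem_ne_one (inf_centralizer_ne_bot_of_isNilpotent
    hS.isPGroup.isNilpotent h1 (hS.le.trans h.nv) fun e => h.ne (le_bot_iff.1 (h.dle.trans e.le)))
  obtain ⟨n, hn, h2⟩ := hs.cov z hz.1
  have h3 : S ≤ n •ᶜ 𝐍(D) := fun s hs' => by
    rw [← normalizer_map_conj, ← map_conj_eq_iff_mem_normalizer, cj_cj]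
    refine ti_cj hs.ti (mul_mem (hS.le hs') hn) hn ?_ h2 z1
    rw [← cj_cj]
    convert conj_mem_map_conj (g := s) h2 using 1
    rw [mem_cent.1 hz.2 s hs', mul_inv_cancel_right]
  have h4 := odd_relIndex_of_sylow hS h3 hS.le le_rfl
  rwa [← cj_eq_of_mem hn, relIndex_cj] at h4

theorem typ {m n : G} (hm : m ∈ N) (hn : n ∈ N) (m1 : m •ᶜ D ≠ D) (n1 : n •ᶜ D ≠ D)
    (e : m •ᶜ D ⊓ T = ⊥ ↔ n •ᶜ D ⊓ T = ⊥) : ∃ k ∈ K, k •ᶜ (m •ᶜ D) = n •ᶜ D := by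
  obtain ⟨a, ha, s, hs1, r, hr, s1, r1, e1, e2⟩ : ∃ a ∈ D, ∃ s ∈ T, ∃ r ∈ T, s ≠ 1 ∧ r ≠ 1 ∧
      s * a ∈ m •ᶜ D ∧ r * a ∈ n •ᶜ D := by
    by_cases e' : m •ᶜ D ⊓ T = ⊥
    · obtain ⟨a, ha, a1⟩ := exists_mem_ne_one h.ne
      obtain ⟨s, b1, b2, b3⟩ := h.cmp' hs.ti hm m1 e' ha a1
      obtain ⟨r, c1, c2, c3⟩ := h.cmp' hs.ti hn n1 (e.1 e') ha a1
      exact ⟨a, ha, s, b1, r, c1, b2, c2, b3, c3⟩
    · obtain ⟨s, b1, b2⟩ := exists_mem_ne_one e'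
      obtain ⟨r, c1, c2⟩ := exists_mem_ne_one (mt e.2 e')
      exact ⟨1, one_mem _, s, b1.2, r, c1.2, b2, c2, by simpa using b1.1, by simpa using c1.1⟩
  obtain ⟨k, hk, e3⟩ := h.mov ha hs1 hr s1 r1
  refine ⟨k, hk, ?_⟩
  rw [cj_cj]
  refine ti_cj hs.ti (mul_mem (h.kN hk) hm) hn ?_ e2 fun e4 => r1 (h.eq1 hr ?_)
  · rw [← cj_cj, ← e3]; exact conj_mem_map_conj e1
  · rw [eq_inv_of_mul_eq_one_left e4]; exact inv_mem ha

omit [Finite G] in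
theorem cent_le {n s a : G} (hn : n ∈ N) (hs1 : s ∈ T) (s1 : s ≠ 1) (ha : a ∈ D)
    (e : s * a ∈ n •ᶜ D) : 𝐂[s] ⊓ K ≤ 𝐍(n •ᶜ D) := fun k hk => by
  rw [← map_conj_eq_iff_mem_normalizer, cj_cj]
  refine ti_cj hs.ti (mul_mem (h.kN hk.2) hn) hn ?_ e fun e4 => s1 (h.eq1 hs1 ?_)
  · rw [← cj_cj]
    convert conj_mem_map_conj (g := k) e using 1
    rw [← _root_.conj_mul, mem_cent1.1 hk.1, ← mem_cent.1 (h.kc hk.2) a ha]; group
  · rw [eq_inv_of_mul_eq_one_left e4]; exact inv_mem ha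

variable (hT : N ⊓ 𝐍(D) ≤ 𝐍(T))
include hT

theorem idx {n : G} (hn : n ∈ N) (n1 : n •ᶜ D ≠ D) :
    (𝐍(n •ᶜ D)).relIndex (N ⊓ 𝐍(D)) = (𝐍(n •ᶜ D)).relIndex K := by
  refine GW.relIndex_eq_of_mul (le_inf h.kN (h.kc.trans (cent_le_norm D))) fun x hx => ?_
  obtain ⟨k, hk, e⟩ := h.typ hs hn (mul_mem hx.1 hn) n1 (by
    rw [← cj_cj, Ne, cj_eq_iff, map_conj_eq_of_mem_normalizer (inv_mem hx.2)]; exact n1) (by
    rw [← cj_cj, ← cj_eq_bot_iff (g := x), map_conj_inf, map_conj_eq_of_mem_normalizer (hT hx)])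
  refine ⟨k, hk, k⁻¹ * x, ?_, by group⟩
  rw [← map_conj_eq_iff_mem_normalizer, ← cj_cj, cj_cj x, ← e, cj_cj, cj_cj, inv_mul_cancel,
    one_mul]

theorem noswap {g : G} (hg : g ∈ N) (e : g •ᶜ (g •ᶜ D) = D) : g •ᶜ D = D := by
  by_contra g1
  obtain ⟨x, hx, x1⟩ := exists_mem_ne_one (X := g •ᶜ D) (by rw [Ne, cj_eq_bot_iff]; exact h.ne)
  obtain ⟨s, hs1, a, ha, rfl⟩ := h.dec (h.cj_le hg h.dle hx)
  have s1 : s ≠ 1 := by
    rintro rfl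
    exact g1 (ti_one hs.ti hg (by simpa using ha) hx x1)
  have h1 : Odd ((𝐍(g •ᶜ D)).relIndex (N ⊓ 𝐍(D))) := by
    rw [h.idx hs hT hg g1]
    refine Odd.of_dvd_nat (h.odd_cent hs1 s1) ?_
    rw [← inf_relIndex_right 𝐂[s]]
    exact relIndex_dvd_of_le_left K (h.cent_le hs hg hs1 s1 ha hx)
  have h2 : Odd ((N ⊓ 𝐍(D) ⊓ 𝐍(g •ᶜ D)).relIndex N) := by
    rw [← relIndex_mul_relIndex _ (N ⊓ 𝐍(D)) N inf_le_left inf_le_left, inf_relIndex_left,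
      inf_relIndex_left]
    exact h1.mul (h.odd_norm hs)
  refine g1 (map_conj_eq_of_mem_normalizer (mem_of_odd_idx (inf_le_left.trans inf_le_left) h2 hg
    ?_ ⟨⟨mul_mem hg hg, ?_⟩, ?_⟩).1.2)
  · rw [← map_conj_eq_iff_mem_normalizer, map_conj_inf, map_conj_inf, cj_eq_of_mem hg,
      ← normalizer_map_conj, ← normalizer_map_conj, e, inf_right_comm]
  · exact map_conj_eq_iff_mem_normalizer.1 (by rw [← cj_cj, e])
  · exact map_conj_eq_iff_mem_normalizer.1 (by rw [← cj_cj, e])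

theorem rev {n : G} (hn : n ∈ N) (n1 : n •ᶜ D ≠ D) (n2 : n⁻¹ •ᶜ D ≠ D) :
    ¬ (n •ᶜ D ⊓ T = ⊥ ↔ n⁻¹ •ᶜ D ⊓ T = ⊥) := fun e => by
  obtain ⟨k, hk, e1⟩ := h.typ hs hn (inv_mem hn) n1 n2 e
  have e2 : (n * k) •ᶜ D = n •ᶜ D := by rw [← cj_cj, h.kd hk]
  refine n1 (e2.symm.trans (h.noswap hs hT (mul_mem hn (h.kN hk)) ?_))
  rw [e2, ← cj_cj, e1, cj_cj, mul_inv_cancel, cj_one']

theorem card_two : Nat.card D = 2 := by
  obtain ⟨t, ht, t1⟩ := exists_mem_ne_one h.tne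
  obtain ⟨n, hn, h1⟩ := hs.cov t (h.tle ht)
  have n1 : n •ᶜ D ≠ D := fun e => t1 (h.eq1 ht (e.le h1))
  have n2 : n⁻¹ •ᶜ D ≠ D := fun e => n1 (cj_eq_iff.2 e.symm)
  have h2 : n •ᶜ D ⊓ T ≠ ⊥ := fun e => t1 (eq_one_of_mem_inf e h1 ht)
  have h3 : n⁻¹ •ᶜ D ⊓ T = ⊥ := by
    have := h.rev hs hT hn n1 n2
    tauto
  have h4 : n •ᶜ D ≤ T := fun x hx => by
    obtain ⟨s, hs1, a, ha, rfl⟩ := h.dec (h.cj_le hn h.dle hx)
    by_cases a1 : a = 1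
    · simpa [a1] using hs1
    have s1 : s ≠ 1 := by
      rintro rfl
      exact n1 (ti_one hs.ti hn ha (by simpa using hx) a1)
    obtain ⟨r, hr, r1, e⟩ := h.cmp' hs.ti (inv_mem hn) n2 h3 ha a1
    obtain ⟨k, hk, e1⟩ := h.mov ha hr hs1 r1 s1
    have e2 : (k * n⁻¹) •ᶜ D = n •ᶜ D := ti_cj hs.ti (mul_mem (h.kN hk) (inv_mem hn)) hn
      (by rw [← cj_cj, ← e1]; exact conj_mem_map_conj e) hx fun e4 => s1 (h.eq1 hs1 (by
        rw [eq_inv_of_mul_eq_one_left e4]; exact inv_mem ha))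
    refine absurd ?_ h2
    rw [← e2, ← cj_cj, ← map_conj_eq_of_mem_normalizer (h.kn hk), ← map_conj_inf, h3, Subgroup.map_bot]
  have h5 : (𝐍(n •ᶜ D)).relIndex (N ⊓ 𝐍(D)) = (𝐍(n⁻¹ •ᶜ D)).relIndex (N ⊓ 𝐍(D)) := by
    have b1 := card_inf_mul_relIndex 𝐍(n •ᶜ D) (N ⊓ 𝐍(D))
    have b2 := card_inf_mul_relIndex 𝐍(n⁻¹ •ᶜ D) (N ⊓ 𝐍(D))
    have b3 : 𝐍(n •ᶜ D) ⊓ (N ⊓ 𝐍(D)) = n •ᶜ (𝐍(n⁻¹ •ᶜ D) ⊓ (N ⊓ 𝐍(D))) := by
      rw [map_conj_inf, map_conj_inf, cj_eq_of_mem hn, ← normalizer_map_conj,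
        ← normalizer_map_conj, cj_cj, mul_inv_cancel, cj_one']
      ac_rfl
    rw [b3, card_map_conj, ← b2] at b1
    exact Nat.eq_of_mul_eq_mul_left Nat.card_pos b1
  obtain ⟨a, ha, a1⟩ := exists_mem_ne_one h.ne
  obtain ⟨s, hs1, s1, e⟩ := h.cmp' hs.ti (inv_mem hn) n2 h3 ha a1
  have h6 : 𝐍(n⁻¹ •ᶜ D) ⊓ K = 𝐂[s] ⊓ K := by
    refine le_antisymm (fun k hk => ⟨?_, hk.2⟩)
      (le_inf (h.cent_le hs (inv_mem hn) hs1 s1 ha e) inf_le_right)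
    have b1 := mul_mem (conj_mem_of_mem_normalizer hk.1 e) (inv_mem e)
    rw [← _root_.conj_mul, ← mem_cent.1 (h.kc hk.2) a ha, mul_inv_cancel_right,
      show k * s * k⁻¹ * a * (s * a)⁻¹ = k * s * k⁻¹ * s⁻¹ by group] at b1
    have b2 := eq_one_of_mem_inf h3 b1
      (mul_mem (conj_mem_of_mem_normalizer (h.kn hk.2) hs1) (inv_mem hs1))
    exact mem_cent1.2 (mul_inv_eq_iff_eq_mul.1 (mul_inv_eq_one.1 b2))
  rw [h.idx hs hT hn n1, h.idx hs hT (inv_mem hn) n2, ← inf_relIndex_right 𝐍(n⁻¹ •ᶜ D), h6,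
    inf_relIndex_right, Nat.add_right_cancel ((h.idx_cent hs1 s1).trans
      (h.idx_cent ht t1).symm)] at h5
  have h7 : 𝐂[t] ⊓ K = 𝐍(n •ᶜ D) ⊓ K := by
    refine eq_of_le_of_card_ge (le_inf (h.cent_le hs hn ht t1 (one_mem D) (by simpa using h1))
      inf_le_right) (le_of_eq ?_)
    have b1 := card_inf_mul_relIndex 𝐍(n •ᶜ D) K
    rw [h5, ← card_inf_mul_relIndex 𝐂[t] K] at b1
    exact Nat.eq_of_mul_eq_mul_right (Nat.pos_of_ne_zero (H1.relIndex_ne_zero' _ _)) b1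
  rw [← card_map_conj n, ← card_zpowers_inv (h.el.ord (h.tle ht) t1)]
  congr 2
  refine le_antisymm (fun x hx => ?_) (zpowers_le.2 h1)
  by_cases x1 : x = 1
  · rw [x1]; exact one_mem _
  obtain ⟨k, hk, rfl⟩ := h.tr t ht x (h4 hx) t1 x1
  have b1 : k ∈ 𝐍(n •ᶜ D) := by
    rw [← map_conj_eq_iff_mem_normalizer, cj_cj]
    exact ti_cj hs.ti (mul_mem (h.kN hk) hn) hn
      (by rw [← cj_cj]; exact conj_mem_map_conj h1) hx x1
  rw [mem_cent1.1 (h7.ge ⟨b1, hk⟩).1, mul_inv_cancel_right]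
  exact mem_zpowers t

theorem eq_of_mem {a b : G} (ha : a ∈ D) (hb : b ∈ D) (a1 : a ≠ 1) (b1 : b ≠ 1) : a = b := by
  have h1 := h.el.ord (h.dle hb) b1
  have h2 := eq_of_le_of_card_ge (zpowers_le.2 hb)
    (by rw [h.card_two hs hT, card_zpowers_inv h1])
  exact ((mem_zpowers_inv h1).1 (h2.ge ha)).resolve_left a1

theorem odd_idx : Odd ((𝐂(V)).relIndex N) := by
  refine odd_idx_of_sq (h.nv.trans (norm_le_norm_cent V)) fun g hg g2 => mem_cent.2 fun v hv => ?_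
  by_cases v1 : v = 1
  · simp [v1]
  obtain ⟨m, hm, h1⟩ := hs.cov v hv
  have h2 := h.noswap hs hT (g := m⁻¹ * g * m) (mul_mem (mul_mem (inv_mem hm) hg) hm) (by
    rw [cj_cj]
    refine cj_eq_of_mem_cent (centralizer_le h.dle ?_)
    convert conj_mem_of_mem_normalizer (norm_le_norm_cent V (inv_mem (h.nv hm))) g2 using 1
    group)
  have h3 := mem_map_conj_iff.1 h1
  have h5 : m⁻¹ * v * m ≠ 1 := fun e => v1 (by
    rw [← conj_eq_one_iff (a := m⁻¹), inv_inv, e])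
  have h4 := h.eq_of_mem hs hT (h2.le (conj_mem_map_conj h3)) h3
    (fun e => h5 (conj_eq_one_iff.1 e)) h5
  calc v * g = m * (m⁻¹ * v * m) * m⁻¹ * g := by group
    _ = _ := by rw [← h4]; group

theorem shape2 : Odd ((𝐂(V)).relIndex N) ∧ Nat.card D = 2 ∧ Nat.card T = 4 := by
  classical
  refine ⟨h.odd_idx hs hT, h.card_two hs hT, ?_⟩
  obtain ⟨a, ha, a1⟩ := exists_mem_ne_one h.ne
  obtain ⟨t, ht, t1⟩ := exists_mem_ne_one h.tne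
  obtain ⟨k, hk⟩ := (h.el.mono h.tle).isPGroup.exists_card_eq
  have h1 : ∀ u ∈ V, u ≠ 1 → ∃ n ∈ N, n * a * n⁻¹ = u := fun u hu u1 => by
    obtain ⟨n, hn, b, hb, rfl⟩ := hs.cov u hu
    exact ⟨n, hn, by rw [h.eq_of_mem hs hT ha hb a1 (by rintro rfl; simp at u1)]; rfl⟩
  obtain ⟨f, hf⟩ := hupN h.el h.nv (h.odd_idx hs hT) (fun u hu v hv u1 v1 => by
    obtain ⟨p, hp, rfl⟩ := h1 u hu u1
    obtain ⟨q, hq, rfl⟩ := h1 v hv v1
    exact ⟨q * p⁻¹, mul_mem hq (inv_mem hp), by group⟩) (h.dle ha) a1 (m := k + 1)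
    (by rw [h.card, h.card_two hs hT, hk, pow_succ]) (by omega) (h.tle ht)
  have h9 : Nat.card T ≤ k + 1 + 1 := by
    have : (T : Set G) ⊆ (insert 1 ((Finset.range (k + 1)).image f) : Finset G) := fun x hx => by
      by_cases e : x = 1
      · simp [e]
      obtain ⟨c, hc, rfl⟩ := h.tr t ht x hx t1 e
      obtain ⟨j, hj, e'⟩ := hf c ⟨h.kN hc, cent_le_cent1 ha (h.kc hc)⟩
      simp only [Finset.coe_insert, Finset.coe_image, Finset.coe_range, Set.mem_insert_iff]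
      exact Or.inr ⟨j, hj, e'.symm⟩
    have := Set.ncard_le_ncard this
    rw [Set.ncard_coe_finset] at this
    exact this.trans ((Finset.card_insert_le _ _).trans
      (Nat.succ_le_succ (Finset.card_image_le.trans (Finset.card_range _).le)))
  have h4 := h.four
  rw [hk] at h4 h9 ⊢
  have h6 : 2 ≤ k := (Nat.pow_le_pow_iff_right one_lt_two).1 h4
  have h10 : ∀ j, j + 3 + 1 + 1 < 2 ^ (j + 3) := fun j => by
    induction j with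
    | zero => norm_num
    | succ j ih => rw [add_right_comm j, pow_succ]; omega
  rcases h6.eq_or_lt with rfl | h7
  · rfl
  obtain ⟨j, rfl⟩ := Nat.exists_eq_add_of_le' (show 3 ≤ k from h7)
  have := h10 j
  omega

end Sh

end CfsgLib.HI
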